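import Cfsg.Agent.FS.Lift

/-! Central products. -/

set_option autoImplicit false
set_option linter.unusedSectionVars false

namespace CfsgFS

open Subgroup Cfsg Cfsg.FusionSystem CfsgH9
open CfsgH2 (resIn)
open scoped commutatorElement

variable {p : ℕ} {Ω : Type*} [Group Ω] {S T T' T₁ T₂ : Subgroup Ω} {F : FusionSystem S} {D : FusionSystem T}
  {E₁ : FusionSystem T₁} {E₂ : FusionSystem T₂} {P Q R U W P₁ P₂ : Subgroup Ω} {f g f₁ f₂ : Ω → Ω}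

/-- function-level central products -/
structure CP (E₁ : FusionSystem T₁) (E₂ : FusionSystem T₂) (D : FusionSystem T) : Prop where
  top : T = T₁ ⊔ T₂
  comm : T₂ ≤ CC(T₁)
  z1 : E₁.IsCentral (T₁ ⊓ T₂)
  z2 : E₂.IsCentral (T₁ ⊓ T₂)
  iff : ∀ P f, Mor D P f ↔ ∃ P₁ P₂ f₁ f₂, Mor E₁ P₁ f₁ ∧ Mor E₂ P₂ f₂ ∧
    ∀ x ∈ P, ∃ a ∈ P₁, ∃ b ∈ P₂, x = a * b ∧ f x = f₁ a * f₂ b

theorem cent_swap (h : T₂ ≤ CC(T₁)) : T₁ ≤ CC(T₂) := fun _ ha _ hb => (h hb _ ha).symm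

namespace CP
variable (h : CP E₁ E₂ D)
include h

theorem symm : CP E₂ E₁ D := by
  refine ⟨h.top.trans (sup_comm _ _), cent_swap h.comm, inf_comm T₁ T₂ ▸ h.z2, inf_comm T₁ T₂ ▸ h.z1,
    fun P f => (h.iff P f).trans ⟨?_, ?_⟩⟩
  all_goals
    rintro ⟨P₁, P₂, f₁, f₂, a, b, c⟩
    refine ⟨P₂, P₁, f₂, f₁, b, a, fun x hx => ?_⟩
    obtain ⟨u, hu, v, hv, e1, e2⟩ := c x hx
  · exact ⟨v, hv, u, hu, e1.trans (h.comm (b.le hv) _ (a.le hu)), e2.trans (h.comm (b.mem hv) _ (a.mem hu))⟩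
  · exact ⟨v, hv, u, hu, e1.trans (h.comm (a.le hu) _ (b.le hv)).symm, e2.trans (h.comm (a.mem hu) _ (b.mem hv)).symm⟩

theorem le1 : T₁ ≤ T := h.top ▸ le_sup_left
theorem le2 : T₂ ≤ T := h.top ▸ le_sup_right
theorem dec {x : Ω} (hx : x ∈ T) : ∃ a ∈ T₁, ∃ b ∈ T₂, x = a * b := (mem_sup_cent h.comm).1 (h.top ▸ hx)

theorem wd (h1 : Mor E₁ P₁ f₁) (h2 : Mor E₂ P₂ f₂) {a b c d : Ω} (ha : a ∈ P₁) (hb : b ∈ P₂) (hc : c ∈ P₁) (hd : d ∈ P₂)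
    (e : a * b = c * d) : f₁ a * f₂ b = f₁ c * f₂ d := by
  have e1 : c⁻¹ * a = d * b⁻¹ := by rw [inv_mul_eq_iff_eq_mul, ← mul_assoc, ← e, mul_inv_cancel_right]
  have z : c⁻¹ * a ∈ T₁ ⊓ T₂ := ⟨h1.le (mmul (minv hc) ha), e1 ▸ h2.le (mmul hd (minv hb))⟩
  have e2 := Cn.fix h.z1 h1 (mmul (minv hc) ha) z
  have e3 := Cn.fix h.z2 h2 (mmul hd (minv hb)) (e1 ▸ z)
  rw [h1.mul (minv hc) ha, h1.inv hc, e1, ← e3, h2.mul hd (minv hb), h2.inv hb] at e2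
  rw [inv_mul_eq_iff_eq_mul.1 e2]; group

theorem mor (h1 : Mor E₁ P₁ f₁) (h2 : Mor E₂ P₂ f₂) :
    ∃ f, Mor D (P₁ ⊔ P₂) f ∧ ∀ a ∈ P₁, ∀ b ∈ P₂, f (a * b) = f₁ a * f₂ b := by
  have : ∀ x, ∃ a b, x ∈ P₁ ⊔ P₂ → a ∈ P₁ ∧ b ∈ P₂ ∧ x = a * b := fun x => by
    by_cases hx : x ∈ P₁ ⊔ P₂
    · obtain ⟨a, ha, b, hb, e⟩ := (mem_sup_cent (h2.le.trans (h.comm.trans (centralizer_le h1.le)))).1 hx
      exact ⟨a, b, fun _ => ⟨ha, hb, e⟩⟩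
    · exact ⟨1, 1, fun k => (hx k).elim⟩
  choose a b k using this
  refine ⟨fun x => f₁ (a x) * f₂ (b x), (h.iff _ _).2 ⟨_, _, _, _, h1, h2, fun x hx =>
    ⟨_, (k x hx).1, _, (k x hx).2.1, (k x hx).2.2, rfl⟩⟩, fun u hu v hv => ?_⟩
  have := k _ (mmul (mem_sup_left hu) (mem_sup_right hv))
  exact h.wd h1 h2 this.1 this.2.1 hu hv this.2.2.symm

theorem cz1 : Cz D E₁ T₂ := ⟨le_inf h.le2 h.comm, fun P f hf => by
  obtain ⟨g, g1, g2⟩ := h.mor hf (mor_id E₂ le_rfl)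
  exact ⟨g, g1, fun x hx => by simpa using g2 x hx 1 (one_mem _), fun y hy => by simpa [hf.one] using g2 1 (one_mem _) y hy⟩⟩

theorem sub1 : E₁.IsSubsystemOf D := subsystem_iff.2 fun P f hf =>
  let ⟨_, g1, g2, _⟩ := h.cz1.ext P f hf; (g1.restrict le_sup_left).congr g2

theorem full1 : Full E₁ D := fun P f => ⟨fun k => ⟨k.sub h.sub1, k.le⟩, fun ⟨k, l⟩ => by
  obtain ⟨P₁, P₂, f₁, f₂, a, b, c⟩ := (h.iff P f).1 k
  obtain ⟨g, g1, g2, g3⟩ := Cn.ext h.z1 a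
  have key : ∀ x ∈ P, x ∈ P₁ ⊔ T₁ ⊓ T₂ ∧ g x = f x := fun x hx => by
    obtain ⟨u, hu, v, hv, rfl, e2⟩ := c x hx
    have z : v ∈ T₁ ⊓ T₂ := ⟨by simpa using mmul (minv (a.le hu)) (l hx), b.le hv⟩
    exact ⟨mmul (mem_sup_left hu) (mem_sup_right z), by
      rw [e2, g1.mul (mem_sup_left hu) (mem_sup_right z), g2 u hu, g3 v z, Cn.fix h.z2 b hv z]⟩
  exact (g1.restrict fun x hx => (key x hx).1).congr fun x hx => (key x hx).2⟩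

theorem sc1 : D.StronglyClosed T₁ := sc_iff.2 ⟨h.le1, fun P f hf x hx k =>
  ((h.full1 _ _).2 ⟨hf.restrict inf_le_left, inf_le_right⟩).mem ⟨hx, k⟩⟩

theorem le_of (h1 : Cz F E₁ T₂) (h2 : Cz F E₂ T₁) : D.IsSubsystemOf F := subsystem_iff.2 fun P f hf => by
  obtain ⟨P₁, P₂, f₁, f₂, a, b, c⟩ := (h.iff P f).1 hf
  obtain ⟨g, g1, g2, g3⟩ := h1.ext _ _ a
  obtain ⟨k, k1, k2, k3⟩ := h2.ext _ _ b
  have key : ∀ x ∈ P, x ∈ P₁ ⊔ T₂ ∧ g x ∈ P₂ ⊔ T₁ ∧ k (g x) = f x := fun x hx => by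
    obtain ⟨u, hu, v, hv, rfl, e2⟩ := c x hx
    rw [g1.mul (mem_sup_left hu) (mem_sup_right (b.le hv)), g2 u hu, g3 v (b.le hv),
      k1.mul (mem_sup_right (a.mem hu)) (mem_sup_left hv), k2 v hv, k3 _ (a.mem hu), e2]
    exact ⟨mmul (mem_sup_left hu) (mem_sup_right (b.le hv)), mmul (mem_sup_right (a.mem hu)) (mem_sup_left hv), rfl⟩
  exact ((g1.restrict fun x hx => (key x hx).1).comp k1 fun x hx => (key x hx).2.1).congr fun x hx => (key x hx).2.2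

theorem mono {U₁ U₂ : Subgroup Ω} {D₁ : FusionSystem U₁} {D₂ : FusionSystem U₂} {D' : FusionSystem T'}
    (h' : CP D₁ D₂ D') (l1 : E₁.IsSubsystemOf D₁) (l2 : E₂.IsSubsystemOf D₂) : D.IsSubsystemOf D' :=
  subsystem_iff.2 fun P f hf =>
    let ⟨P₁, P₂, f₁, f₂, a, b, c⟩ := (h.iff P f).1 hf
    (h'.iff P f).2 ⟨P₁, P₂, f₁, f₂, a.sub l1, b.sub l2, c⟩

theorem nrm1 [Finite T] [Fact p.Prime] (hD : Sat D p) (h1 : Sat E₁ p) : Nrm E₁ D p := by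
  refine ⟨⟨h.full1.inv h.sc1, h1.sat, hD⟩, fun α hα => ?_⟩
  obtain ⟨g, g1, g2, g3⟩ := h.cz1.ext _ _ ((mem_autGroup le_rfl).1 hα)
  refine ⟨g, g1.restrict ((sup_le h.le1 centralizerIn_le).trans h.top.le), g2, fun c hc => ?_⟩
  obtain ⟨a, ha, b, hb, rfl⟩ := h.dec hc.1
  rw [g1.mul (mem_sup_left ha) (mem_sup_right hb), g2 a ha, g3 b hb]
  have := inv_conj_mem_of_mem_normalizer (SC.norm h.sc1 (h.le2 hb)) (mmul (minv ha) (ap_mem α ha))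
  convert this using 1; group

end CP

theorem homOn_mul (h : T₂ ≤ CC(T₁)) : HomOn (T₁.prod T₂) fun x : Ω × Ω => x.1 * x.2 := fun x hx y hy => by
  show x.1 * y.1 * (x.2 * y.2) = x.1 * x.2 * (y.1 * y.2)
  rw [mul_assoc, mul_assoc, ← mul_assoc y.1, h hx.2 _ hy.1, mul_assoc]

theorem im_mul (h : T₂ ≤ CC(T₁)) : im (T₁.prod T₂) (fun x : Ω × Ω => x.1 * x.2) = T₁ ⊔ T₂ :=
  le_antisymm (im_le.2 fun _ hx => mmul (mem_sup_left hx.1) (mem_sup_right hx.2)) fun x hx => by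
    obtain ⟨a, ha, b, hb, rfl⟩ := (mem_sup_cent h).1 hx
    exact mem_im_of_mem (fun x : Ω × Ω => x.1 * x.2) (x := (a, b)) ⟨ha, hb⟩

theorem cp_of_fac {D₀ : FusionSystem (T₁.prod T₂)} (h0 : IsProd E₁ E₂ D₀) {θ : Ω × Ω → Ω} (hf : Fac D₀ D θ)
    (e : ∀ x ∈ T₁.prod T₂, θ x = x.1 * x.2) (c : T₂ ≤ CC(T₁)) (z1 : E₁.IsCentral (T₁ ⊓ T₂))
    (z2 : E₂.IsCentral (T₁ ⊓ T₂)) : CP E₁ E₂ D := by
  have top : T = T₁ ⊔ T₂ := by rw [← hf.surj, im_congr e, im_mul c]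
  refine ⟨top, c, z1, z2, fun P f => (hf.iff P f).trans ⟨?_, ?_⟩⟩
  · rintro ⟨l, k, k1, k2⟩
    obtain ⟨f₁, f₂, a, b, d⟩ := (h0 _ _).1 k1
    refine ⟨_, _, f₁, f₂, a, b, fun x hx => ?_⟩
    obtain ⟨u, hu, v, hv, rfl⟩ := (mem_sup_cent c).1 (top ▸ l hx)
    have m : (u, v) ∈ pre (T₁.prod T₂) θ P := mem_pre_of ⟨hu, hv⟩ (by rwa [e _ ⟨hu, hv⟩])
    have := k2 _ m
    rw [e _ ⟨hu, hv⟩, e _ (k1.mem m), d _ m] at this
    exact ⟨u, fst_mem m, v, snd_mem m, rfl, this⟩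
  · rintro ⟨P₁, P₂, f₁, f₂, a, b, d⟩
    obtain ⟨g, g1, g2, g3⟩ := Cn.ext z1 a
    obtain ⟨k, k1, k2, k3⟩ := Cn.ext z2 b
    have key : ∀ x ∈ pre (T₁.prod T₂) θ P, x ∈ (P₁ ⊔ T₁ ⊓ T₂).prod (P₂ ⊔ T₁ ⊓ T₂) ∧ f (θ x) = g x.1 * k x.2 := by
      rintro ⟨u, v⟩ hx
      obtain ⟨⟨hu, hv⟩, x2⟩ := (mem_pre hf.hom).1 hx
      rw [e _ ⟨hu, hv⟩] at x2 ⊢
      obtain ⟨s, hs, t, ht, e1, e2⟩ := d _ x2
      have e3 : s⁻¹ * u = t * v⁻¹ := by rw [inv_mul_eq_iff_eq_mul, ← mul_assoc, ← e1, mul_inv_cancel_right]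
      have z : s⁻¹ * u ∈ T₁ ⊓ T₂ := ⟨mmul (minv (a.le hs)) hu, e3 ▸ mmul (b.le ht) (minv hv)⟩
      have eu : u = s * (s⁻¹ * u) := by group
      have ev : v = (s⁻¹ * u)⁻¹ * t := by rw [e3]; group
      generalize s⁻¹ * u = z' at *
      subst eu ev
      refine ⟨⟨mmul (mem_sup_left hs) (mem_sup_right z), mmul (mem_sup_right (minv z)) (mem_sup_left ht)⟩, ?_⟩
      rw [e2]
      show _ = g (s * z') * k (z'⁻¹ * t)
      rw [g1.mul (mem_sup_left hs) (mem_sup_right z), k1.mul (mem_sup_right (minv z)) (mem_sup_left ht), g2 s hs,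
        g3 _ z, k2 t ht, k3 _ (minv z)]; group
    have m := h0.mor g1 k1 fun x hx => (key x hx).1
    refine ⟨fun x hx => ?_, _, m, fun x hx => by rw [e _ (m.mem hx)]; exact (key x hx).2⟩
    obtain ⟨s, hs, t, ht, rfl, -⟩ := d _ hx
    exact top ▸ mmul (mem_sup_left (a.le hs)) (mem_sup_right (b.le ht))

variable [Fact p.Prime]

theorem exists_cp' [Finite T₁] [Finite T₂] (h1 : Sat E₁ p) (h2 : Sat E₂ p) (top : T = T₁ ⊔ T₂) (c : T₂ ≤ CC(T₁))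
    (z1 : E₁.IsCentral (T₁ ⊓ T₂)) (z2 : E₂.IsCentral (T₁ ⊓ T₂)) :
    ∃ D : FusionSystem T, CP E₁ E₂ D ∧ Sat D p ∧ IsCentralProductOf E₁ E₂ D := by
  obtain ⟨D₀, h0⟩ := exists_prod E₁ E₂
  have s0 := h0.sat h1 h2
  have hθ := homOn_mul c
  have e : ∀ x ∈ T₁.prod T₂, ext hθ.toHom x = x.1 * x.2 := fun x hx => ext_toHom hθ hx
  have mk : ∀ x ∈ pre (T₁.prod T₂) (ext hθ.toHom) ⊥, x.1 ∈ T₁ ⊓ T₂ ∧ x.2 ∈ T₁ ⊓ T₂ ∧ x.1 * x.2 = 1 := fun x hx => by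
    obtain ⟨a, b⟩ := (mem_ker (homOn_ext _)).1 hx
    rw [e x a] at b
    exact ⟨⟨a.1, eq_inv_of_mul_eq_one_left b ▸ minv a.2⟩, ⟨eq_inv_of_mul_eq_one_right b ▸ minv a.1, a.2⟩, b⟩
  have cn : D₀.IsCentral (pre (T₁.prod T₂) (ext hθ.toHom) ⊥) := s0.cn_of_fix pre_le fun P f hf x hx k => by
    obtain ⟨f₁, f₂, a, b, d⟩ := (h0 _ _).1 hf
    rw [d x hx, Cn.fix z1 a (fst_mem hx) (mk x k).1, Cn.fix z2 b (snd_mem hx) (mk x k).2.1]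
  have sc := Nm.sc (Cn.nm cn)
  obtain ⟨D, hD⟩ := exists_fac D₀ (homOn_ext hθ.toHom) sc (S' := T) (by rw [im_congr e, im_mul c, top])
  refine ⟨D, cp_of_fac h0 hD e c z1 z2, (hD.fsurj s0 sc).sat s0, D₀, prod_iff.2 h0, _, hθ.toHom, Cn.le_center cn,
    eq_bot_iff.2 fun x hx => ?_, eq_bot_iff.2 fun x hx => ?_, fun x _ => mul_one x, fun x _ => one_mul x,
    factor_iff.2 ⟨rfl, hD⟩⟩
  · have a := (mk x hx.1).2.2
    have b : x.2 = 1 := hx.2.2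
    rw [b, mul_one] at a
    exact Prod.ext a b
  · have a := (mk x hx.1).2.2
    have b : x.1 = 1 := hx.2.1
    rw [b, one_mul] at a
    exact Prod.ext b a

theorem cp_iff [Finite T₁] [Finite T₂] (h1 : Sat E₁ p) (h2 : Sat E₂ p) : IsCentralProductOf E₁ E₂ D ↔ CP E₁ E₂ D := by
  refine ⟨fun ⟨D₀, h0, Z, θ, z, _, _, a, b, hf⟩ => ?_, fun h => ?_⟩
  · replace h0 := prod_iff.1 h0
    obtain ⟨k, hf⟩ := factor_iff.1 hf
    have e1 : ∀ x ∈ T₁, ext θ (x, 1) = x := fun x hx => (ext_of_mem θ ⟨hx, one_mem _⟩).trans (a x _)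
    have e2 : ∀ x ∈ T₂, ext θ (1, x) = x := fun x hx => (ext_of_mem θ ⟨one_mem _, hx⟩).trans (b x _)
    have e : ∀ x ∈ T₁.prod T₂, ext θ x = x.1 * x.2 := fun x hx => by
      rw [← e1 _ hx.1, ← e2 _ hx.2, ← hf.hom.mul (x := (x.1, 1)) (y := (1, x.2)) ⟨hx.1, one_mem _⟩ ⟨one_mem _, hx.2⟩]; simp
    have zz : ∀ x ∈ T₁ ⊓ T₂, (x, x⁻¹) ∈ D₀.center := fun x hx => z (k ▸ (mem_ker hf.hom).2
      ⟨⟨hx.1, minv hx.2⟩, by rw [e _ ⟨hx.1, minv hx.2⟩]; simp⟩)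
    refine cp_of_fac h0 hf e (fun y hy x hx => ?_) (h1.cn_of_fix inf_le_left fun P f m x hx c => ?_)
      (h2.cn_of_fix inf_le_right fun P f m x hx c => ?_)
    · have := hf.hom.mul (x := (1, y)) (y := (x, 1)) ⟨one_mem _, hy⟩ ⟨hx, one_mem _⟩
      rw [e1 x hx, e2 y hy, e _ ⟨by simpa using hx, by simpa using hy⟩] at this
      simpa using this
    · exact congrArg Prod.fst (fix_center (zz x c) (h0.mor m (mor_id E₂ le_rfl) le_rfl) ⟨hx, minv c.2⟩)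
    · have := congrArg Prod.snd (fix_center (zz _ (minv c)) (h0.mor (mor_id E₁ le_rfl) m le_rfl)
        ⟨minv c.1, by simpa using hx⟩)
      simpa using this
  · obtain ⟨D', a, -, b⟩ := exists_cp' h1 h2 h.top h.comm h.z1 h.z2
    rwa [fus_antisymm (le_iff_sub.2 (h.mono a (sub_refl _) (sub_refl _)))
      (le_iff_sub.2 (a.mono h (sub_refl _) (sub_refl _)))]

theorem CP.sat [Finite T₁] [Finite T₂] (h : CP E₁ E₂ D) (h1 : Sat E₁ p) (h2 : Sat E₂ p) : Sat D p := by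
  obtain ⟨D', a, b, -⟩ := exists_cp' h1 h2 h.top h.comm h.z1 h.z2
  rwa [fus_antisymm (le_iff_sub.2 (h.mono a (sub_refl _) (sub_refl _)))
    (le_iff_sub.2 (a.mono h (sub_refl _) (sub_refl _)))]

variable [Finite S]

theorem Cz.cn {E : FusionSystem T} [Finite T] (h : Cz F E U) (hE : Sat E p) : E.IsCentral (T ⊓ U) :=
  hE.cn_of_fix inf_le_left fun _ _ m _ hx c => h.fix m hx c.2

theorem cz_inner (h : U ≤ CI(S, T)) (hT : T ≤ S) : Cz F (innerFusionSystem T) U := ⟨h, fun P f hf => by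
  obtain ⟨l, t, t1, t2⟩ := mor_inner_iff.1 hf
  exact ⟨_, mor_conj F (sup_le (l.trans hT) (h.trans centralizerIn_le)) (hT t1), fun x hx => (t2 x hx).symm,
    fun y hy => by rw [(h hy).2 t t1, mul_inv_cancel_right]⟩⟩

theorem exists_cp (h1 : Sat E₁ p) (h2 : Sat E₂ p) (top : T = T₁ ⊔ T₂) (c1 : Cz F E₁ T₂) (c2 : Cz F E₂ T₁) :
    ∃ D : FusionSystem T, CP E₁ E₂ D ∧ Sat D p := by
  have := finite_of_le (c1.le.trans centralizerIn_le)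
  have := finite_of_le (c2.le.trans centralizerIn_le)
  obtain ⟨D, a, b, -⟩ := exists_cp' h1 h2 top (c1.le.trans centralizerIn_le_centralizer) (c1.cn h1)
    (inf_comm T₂ T₁ ▸ c2.cn h2)
  exact ⟨D, a, b⟩

theorem CP.step (h : CP E₁ E₂ D) (h1 : Nrm E₁ F p) (c1 : Cz F E₁ T₂) (sc : F.StronglyClosed T) (hP : P ≤ T)
    (hf : Mor F P f) : ∃ γ ∈ F.autGroup T, ∃ e ψ, Mor D P e ∧ Mor F (P ⊔ T₁) ψ ∧ (∀ x ∈ P, ap γ (e x) ∈ P ⊔ T₁) ∧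
      ∀ x ∈ P, f x = ψ (ap γ (e x)) := by
  have hF := h1.satF
  have := finite_of_le sc.1
  have := finite_of_le h.le1
  have l2 := h.le2.trans sc.1
  have := finite_of_le l2
  obtain ⟨D₁, hD⟩ := exists_ges F E₁ p
  have s1 := hD.sat h1
  have pp := hD.ppi h1.toWNrm
  obtain ⟨X, x1, x2⟩ := Sat.exists_ppi sc.1 s1 (pp.hyp.trans h.le1)
  have si := sat_inner (hF.pg.to_le l2)
  have c2 : Cz F (innerFusionSystem T₂) T₁ := cz_inner (CI_swap c1.le h1.le) l2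
  obtain ⟨D', d1, d2⟩ := exists_cp h1.sat si h.top c1 c2
  have p' : PPI E₁ D' p := ⟨d1.sub1, ConjMod.hyp_le (fun P f hf => by
      obtain ⟨P₁, P₂, f₁, f₂, a, b, c⟩ := (d1.iff P f).1 hf
      obtain ⟨-, t, t1, t2⟩ := mor_inner_iff.1 b
      refine ⟨t, h.le2 t1, fun x hx => ?_⟩
      obtain ⟨u, hu, v, hv, rfl, e⟩ := c x hx
      have := inv_conj_mem_of_mem_normalizer (SC.norm d1.sc1 (h.le2 (mconj t1 (b.le hv))))
        (mmul (minv (a.le hu)) (a.mem hu))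
      rw [e, t2 v hv, ← mul_assoc t, ← h.comm t1 u (a.le hu)]
      convert this using 1; group) d2.pg (SC.norm d1.sc1),
    fun P hP α a _ => ((d1.full1 _ _).2 ⟨(mem_autGroup (hP.trans h.le1)).1 a, hP⟩).mem_autGroup⟩
  have l1 := x2.sub_of d2 (hD.le_of h1.toInv d2 (d1.le_of c1 c2) (d1.nrm1 d2 h1.sat) p') le_rfl
  have l3 := sub_trans (ppi_eq_of_le x1 d2 l1 (pp.of_sub (sub_trans d1.sub1 l1) x2.sub) d1.sub1 h1.sat
    (SC.norm d1.sc1)) (d1.mono h (sub_refl _) (inner_sub E₂ le_rfl))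
  obtain ⟨d, ψ, a1, a2, a3⟩ := hD.frs h1.toInv hF hf
  obtain ⟨γ, b1, e, b2, b3⟩ := (x2.nrm s1 x1 (SC.norm sc)).frat P d hP (a1.morD h1.le)
  exact ⟨γ, autGroup_mono hD.sub sc.1 b1, e, ψ, b2.sub l3, a2, fun x hx => b3 x hx ▸ mem_of_md a1.md le_rfl hx,
    fun x hx => b3 x hx ▸ a3 x hx⟩

theorem CP.nrm (h : CP E₁ E₂ D) (h1 : Nrm E₁ F p) (h2 : Nrm E₂ F p) (c1 : Cz F E₁ T₂) (c2 : Cz F E₂ T₁) :
    Nrm D F p := by
  have hF := h1.satF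
  have sc : F.StronglyClosed T := h.top ▸ hF.sc_sup h1.sc h2.sc
  have := finite_of_le sc.1
  have := finite_of_le h1.le
  have := finite_of_le h2.le
  have sD := h.sat h1.sat h2.sat
  refine WNrm.nrm_of ⟨⟨h.le_of c1 c2, sc, fun P f hf α hα => ?_, fun P f hP hf => ?_⟩, sD.sat, hF⟩ fun α a b _ => ?_
  · obtain ⟨P₁, P₂, f₁, f₂, a, b, c⟩ := (h.iff P f).1 hf
    have m := (mem_autGroup sc.1).1 hα
    obtain ⟨g, -, g2⟩ := mor_conjugate (hf.sub (h.le_of c1 c2)) m hf.le fun x => hf.mem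
    obtain ⟨g₁, a1, a2⟩ := h1.sinv _ _ _ _ a (m.restrict h.le1) le_rfl a.le fun x => a.mem
    obtain ⟨g₂, b1, b2⟩ := h2.sinv _ _ _ _ b (m.restrict h.le2) le_rfl b.le fun x => b.mem
    refine ⟨g, (h.iff _ _).2 ⟨_, _, g₁, g₂, a1, b1, fun y hy => ?_⟩, g2⟩
    obtain ⟨x, hx, rfl⟩ := (m.restrict hf.le).mem_im.1 hy
    obtain ⟨u, hu, v, hv, rfl, e⟩ := c x hx
    exact ⟨_, mem_im_of_mem _ hu, _, mem_im_of_mem _ hv, m.mul (h.le1 (a.le hu)) (h.le2 (b.le hv)), by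
      rw [g2 _ hx, e, a2 u hu, b2 v hv, m.mul (h.le1 (a.mem hu)) (h.le2 (b.mem hv))]⟩
  · obtain ⟨γ, a1, e, ψ, a2, a3, a4, a5⟩ := h.step h1 c1 sc hP hf
    have l := sup_le hP h.le1
    have m := (mem_autGroup sc.1).1 (minv a1)
    have i := Mor.iso' m l
    obtain ⟨δ, b1, e', χ, b2, b3, b4, b5⟩ := h.symm.step h2 c2 sc (im_ap_le l γ⁻¹)
      ((((mem_autGroup sc.1).1 a1).restrict (im_ap_le l γ⁻¹)).comp a3 fun y hy => by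
        obtain ⟨x, hx, rfl⟩ := i.surj hy
        rwa [ap_ap_inv])
    have l' : T ≤ im (P ⊔ T₁) (ap γ⁻¹) ⊔ T₂ := h.top.le.trans (sup_le_sup_right
      ((SC.im_eq h1.sc m h.le1).ge.trans (im_mono le_sup_right)) _)
    obtain ⟨ε, d1, d2⟩ := ((b3.restrict l').iso_self fun x hx => SC.mem sc b3 (l' hx) hx).exists_aut
    have k : ∀ x ∈ P, e x ∈ im (P ⊔ T₁) (ap γ⁻¹) := fun x hx => ap_inv_ap γ (e x) ▸ i.mem (a4 x hx)
    exact ⟨ε * δ, mmul d1 b1, _, a2.comp b2 k, fun x hx => by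
      rw [ap_mul, d2 _ (ap_mem _ (b2.mem (k x hx))), ← b5 _ (k x hx), a5 x hx]⟩
  · have key : ∀ {T₁ T₂ : Subgroup Ω} {E₁ : FusionSystem T₁} {E₂ : FusionSystem T₂}, CP E₁ E₂ D → Nrm E₁ F p →
        Cz F E₁ T₂ → ∃ g, Mor F (T ⊔ CI(S, T)) g ∧ (∀ x ∈ T₁, g x = ap α x) ∧ (∀ x ∈ T₂, g x = x) ∧
          ∀ x ∈ T ⊔ CI(S, T), x⁻¹ * g x ∈ T := fun {T₁ T₂ E₁ E₂} h h1 c1 => by
      have m := (mem_autGroup le_rfl).1 a
      obtain ⟨α₁, a1, a2, a3⟩ := exists_res_aut h.le1 le_rfl a fun x hx => SC.mem h.sc1 m (h.le1 hx) hx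
      obtain ⟨β, b1, b2⟩ := h1.adm_ext (tc_top h1.sc) ((h.full1 _ _).2 ⟨(mem_autGroup h.le1).1 a1, le_rfl⟩).mem_autGroup
        (b.coprime_dvd_left a3)
      have l : T ⊔ CI(S, T) ≤ T₁ ⊔ CI(S, T₁) := sup_le (h.top.le.trans (sup_le_sup_left c1.le _))
        ((CI_anti h.le1).trans le_sup_right)
      exact ⟨_, b1.mor.restrict l, fun x hx => (b2 x hx).trans (a2 x hx), fun x hx => h1.fix_CE (by
        rw [inf_of_le_right le_sup_left]; exact tc_top h1.sc) b1 (mem_sup_right (c1.le hx)) (h1.le_CE c1 hx),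
        fun x hx => h.le1 (b1.md x (l hx))⟩
    obtain ⟨g, g1, g2, g3, g4⟩ := key h h1 c1
    obtain ⟨k, k1, k2, k3, k4⟩ := key h.symm h2 c2
    have mk : ∀ x ∈ T ⊔ CI(S, T), k x ∈ T ⊔ CI(S, T) := fun x => mem_of_md k4 (sup_le le_rfl le_sup_left)
    refine ⟨_, k1.comp g1 mk, fun x hx => ?_, fun c hc => by
      simpa [mul_assoc] using mmul (k4 c (mem_sup_right hc)) (g4 _ (mk c (mem_sup_right hc)))⟩
    obtain ⟨u, hu, v, hv, rfl⟩ := h.dec hx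
    have av : ap α v ∈ T₂ := SC.mem h.symm.sc1 ((mem_autGroup le_rfl).1 a) (h.le2 hv) hv
    show g (k (u * v)) = _
    rw [k1.mul (mem_sup_left (h.le1 hu)) (mem_sup_left (h.le2 hv)), k3 u hu, k2 v hv,
      g1.mul (mem_sup_left (h.le1 hu)) (mem_sup_left (h.le2 av)), g2 u hu, g3 _ av,
      (homOn_ap α).mul (h.le1 hu) (h.le2 hv)]

theorem Nrm.cz_of_cn {E : FusionSystem T} (h : Nrm E F p) (hR : F.StronglyClosed R) (l : R ≤ CC(T))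
    (z : E.IsCentral (T ⊓ R)) : Cz F E R := h.cz_CE.mono fun y hy => ⟨⟨hR.1 hy, l hy⟩, fun U β c a => by
  have y1 : y ∈ U ⊔ CI(S, U) := mem_sup_right ⟨hR.1 hy, centralizer_le c.1 (l hy)⟩
  have y2 := a.md y y1
  exact fix_of_coprime (h.satF.pg.to_le a.mor.le) a.cop y1 (Cn.fix z a.mE ⟨mmul (minv y1) (ap_mem β y1), y2⟩
    ⟨y2, mmul (minv hy) (SC.mem hR a.mor y1 hy)⟩)⟩

theorem exists_cp_nrm (h1 : Nrm E₁ F p) (h2 : Nrm E₂ F p) (top : T = T₁ ⊔ T₂) (c : T₂ ≤ CC(T₁))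
    (z1 : E₁.IsCentral (T₁ ⊓ T₂)) (z2 : E₂.IsCentral (T₁ ⊓ T₂)) : ∃ D : FusionSystem T, CP E₁ E₂ D ∧ Nrm D F p :=
  have c1 := h1.cz_of_cn h2.sc c z1
  have c2 := h2.cz_of_cn h1.sc (cent_swap c) (inf_comm T₁ T₂ ▸ z2)
  let ⟨D, a, _⟩ := exists_cp h1.sat h2.sat top c1 c2
  ⟨D, a, a.nrm h1 h2 c1 c2⟩

theorem Opp.cn {D : FusionSystem S} (h : Opp D F p) (hR : F.StronglyClosed R) (l : R ≤ CC(S)) : D.IsCentral R := by
  refine (exists_sub F S le_rfl (fun P f => ∀ x ∈ P, x ∈ R → f x = x) ?_ ?_ ?_ ?_).elim fun Y hY => ?_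
  rotate_right
  · refine h.sat.cn_of_fix hR.1 fun P f hf => ((hY P f).1 (hf.sub (h.min S Y le_rfl (fun P c α a b => ?_)
      fun α a P c k => ?_))).2.2.2
    · have m := (mem_autGroup c.1).1 a
      obtain ⟨k, k1, -, s, s1, s2⟩ := h.satF.pel_conj c.1 a b
      exact (hY _ _).2 ⟨m, c.1, fun x => m.mem, fun x hx r => k1.inj (ap_mem α hx) hx (by
        rw [s2 x hx, l (SC.mem hR k1 hx r) s s1.1, mul_inv_cancel_right])⟩
    · have m := (mem_autGroup le_rfl).1 a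
      exact (hY _ _).2 ⟨m, le_rfl, fun x => m.mem, fun x hx r => ((hY _ _).1 k).2.2.2 x
        (centric_le c ⟨hx, centralizer_le c.1 (l r)⟩) r⟩
  · exact fun P f g _ a e x hx r => e x hx ▸ a x hx r
  · exact fun P s _ hs x _ r => by simp only [l r s hs, mul_inv_cancel_right]
  · exact fun P Q f g _ _ _ _ _ a b m x hx r => by
      have := b _ (m x hx) ((a x hx r).symm ▸ r)
      show g (f x) = x
      rw [this, a x hx r]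
  · exact fun P Q f g hf hg _ _ e e' a y hy r => by
      have := a _ (hg.mem hy) (SC.mem hR hg.mor hy r)
      rw [← this, e' y hy]

end CfsgFS
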