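import Cfsg.Agent.FS.Prod2

/-! The centralizer of a normal subsystem. -/

set_option autoImplicit false
set_option linter.unusedSectionVars false

namespace CfsgFS

universe u

open Subgroup Cfsg Cfsg.FusionSystem CfsgH9
open CfsgH2 (resIn)
open scoped commutatorElement

section
variable {p : ℕ} {Ω : Type*} [Group Ω] {S T : Subgroup Ω} {F D : FusionSystem S} {E : FusionSystem T}
  {P Q R U W Y : Subgroup Ω} {f g ψ : Ω → Ω}

/-- `Y` centralizes the subsystem `E` -/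
structure Cz (F : FusionSystem S) (E : FusionSystem T) (Y : Subgroup Ω) : Prop where
  le : Y ≤ CI(S, T)
  ext : ∀ P f, Mor E P f → ∃ g, Mor F (P ⊔ Y) g ∧ (∀ x ∈ P, g x = f x) ∧ ∀ y ∈ Y, g y = y

theorem CI_swap (h : Y ≤ CI(S, T)) (hT : T ≤ S) : T ≤ CI(S, Y) := fun _ hx => ⟨hT hx, fun y hy => ((h hy).2 _ hx).symm⟩

theorem cz_iff (hT : T ≤ S) (h : Y ≤ CI(S, T)) : (∀ P, E.Hom P ⊆ F.centralizerHom Y P) ↔ Cz F E Y :=
  ⟨fun k => ⟨h, fun P f hf => by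
    obtain ⟨-, g, g1, g2, g3⟩ := mem_centralizerHom.1 (k P hf.toHom_mem)
    exact ⟨g, g1, fun x hx => (g2 x hx).trans (ext_toHom _ hx), g3⟩⟩,
   fun k P φ hφ => mem_centralizerHom.2 ⟨(mor_ext hφ).le.trans (CI_swap h hT), k.ext P _ (mor_ext hφ)⟩⟩

theorem cz_iff_cs (hT : T ≤ S) (h : Y ≤ CI(S, T)) {C : FusionSystem CI(S, Y)} (hC : F.IsCentralizerSystem Y C) :
    E.IsSubsystemOf C ↔ Cz F E Y :=
  ⟨fun k => ⟨h, fun _ _ hf => cs_ext hC (hf.sub k)⟩, fun k => subsystem_iff.2 fun P f hf => by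
    obtain ⟨g, g1, g2, g3⟩ := k.ext P f hf
    exact (cs_mor hC g1 le_sup_left le_sup_right (hf.le.trans (CI_swap h hT)) g3).congr g2⟩

theorem Cz.mono (h : Cz F E Y) (l : U ≤ Y) : Cz F E U := ⟨l.trans h.le, fun P f hf =>
  let ⟨g, g1, g2, g3⟩ := h.ext P f hf; ⟨g, g1.restrict (sup_le_sup_left l _), g2, fun y hy => g3 y (l hy)⟩⟩

theorem Cz.sub {E' : FusionSystem U} (h : Cz F E Y) (l : E'.IsSubsystemOf E) : Cz F E' Y :=
  ⟨h.le.trans (inf_le_inf_left _ (centralizer_le (subsystem_le l))), fun P f hf => h.ext P f (hf.sub l)⟩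

theorem Cz.up {F' : FusionSystem U} (h : Cz F E Y) (l : F.IsSubsystemOf F') : Cz F' E Y :=
  ⟨h.le.trans (inf_le_inf_right _ (subsystem_le l)), fun P f hf =>
    let ⟨g, g1, g2⟩ := h.ext P f hf; ⟨g, g1.sub l, g2⟩⟩

theorem Cn.cz (h : F.IsCentral Y) (hE : E.IsSubsystemOf F) : Cz F E Y :=
  ⟨fun _ hy => ⟨h.1 hy, fun x hx => (Cn.cent h (subsystem_le hE hx) _ hy).symm⟩, fun _ _ hf => Cn.ext h (hf.sub hE)⟩

theorem Cz.fix (h : Cz F E Y) (hf : Mor E P f) {x : Ω} (hx : x ∈ P) (hy : x ∈ Y) : f x = x :=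
  let ⟨_, _, g2, g3⟩ := h.ext P f hf; (g2 x hx).symm.trans (g3 x hy)

/-- `C_S(E)` -/
def CE (F : FusionSystem S) (E : FusionSystem T) (p : ℕ) : Subgroup Ω where
  carrier := {y | y ∈ CI(S, T) ∧ ∀ U β, TC F T U → Adm F E p (U ⊔ CI(S, U)) β → ap β y = y}
  one_mem' := ⟨one_mem _, fun _ β _ _ => (homOn_ap β).one⟩
  mul_mem' := fun {a b} ha hb => ⟨mmul ha.1 hb.1, fun U β c k => by
    have l : CI(S, T) ≤ U ⊔ CI(S, U) := (inf_le_inf_left _ (centralizer_le c.1)).trans le_sup_right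
    rw [k.mor.mul (l ha.1) (l hb.1), ha.2 U β c k, hb.2 U β c k]⟩
  inv_mem' := fun {a} ha => ⟨minv ha.1, fun U β c k => by
    have l : CI(S, T) ≤ U ⊔ CI(S, U) := (inf_le_inf_left _ (centralizer_le c.1)).trans le_sup_right
    rw [k.mor.inv (l ha.1), ha.2 U β c k]⟩

theorem CE_le : CE F E p ≤ CI(S, T) := fun _ h => h.1

theorem CI_anti (h : U ≤ T) : CI(S, T) ≤ CI(S, U) := inf_le_inf_left _ (centralizer_le h)

theorem inf_sup_cent_eq (c : TC F T U) (hT : T ≤ S) (hY : Y ≤ CC(U)) : (U ⊔ Y) ⊓ T = U :=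
  le_antisymm (fun _ hx => inf_sup_cent c.1 (c.self hT) hY hx.1 hx.2) (le_inf le_sup_left c.1)

variable [Finite S] [Fact p.Prime]

theorem Adm.res' {α : MulAut P} (a : Adm F E p P α) (hR : R ≤ P) (h : P ⊓ T ≤ R) :
    ∃ β : MulAut R, Adm F E p R β ∧ ∀ x ∈ R, ap β x = ap α x :=
  a.res hR fun x hx => by simpa using mmul hx (h ⟨mmul (minv (hR hx)) (ap_mem α (hR hx)), a.md x (hR hx)⟩)

theorem Nrm.adm_ext (h : Nrm E F p) (c : TC F T U) {α : MulAut U} (hα : α ∈ E.autGroup U) (ho : (orderOf α).Coprime p) :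
    ∃ β, Adm F E p (U ⊔ CI(S, U)) β ∧ ∀ x ∈ U, ap β x = ap α x := by
  obtain ⟨β, ⟨b1, b2⟩, b3, b4⟩ := extG_aut' h.sc c.1 (h.mem_extG U c.1 c hα) ho
  refine ⟨β, ⟨(mem_autGroup (sup_le (c.1.trans h.le) centralizerIn_le)).1 b1, b3, mem_modA.1 b2, ?_⟩, b4⟩
  rw [inf_sup_cent_eq c h.le centralizerIn_le_centralizer]
  exact ((mem_autGroup c.1).1 hα).congr fun x hx => (b4 x hx).symm

theorem Nrm.uq_cent (h : Nrm E F p) (c : TC F T U) {α : MulAut P} {β : MulAut Q} (a : Adm F E p P α)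
    (b : Adm F E p Q β) (e1 : P ⊓ T = U) (e2 : Q ⊓ T = U) (e : ∀ x ∈ U, ap α x = ap β x) {y : Ω} (h1 : y ∈ P)
    (h2 : y ∈ Q) (h3 : y ∈ CC(U)) : ap α y = ap β y := by
  have l1 : U ≤ P ⊓ Q := le_inf (e1 ▸ inf_le_left) (e2 ▸ inf_le_left)
  obtain ⟨α', a1, a2⟩ := a.res' (R := P ⊓ Q) inf_le_left (e1 ▸ l1)
  obtain ⟨β', b1, b2⟩ := b.res' (R := P ⊓ Q) inf_le_right (e2 ▸ l1)
  obtain ⟨z, z1, z2⟩ := h.uq c l1 (fun x hx => e1 ▸ norm_inf (le_normalizer hx.1) (SC.norm h.sc (a.mor.le hx.1))) a1 b1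
    (fun x hx => by rw [a2 x (l1 hx), ← e1]; exact ⟨ap_mem α (l1 hx).1, a.mE.mem (e1 ▸ hx)⟩)
    fun x hx => by rw [a2 x (l1 hx), b2 x (l1 hx), e x hx]
  rw [← a2 y ⟨h1, h2⟩, z2 y ⟨h1, h2⟩, h3 z z1.1, mul_inv_cancel_right, b2 y ⟨h1, h2⟩]

theorem Nrm.fix_CE (h : Nrm E F p) (c : TC F T (P ⊓ T)) {α : MulAut P} (a : Adm F E p P α) {y : Ω} (h1 : y ∈ P)
    (h2 : y ∈ CE F E p) : ap α y = y := by
  obtain ⟨α₀, a1, a2⟩ := a.res' (R := P ⊓ T) inf_le_left le_rfl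
  obtain ⟨β, b1, b2⟩ := h.adm_ext c (a1.mE.restrict (le_inf le_rfl inf_le_right)).mem_autGroup a1.cop
  have k := CI_anti c.1 h2.1
  rw [h.uq_cent c a b1 rfl (inf_sup_cent_eq c h.le centralizerIn_le_centralizer)
    (fun x hx => by rw [b2 x hx, a2 x hx]) h1 (mem_sup_right k) k.2, h2.2 _ β c b1]

theorem Nrm.CE_tr (h : Nrm E F p) (m : Mor F W ψ) (hT : T ≤ W) {y : Ω} (h1 : y ∈ W) (h2 : y ∈ CE F E p) :
    ψ y ∈ CE F E p := by
  have := finite_of_le h.le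
  have eT := SC.im_eq h.sc m hT
  have yC : ψ y ∈ CI(S, T) := eT ▸ mem_CI_of_mor m hT h1 h2.1.2
  refine ⟨yC, fun U β c b => ?_⟩
  have l : zpowers (ψ y) ≤ CI(S, U) := zpowers_le.2 (CI_anti c.1 yC)
  obtain ⟨β', b1, b2⟩ := b.res' (R := U ⊔ zpowers (ψ y)) (sup_le_sup_left l _)
    ((inf_sup_cent_eq c h.le centralizerIn_le_centralizer).le.trans le_sup_left)
  obtain ⟨χ, j1, j2, j3⟩ := m.iso.symm
  have l2 : U ⊔ zpowers (ψ y) ≤ im W ψ := sup_le (c.1.trans (eT.ge.trans (im_mono hT)))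
    (zpowers_le.2 (mem_im_of_mem _ h1))
  have i := Mor.iso' j1.mor l2
  obtain ⟨τ, hτ⟩ := exists_tr i
  have ym : ψ y ∈ U ⊔ zpowers (ψ y) := mem_sup_right (mem_zpowers _)
  have := h.fix_CE (by
    rw [← SC.im_inf h.sc i.mor, inf_sup_cent_eq c h.le (l.trans centralizerIn_le_centralizer)]
    exact c.im h.sc (i.mor.restrict le_sup_left)) (b1.tr h.toInv i (hτ β')) (by have := i.mem ym; rwa [j2 y h1] at this) h2
  rw [← b2 _ ym]
  refine i.mor.inj (ap_mem _ ym) ym ?_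
  rw [← hτ β' _ ym, j2 y h1, this]

theorem Nrm.sc_CE (h : Nrm E F p) : F.StronglyClosed (CE F E p) := by
  obtain ⟨D, hD⟩ := exists_ges F E p
  refine (exists_sub F S le_rfl (fun P f => ∀ y ∈ P, (f y ∈ CE F E p ↔ y ∈ CE F E p)) ?_ ?_ ?_ ?_).elim fun Y hY => ?_
  rotate_right
  · have l := hD.min S Y le_rfl fun P α c a => (hY _ _).2 ⟨a.mor, a.mor.le, fun x => a.mor.mem, fun y hy =>
      ⟨fun k => by
        have := h.fix_CE c a (ap_mem α hy) k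
        rwa [ap_injective α this] at k, fun k => (h.fix_CE c a hy k).symm ▸ k⟩⟩
    refine sc_iff.2 ⟨CE_le.trans centralizerIn_le, fun P f hf x hx k => ?_⟩
    obtain ⟨d, ψ, a1, a2, a3⟩ := hD.frs h.toInv h.satF hf
    rw [a3 x hx]
    exact h.CE_tr a2 le_sup_right (mem_of_md a1.md le_rfl hx) ((((hY _ _).1 ((a1.morD h.le).sub l)).2.2.2 x hx).2 k)
  · exact fun P f g _ k e y hy => e y hy ▸ k y hy
  · exact fun P s hP hs y hy => ⟨fun k => by
      simpa [mul_assoc] using h.CE_tr (mor_conj F le_rfl (minv hs)) h.le (mconj hs (hP hy)) k,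
      h.CE_tr (mor_conj F le_rfl hs) h.le (hP hy)⟩
  · exact fun P Q f g _ _ _ _ _ h1 h2 h3 y hy => (h2 _ (h3 y hy)).trans (h1 y hy)
  · exact fun P Q f g _ h2 _ _ _ e2 k y hy => by rw [← k _ (h2.mem hy), e2 y hy]

theorem Nrm.cz_CE (h : Nrm E F p) : Cz F E (CE F E p) := by
  have := finite_of_le h.le
  obtain ⟨C, hC⟩ := exists_CS F (CE_le.trans centralizerIn_le : CE F E p ≤ S)
  refine (cz_iff_cs h.le CE_le hC).1 (h.sat.sub_of (CI_swap CE_le h.le) fun P hP α a b => ?_)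
  have c := h.centric_iff.1 hP.centric
  obtain ⟨β, b1, b2⟩ := h.adm_ext c a b
  exact (cs_mor hC b1.mor le_sup_left (CE_le.trans ((CI_anti c.1).trans le_sup_right))
    (hP.le.trans (CI_swap CE_le h.le)) fun y hy => hy.2 P β c b1).congr b2

theorem fix_of_zpowers {β γ : MulAut P} (h : β ∈ zpowers γ) (hY : ∀ y ∈ Y, ap γ y = y) : ∀ y ∈ Y, ap β y = y :=
  fun y hy => (zpowers_le.2 (show γ ∈ fixA P Y from hY) : zpowers γ ≤ fixA P Y) h y hy

theorem Nrm.le_CE (h : Nrm E F p) (hY : Cz F E Y) : Y ≤ CE F E p := fun y hy => by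
  refine ⟨hY.le hy, fun U β c b => ?_⟩
  have e := inf_sup_cent_eq c h.le (centralizerIn_le_centralizer (S := S))
  obtain ⟨α, a1, a2⟩ := b.res' le_sup_left e.le
  have lY := (hY.le.trans (CI_anti c.1)).trans centralizerIn_le_centralizer
  have m := a1.mE.restrict (le_inf le_rfl c.1)
  obtain ⟨g, g1, g2, g3⟩ := hY.ext U _ m
  obtain ⟨γ, c1, c2, c3, δ, c4, c5⟩ := exists_pprime_ext le_sup_left g1 (maps_of_sup g1.homOn
    (fun x hx => g2 x hx ▸ mem_sup_left (ap_mem α hx)) fun x hx => (g3 x hx).symm ▸ mem_sup_right hx) g2 a1.cop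
  have fx := fix_of_zpowers c5 fun x hx => (c4 x (mem_sup_right hx)).trans (g3 x hx)
  have m2 := (mem_autGroup g1.le).1 c1
  have e' := inf_sup_cent_eq c h.le lY
  rw [h.uq_cent c b ⟨m2, c2, modT_sup (g1.le.trans (SC.norm h.sc)) lY m2.homOn
    (fun x hx => c.1 (mmul (minv hx) (c3 x hx ▸ ap_mem α hx))) fun x hx => by simp [fx x hx],
    e'.symm ▸ m.congr fun x hx => (c3 x hx).symm⟩ e e' (fun x hx => by rw [c3 x hx, a2 x hx])
    (mem_sup_right (CI_anti c.1 (hY.le hy))) (mem_sup_right hy) (lY hy), fx y hy]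

theorem Nrm.cz_iff (h : Nrm E F p) : Cz F E Y ↔ Y ≤ CE F E p := ⟨h.le_CE, h.cz_CE.mono⟩

theorem Nrm.mem_CE (h : Nrm E F p) (hg : Mor F W g) (hT : T ≤ W) (e : ∀ x ∈ T, g x = x) {x : Ω} (h1 : x ∈ W)
    (h2 : x ∈ CC(T)) : x⁻¹ * g x ∈ CE F E p := by
  have xC : x ∈ CI(S, T) := ⟨hg.le h1, h2⟩
  have gC : g x ∈ CI(S, T) := im_eq_of_eq_self e ▸ mem_CI_of_mor hg hT h1 h2
  refine ⟨mmul (minv xC) gC, fun U β c b => ?_⟩
  have e0 := inf_sup_cent_eq c h.le (centralizerIn_le_centralizer (S := S))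
  have l : zpowers x ≤ CI(S, U) := zpowers_le.2 (CI_anti c.1 xC)
  have e1 := inf_sup_cent_eq c h.le (l.trans centralizerIn_le_centralizer)
  obtain ⟨β', b1, b2⟩ := b.res' (R := U ⊔ zpowers x) (sup_le_sup_left l _) (e0.le.trans le_sup_left)
  have i := Mor.iso' hg (sup_le (c.1.trans hT) (zpowers_le.2 h1))
  obtain ⟨τ, hτ⟩ := exists_tr i
  have xm : x ∈ U ⊔ zpowers x := mem_sup_right (mem_zpowers _)
  have xV : x ∈ U ⊔ CI(S, U) := mem_sup_right (l (mem_zpowers _))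
  have gV : g x ∈ U ⊔ CI(S, U) := mem_sup_right (CI_anti c.1 gC)
  have bU : ∀ y ∈ U, ap β y ∈ U := fun y hy => e0.le ⟨ap_mem β (mem_sup_left hy), b.mE.mem (e0.ge hy)⟩
  have k := h.uq_cent c (b1.tr h.toInv i (hτ β')) b (by
    rw [← SC.im_inf h.sc i.mor, e1, im_eq_of_eq_self fun y hy => e y (c.1 hy)]) e0 (fun y hy => by
      have := hτ β' y (mem_sup_left hy)
      rwa [e y (c.1 hy), b2 y (mem_sup_left hy), e _ (c.1 (bU y hy))] at this) (i.mem xm) gV (CI_anti c.1 gC).2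
  have u : x⁻¹ * ap β x ∈ U := e0.le ⟨mmul (minv xV) (ap_mem β xV), b.md x xV⟩
  rw [hτ β' x xm, b2 x xm, show ap β x = x * (x⁻¹ * ap β x) by group, hg.mul h1 (hT (c.1 u)), e _ (c.1 u)] at k
  have c1 := (CI_anti c.1 (mmul (minv xC) gC)).2 _ u
  rw [b.mor.mul (minv xV) gV, b.mor.inv xV, ← k]
  calc (ap β x)⁻¹ * (g x * (x⁻¹ * ap β x)) = (x⁻¹ * ap β x)⁻¹ * (x⁻¹ * g x * (x⁻¹ * ap β x)) := by group
    _ = _ := by rw [← c1]; group

theorem Nrm.foc_cs (h : Nrm E F p) {C : FusionSystem CI(S, T)} (hC : F.IsCentralizerSystem T C) : foc(C) ≤ CE F E p :=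
  foc_le fun P f hf x hx => by
    obtain ⟨g, g1, g2, g3⟩ := cs_ext hC hf
    exact g2 x hx ▸ h.mem_CE g1 le_sup_right g3 (mem_sup_left hx) (hf.le hx).2

theorem Sat.ext_cent (hF : Sat F p) (hT : F.StronglyClosed T) (hf : Mor F P f) (h1 : P ≤ CC(T))
    (h2 : ∀ x ∈ P, f x ∈ CC(T)) : ∃ g, Mor F (P ⊔ T) g ∧ ∀ x ∈ P, g x = f x := by
  have := finite_of_le hT.1
  obtain ⟨Q, χ, i, fn⟩ := exists_fn F hf.im_le_S
  obtain ⟨g, g1, g2⟩ := Iso.extend_C (hf.iso.comp i) (hF.rc' fn)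
  obtain ⟨k, k1, k2⟩ := Iso.extend_C i (hF.rc' fn)
  have l1 : T ≤ CI(S, P) := CI_swap (le_inf hf.le h1) hT.1
  have l2 : T ≤ CI(S, im P f) := CI_swap (le_inf hf.im_le_S (im_le.2 h2)) hT.1
  have g3 := g1.restrict (sup_le_sup_left l1 P)
  obtain ⟨m, m1, m2⟩ := ext_back k1 g3 (maps_of_sup g3.homOn (fun x hx => by
    rw [g2 x hx, ← k2 _ (mem_im_of_mem f hx)]; exact mem_im_of_mem _ (mem_sup_left (mem_im_of_mem f hx))) fun x hx =>
      im_mono (l2.trans le_sup_right) ((SC.im_eq hT k1 (l2.trans le_sup_right)).ge (SC.mem hT g3 (mem_sup_right hx) hx)))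
  exact ⟨m, m1, fun x hx => k1.inj (m2 x (mem_sup_left hx)).1 (mem_sup_left (mem_im_of_mem f hx)) (by
    rw [(m2 x (mem_sup_left hx)).2, g2 x hx, k2 _ (mem_im_of_mem f hx)])⟩

theorem frat_of_local (hF : Sat F p) (hT : F.StronglyClosed T) (hs : E.IsSubsystemOf F) (hi : AInv E (F.autGroup T))
    (h : ∀ P < T, F.IsFullyNormalized P → ∃ K : Subgroup (MulAut P), F.autGroup P ≤ NN(K) ∧ AS(T, P) ≤ K ∧
      ∀ α ∈ F.autGroup P ⊓ K, (orderOf α).Coprime p → α ∈ E.autGroup P) : Frat E F := fun P f hP hf => by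
  have := finite_of_le hT.1
  obtain ⟨D, hD⟩ := exists_frat_sys hs hT _ le_rfl hi
  refine (hD P f).1 (hF.sc_ind hT (fun P hP fn ih α hα => ?_) hP hf)
  rcases hP.lt_or_eq with lt | rfl
  swap
  · exact Mor.mem_autGroup ((hD _ _).2 ⟨α, hα, _, mor_id E le_rfl, fun _ _ => rfl⟩)
  have := aut_finite fn.1
  obtain ⟨K, k1, k2, k3⟩ := h P lt fn
  have s := (hF.syl fn).inf_normal k1
  obtain ⟨κ, hκ, g, g1, g2⟩ := frattini_ext (hF.rc' fn) s k1 hα
  have l : NI(T, P) ≤ P ⊔ NK S K := fun a ha => mem_sup_right ⟨hT.1 ha.1, ha.2, k2 (cj_mem_autInducedBy ha.1)⟩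
  have h1 := (ih _ normalizerIn_le (card_lt_of_lt' (lt_NI (hF.pg.to_le hT.1) lt) normalizerIn_le) g
    (g1.restrict l)).restrict (le_normalizerIn hP)
  have h2 : κ ∈ D.autGroup P := Syl.le_of_coprime s (fun β hβ => by
    obtain ⟨s, hs, e⟩ := mem_autInducedBy.1 hβ.1
    exact Mor.mem_autGroup ((hD _ _).2 ⟨cj T s, cj_mem_autGroup F hT.1 hs, _, mor_id E hP, fun x hx => by
      rw [e x hx, ap_cj (SC.norm hT hs) (hP hx)]⟩)) (fun β b1 b2 => Mor.mem_autGroup ((hD _ _).2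
        ⟨1, one_mem _, _, (mem_autGroup hP).1 (k3 β b1 b2), fun x _ => (ap_one _).symm⟩)) hκ
  refine Mor.mem_autGroup ((h1.comp ((mem_autGroup hP).1 h2) fun x hx => ?_).congr fun x hx => (g2 x hx).symm)
  rw [← ap_inv_ap κ (g x), ← g2 x hx]; exact ap_mem _ (ap_mem _ hx)

theorem cs_conj (hF : Sat F p) (hT : F.StronglyClosed T) {C : FusionSystem CI(S, T)} (hC : F.IsCentralizerSystem T C)
    (i : Iso F P Q f) (hQ : Q ≤ CI(S, T)) {α : MulAut P} {β : MulAut Q} (hP : P ≤ CI(S, T)) (a : α ∈ C.autGroup P)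
    (e : ∀ x ∈ P, ap β (f x) = f (ap α x)) : β ∈ C.autGroup Q := by
  have := finite_of_le hT.1
  obtain ⟨g, g1, g2, g3⟩ := cs_ext hC ((mem_autGroup hP).1 a)
  obtain ⟨φ, f1, f2⟩ := hF.ext_cent hT i.mor (hP.trans centralizerIn_le_centralizer) fun x hx => (hQ (i.mem hx)).2
  obtain ⟨k, k1, k2⟩ := mor_conjugate g1 f1 le_rfl (maps_of_sup g1.homOn
    (fun x hx => g2 x hx ▸ mem_sup_left (ap_mem α hx)) fun x hx => (g3 x hx).symm ▸ mem_sup_right hx)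
  have eT := SC.im_eq hT f1 le_sup_right
  refine ((cs_mor hC k1 (i.im_eq.ge.trans ((im_congr f2).ge.trans (im_mono le_sup_left)))
    (eT.ge.trans (im_mono le_sup_right)) hQ fun y hy => ?_).congr fun y hy => ?_).mem_autGroup
  · obtain ⟨x, hx, rfl⟩ := (f1.restrict le_sup_right).mem_im.1 (eT.ge hy)
    rw [k2 x (mem_sup_right hx), g3 x hx]
  · obtain ⟨x, hx, rfl⟩ := i.surj hy
    rw [e x hx, ← f2 x hx, k2 x (mem_sup_left hx), g2 x hx, f2 _ (ap_mem α hx)]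

/-- the centralizer `C_F(E)` -/
theorem Nrm.nrm_cent (h : Nrm E F p) {C : FusionSystem CI(S, T)} (hC : F.IsCentralizerSystem T C)
    {D : FusionSystem (CE F E p)} (sD : Sat D p) (pD : PPI D C p) : Nrm D F p := by
  have hF := h.satF
  have sc := h.sc_CE
  have := finite_of_le sc.1
  have sub := sub_trans pD.sub (cs_sub hC)
  have hi : AInv D (F.autGroup _) := fun P f hf α hα => inv_of_pprime sD sub hα (fun P hP β b1 _ γ _ c2 e =>
    pD.aut _ (im_ap_le hP α) γ (cs_conj hF h.sc hC (Mor.iso' ((mem_autGroup sc.1).1 hα) hP)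
      ((im_ap_le hP α).trans CE_le) (hP.trans CE_le) (autGroup_mono pD.sub hP b1) e) c2) hf
  refine WNrm.nrm_of ⟨⟨sub, sc, hi, frat_of_local hF sc sub hi fun P lt fn => ?_⟩, sD.sat, hF⟩ fun α a b l => ?_
  · have l := lt.le.trans CE_le
    have := aut_finite fn.1
    exact ⟨C.autGroup P, fun β hβ => mem_normalizer_of_finite fun γ hγ => cs_conj hF h.sc hC (iso_ap fn.1 hβ) l l hγ
      fun x _ => by rw [ap_mul, ap_mul, ap_inv_ap], (autInducedBy_mono CE_le).trans (autInducedBy_le C l),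
      fun α a b => pD.aut P lt.le α a.2 b⟩
  obtain ⟨g, g1, g2, g3⟩ := cs_ext hC ((mem_autGroup CE_le).1 (autGroup_mono pD.sub le_rfl a))
  have nA : S ≤ NN(CE F E p ⊔ T) := fun x hx => norm_sup (SC.norm sc hx) (SC.norm h.sc hx)
  have := finite_of_le g1.le
  have gi := g1.iso_self (maps_of_sup g1.homOn (fun x hx => g2 x hx ▸ mem_sup_left (ap_mem α hx))
    fun x hx => (g3 x hx).symm ▸ mem_sup_right hx)
  obtain ⟨k, k1, k2⟩ := Iso.extend gi (hF.rc' (fn_of_normal g1.le nA)) (R := CI(S, CE F E p))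
    (le_inf centralizerIn_le (centralizerIn_le.trans nA)) fun c hc => ⟨c, hc.1, fun x hx => by
      refine HomOn.eq_on_sup (f := fun x => g (c * x * c⁻¹)) (g := fun x => c * g x * c⁻¹)
        ((mor_conj F g1.le hc.1).comp g1 fun y hy => conj_mem_of_mem_normalizer (nA hc.1) hy).homOn
        (g1.comp (mor_conj F le_rfl hc.1) fun y => g1.mem).homOn (fun y hy => ?_) (fun y hy => ?_) x hx
      · simp only [← hc.2 y hy, ← hc.2 _ (g2 y hy ▸ ap_mem α hy : g y ∈ _), mul_inv_cancel_right]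
      · simp only [g3 y hy, g3 _ (SC.conj h.sc hc.1 hy)]⟩
  have lT : T ≤ CI(S, CE F E p) := CI_swap CE_le h.le
  have k3 := k1.restrict (sup_le_sup_right le_sup_left CI(S, CE F E p))
  have k4 : ∀ x ∈ CE F E p, k x = ap α x := fun x hx => (k2 x (mem_sup_left hx)).trans (g2 x hx)
  obtain ⟨β, b1, b2, b3, γ, c1, c2⟩ := exists_pprime_ext le_sup_left k3 (maps_sup_cent k3 (by
    rw [im_congr k4, im_ap])) k4 b
  have fx := fix_of_zpowers c2 fun x hx => by rw [c1 x (mem_sup_right (lT hx)), k2 x (mem_sup_right hx), g3 x hx]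
  have m := (mem_autGroup k3.le).1 b1
  have lW := lT.trans (le_sup_right (a := CE F E p))
  refine ⟨_, m, b3, fun c hc => mem_of_coprime_mod (R := CC(T)) (hF.pg.to_le m.le) b2 (fun y hy hy' => ⟨?_,
    h.mem_CE m lW fx hy hy'⟩) (mem_sup_right hc) fun y hy => ?_⟩
  · have := m.mem_centralizer lW hy hy'
    rwa [im_eq_of_eq_self fx] at this
  · have e1 := m.map_conj (mem_sup_right hc) (lW hy)
    rw [fx _ (SC.conj h.sc hc.1 hy), fx y hy] at e1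
    calc y * (c⁻¹ * ap β c) = c⁻¹ * (c * y * c⁻¹) * ap β c := by group
      _ = _ := by rw [e1]; group

theorem Nrm.exists_cent (h : Nrm E F p) : ∃ (C : FusionSystem CI(S, T)) (D : FusionSystem (CE F E p)),
    F.IsCentralizerSystem T C ∧ Sat C p ∧ PPI D C p ∧ Nrm D F p := by
  obtain ⟨C, hC⟩ := exists_CS F h.le
  have sC := h.satF.cs (h.satF.fc (fn_of_normal h.le (SC.norm h.sc))) hC
  obtain ⟨D, d1, d2⟩ := Sat.exists_ppi CE_le sC (hyp_le_foc.trans (h.foc_cs hC))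
  exact ⟨C, D, hC, sC, d2, h.nrm_cent hC d1 d2⟩

theorem Nrm.exists_prod (h : Nrm E F p) (h1 : T ≤ R) (h2 : R ≤ S) :
    ∃ D : FusionSystem R, Sat D p ∧ D.IsSubsystemOf F ∧ PPI E D p := by
  obtain ⟨D, hD⟩ := exists_ges F E p
  have pp := hD.ppi h.toWNrm
  have := finite_of_le h.le
  obtain ⟨D', d1, d2⟩ := Sat.exists_ppi h2 (hD.sat h) (pp.hyp.trans h1)
  exact ⟨D', d1, sub_trans d2.sub hD.sub, pp.of_sub (d2.sub_of h.sat pp.sub h1) d2.sub⟩

end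

variable {p : ℕ} [Fact p.Prime] {Ω : Type u} [Group Ω] {S T : Subgroup Ω} [Finite S] {F : FusionSystem S}
  {E : FusionSystem T}

theorem Sat.Z_le (hF : Sat F p) (hp : p ≠ 2) : S ⊓ CC(S) ≤ F.center ⊔ foc(F) := fun a ha => by
  have hn : S ≤ NN(thompsonSubgroupOf 0 S) := normalizer_le_normalizer_J S |> le_normalizer.trans
  obtain ⟨N, hN⟩ := exists_KN F J_le ⊤ (NK_eq hn le_top)
  have sN := hN.sat_of_ge hF (fn_of_normal J_le hn) le_top
  have e : N.center ≤ F.center := fun x hx => hF.center_J (Or.inl hp) (center_le_Z hx) fun g g1 g2 =>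
    fix_center hx (hN.mor g1 le_rfl le_rfl J_le ((inK_top g1 le_rfl).2 g2)) (zc_le_J (center_le_Z hx))
  obtain ⟨n, tr, t1, t2, -, t3⟩ := sN.exists_tr (hN.nm_self J_le)
  let b : ↥(thompsonSubgroupOf 0 S ⊓ CC(thompsonSubgroupOf 0 S)) := ⟨a, zc_le_J ha, centralizer_le J_le ha.2⟩
  refine mem_of_pow_mem hF.pg ha.1 t1 ?_
  simpa [b] using mmul (mem_sup_left (e (t2 b ha.2))) (minv (mem_sup_right (foc_mono hN.sub (t3 b))) :
    _ ∈ F.center ⊔ foc(F))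

theorem Nrm.cent_le (h : Nrm E F p) (hp : p ≠ 2) (hC : CE F E p ≤ T) : CI(S, T) ≤ T := fun x hx => by
  have l : T ⊔ zpowers x ≤ S := sup_le h.le (zpowers_le.2 hx.1)
  have := finite_of_le l
  obtain ⟨D, d1, d2, d3⟩ := h.exists_prod le_sup_left l
  have xc : zpowers x ≤ CC(T) := zpowers_le.2 hx.2
  have xz : x ∈ CC(T ⊔ zpowers x) := fun y hy => by
    obtain ⟨t, ht, _, ⟨n, rfl⟩, rfl⟩ := (mem_sup_cent xc).1 hy
    rw [mul_assoc, (Commute.zpow_self x n).eq, ← mul_assoc, hx.2 t ht, mul_assoc]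
  refine (sup_le (((h.le_CE ((Cn.cz (cn_center D) d3.sub).up d2))).trans hC) (d1.foc_eq.le.trans (sup_le d3.hyp
    (commutator_le.2 fun a ha b hb => ?_)))) (d1.Z_le hp ⟨mem_sup_right (mem_zpowers x), xz⟩)
  obtain ⟨t, ht, _, ⟨n, rfl⟩, rfl⟩ := (mem_sup_cent xc).1 ha
  have := (show Commute b x from xz b hb).zpow_right n
  rw [commutatorElement_def, mul_assoc t, ← this.eq]
  have := mmul ht (SC.conj h.sc (l hb) (minv ht))
  convert this using 1; group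

end CfsgFS
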