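import Cfsg.Agent.FS.CP

/-! Quasisimple systems, subnormal subsystems, and the dichotomy for components. -/

set_option autoImplicit false
set_option linter.unusedSectionVars false

namespace CfsgFS

open Subgroup Cfsg Cfsg.FusionSystem CfsgH9
open CfsgH2 (resIn)
open scoped commutatorElement

variable {p : ℕ} {Ω Ω' : Type*} [Group Ω] [Group Ω'] {S T V : Subgroup Ω} {S' T' V' : Subgroup Ω'}
  {F : FusionSystem S} {E D : FusionSystem T} {C : FusionSystem V} {F' : FusionSystem S'} {E' : FusionSystem T'}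
  {C' : FusionSystem V'} {θ : Ω → Ω'} {P Q R U W : Subgroup Ω} {f g : Ω → Ω}

theorem sub_rec (h : E.IsSubsystemOf F) (h' : F.IsSubsystemOf E) (Pr : ∀ U : Subgroup Ω, FusionSystem U → Prop)
    (k : Pr T E) : Pr S F := by
  obtain rfl : T = S := (subsystem_le h).antisymm (subsystem_le h')
  obtain rfl : E = F := fus_ext (hom_eq_of_sub h h')
  exact k

/-- quasisimple systems -/
structure QS (F : FusionSystem S) (p : ℕ) : Prop where
  sat : Sat F p
  hyp : S ≤ hyp(F, p)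
  ne : ¬ S ≤ F.center
  nrm : ∀ (T : Subgroup Ω) (E : FusionSystem T), Nrm E F p → T ≤ F.center ∨ F.IsSubsystemOf E

/-- subnormal subsystems -/
inductive SN (C : FusionSystem V) (p : ℕ) : ∀ {S : Subgroup Ω}, FusionSystem S → Prop
  | refl : SN C p C
  | step {U S : Subgroup Ω} {D : FusionSystem U} {F : FusionSystem S} : SN C p D → Nrm D F p → SN C p F

theorem SN.sub (h : SN C p F) : C.IsSubsystemOf F := by
  induction h with
  | refl => exact sub_refl _
  | step _ h ih => exact sub_trans ih h.sub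

theorem SN.le (h : SN C p F) : V ≤ S := subsystem_le h.sub

theorem SN.trans (h : SN C p E) (h' : SN E p F) : SN C p F := by
  induction h' with
  | refl => exact h
  | step _ k ih => exact ih.step k

theorem SN.sat (h : SN C p F) : Sat F p → Sat C p := by
  induction h with
  | refl => exact id
  | step _ k ih => exact fun _ => ih k.sat

theorem Nrm.sn (h : Nrm E F p) : SN E p F := SN.refl.step h

theorem sn_of (h : C.IsSubnormalIn F p) : Finite S → IsPGroup p S → SN C p F := by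
  induction h with
  | refl F p => exact fun _ _ => .refl
  | step h1 h2 ih =>
    intro hf hS
    have k := (nrm_iff hS).1 h2
    exact (ih (finite_of_le k.le) k.sat.pg).step k

theorem SN.subnormal (h : SN C p F) : Finite S → C.IsSubnormalIn F p := by
  induction h with
  | refl => exact fun _ => .refl _ _
  | step _ k ih => exact fun _ => .step (ih (finite_of_le k.le)) ((nrm_iff k.satF.pg).2 k)

theorem SN.congr (h : SN C p E) (h1 : E.IsSubsystemOf F) (h2 : F.IsSubsystemOf E) : SN C p F :=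
  sub_rec h1 h2 (fun _ X => SN C p X) h

variable [Fact p.Prime]

theorem SN.fiso (h : SN C p F) : Finite S → ∀ {S' : Subgroup Ω'} {F' : FusionSystem S'}, FIso F F' θ →
    FIso C C' θ → SN C' p F' := by
  induction h with
  | refl =>
    intro _ S' F' h1 h2
    obtain rfl : S' = V' := h1.surj.symm.trans h2.surj
    obtain rfl := h1.unique h2
    exact .refl
  | step _ k ih =>
    intro _ S' F' h1 h2
    have := finite_of_le k.le
    obtain ⟨D', hD⟩ := exists_push _ (h1.hiso.mono k.le)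
    exact (ih this hD h2).step (h1.nrm hD k)

theorem SN.conj (h : SN C p F) : Finite S → ∀ {V₁ : Subgroup Ω} {C₁ : FusionSystem V₁} {f : Ω → Ω}, Mor F V f →
    FIso C C₁ f → SN C₁ p F := by
  induction h with
  | refl =>
    intro _ V₁ C₁ f h1 h2
    have i := h1.iso_self fun _ => h1.mem
    obtain rfl : V = V₁ := i.im_eq.symm.trans h2.surj
    obtain ⟨α, a, b⟩ := i.exists_aut
    obtain rfl := (((inv_refl C).fiso a).congr b).unique h2
    exact .refl
  | step s k ih =>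
    intro _ V₁ C₁ f h1 h2
    have := finite_of_le k.le
    have := finite_of_le s.le
    obtain ⟨α, a, g, b, c⟩ := k.frat _ f s.le h1
    obtain ⟨C₂, h3⟩ := exists_push C (Iso.hiso b.iso)
    obtain ⟨g', h4, h5, h6⟩ := h3.symm
    refine ((ih inferInstance b h3).fiso inferInstance (k.toInv.fiso a) ((h4.comp h2).congr fun y hy => ?_)).step k
    rw [c _ (h4.mem y hy), h6 y hy]

theorem SN.constrained (h : SN C p F) : Finite S → F.IsConstrained p → C.IsConstrained p := by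
  induction h with
  | refl => exact fun _ => id
  | step _ k ih => exact fun _ h => ih (finite_of_le k.le) (k.toWNrm.constrained h)

variable [Finite S]

theorem FSurj.wnrm_im (h : FSurj F F' θ) (hE : WNrm E F p) :
    ∃ E' : FusionSystem (im T θ), FSurj E E' θ ∧ WNrm E' F' p := by
  have := finite_of_le hE.le
  have := h.fin
  have hT := h.hom.mono hE.le
  obtain ⟨E', k⟩ := hE.sat.exists_quo hT (h.toFHom.sub hE.sub).sc_ker rfl
  have sb : E'.IsSubsystemOf F' := subsystem_iff.2 fun P' g hg =>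
    let ⟨f, a, b⟩ := k.lift P' g hg
    h.toFHom.mor (a.sub hE.sub) (k.im_pre hg.le) b
  refine ⟨E', k, SInv.inv (fun P' Q' g ψ' a b c d e => ?_) (h.sat hE.satF) sb (h.sc_im hE.sc), (k.sat hE.sat).sat,
    h.sat hE.satF⟩
  obtain ⟨f, f1, f2⟩ := k.lift P' g a
  obtain ⟨ψ, s1, s2⟩ := h.lift Q' ψ' b
  have l : pre T θ Q' ≤ pre S θ Q' := fun x hx => mem_pre_of (hE.le (pre_le hx)) ((mem_pre hT).1 hx).2
  have m : ∀ x ∈ pre T θ P', f x ∈ pre T θ Q' := fun x hx =>
    mem_pre_of (f1.mem hx) (f2 x hx ▸ e _ ((mem_pre hT).1 hx).2)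
  obtain ⟨j, j1, j2⟩ := hE.toInv.sinv _ _ f ψ f1 (s1.restrict l) pre_le (pre_mono d) m
  obtain ⟨j', j3, j4⟩ := k.map _ j j1
  have s3 := s1.restrict ((pre_mono d).trans l)
  have e1 : im (im (pre T θ P') ψ) θ = im P' ψ' := by
    rw [HomOn.im_im' s3.homOn, ← im_congr fun x hx => s2 x (l (pre_mono d hx)), ← HomOn.im_im' (hT.mono pre_le),
      k.im_pre a.le]
  refine ⟨j', e1 ▸ j3, fun y hy => ?_⟩
  obtain ⟨x, hx, rfl⟩ := k.ex' a.le hy
  rw [s2 x (l (pre_mono d hx)), j4 _ (mem_im_of_mem ψ hx), j2 x hx, f2 x hx, s2 _ (l (m x hx))]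

theorem foc_le_of_sup (hT : F.StronglyClosed T) (hZ : F.IsCentral R) (h : S ≤ T ⊔ R) : foc(F) ≤ T :=
  foc_le fun P f hf x hx => by
    obtain ⟨t, ht, z, hz, rfl⟩ := (mem_sup_cent (cent_swap (hT.1.trans (Cn.cent hZ)))).1 (h (hf.le hx))
    obtain ⟨g, g1, g2, g3⟩ := Cn.ext hZ hf
    have a : t ∈ P ⊔ R := by simpa using mmul (mem_sup_left hx) (minv (mem_sup_right hz : z ∈ P ⊔ R))
    rw [← g2 _ hx, g1.mul a (mem_sup_right hz), g3 z hz]
    have := SC.conj hT (minv (hZ.1 hz)) (mmul (minv ht) (SC.mem hT g1 a ht))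
    simpa [mul_assoc] using this

theorem QS.wnrm (h : QS F p) (hE : WNrm E F p) : T ≤ F.center ∨ F.IsSubsystemOf E := by
  have := finite_of_le hE.le
  obtain ⟨D, hD⟩ := hE.sat.opp
  exact (h.nrm _ D (hD.nrm hE)).imp_right fun k => sub_trans k hD.sub

theorem qs_of_simple (hF : Sat F p) (h1 : S ≤ hyp(F, p)) (h : FSurj F F' θ) (hk : pre S θ ⊥ = F.center)
    (hs : Simple F' p) : QS F p := by
  have := h.fin
  refine ⟨hF, h1, fun k => hs.ne (le_bot_iff.1 (h.surj.ge.trans ((im_mono (hk ▸ k)).trans (im_ker h.hom).le))),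
    fun T E hE => ?_⟩
  obtain ⟨E', a, b⟩ := h.wnrm_im hE.toWNrm
  have := finite_of_le b.le
  obtain ⟨D', hD⟩ := b.sat.opp
  refine (hs.nrm _ D' (hD.nrm b)).imp (fun k => hk ▸ le_pre hE.le k.le) fun k => ?_
  have k' := sub_trans k hD.sub
  have l : S ≤ T ⊔ F.center := by
    rw [← hk, ← pre_im h.hom hE.le]; exact le_pre le_rfl (h.surj.le.trans (subsystem_le k'))
  obtain rfl : T = S := hE.le.antisymm (h1.trans (hyp_le_foc.trans (foc_le_of_sup hE.sc (cn_center F) l)))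
  have au : F.autGroup T ≤ E.autGroup T := fun α hα => by
    have m := (mem_autGroup le_rfl).1 hα
    obtain ⟨g, g1, g2⟩ := h.map _ _ m
    obtain ⟨f, f1, f2⟩ := a.lift _ g (g1.sub k')
    rw [pre_top] at f1 f2
    obtain ⟨β, b1, b2⟩ := (f1.iso_self fun _ => f1.mem).exists_aut
    have c : β⁻¹ * α ∈ F.autGroup T := mmul (minv (autGroup_mono hE.sub le_rfl b1)) hα
    have cm := (mem_autGroup le_rfl).1 c
    have := finite_of_le (center_le (F := F))
    have := hE.toWNrm.ppr.aut T le_rfl _ c (pel_of_fix (hF.pg.to_le center_le) (fun x hx hz => fix_center hz cm hx)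
      fun x hx => by
        rw [← hk, inv_mul_mem_ker h.hom hx (cm.mem hx), ← h.toFHom.eq_iff (f1.sub hE.sub) hx (cm.mem hx),
          ← b2 _ (cm.mem hx), ap_mul, ap_ap_inv, ← g2 x hx, f2 x hx])
    simpa using mmul b1 this
  refine subsystem_iff.2 fun P f hf => ?_
  obtain ⟨α, a1, g, a2, a3⟩ := hE.frat P f hf.le hf
  exact (a2.comp ((mem_autGroup le_rfl).1 (au a1)) fun _ => a2.mem).congr fun x hx => (a3 x hx).symm

theorem QS.simple (hF : QS F p) (h : FSurj F F' θ) (hk : pre S θ ⊥ = F.center) : Simple F' p := by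
  refine ⟨h.sat hF.sat, fun k => hF.ne (hk ▸ le_pre le_rfl (h.surj.trans k).le), fun T' E' hE => ?_⟩
  obtain ⟨E, a, b⟩ := LH.exists_lift (p := p) ⟨hF.sat, h, hk ▸ cn_center F, hE⟩
  refine (hF.nrm _ E a).imp (fun k => le_bot_iff.1 ?_) fun k => subsystem_iff.2 fun P' g hg => ?_
  · exact (h.im_pre hE.le).ge.trans ((im_mono (hk ▸ k)).trans (im_ker h.hom).le)
  · obtain ⟨f, f1, f2⟩ := h.lift P' g hg
    exact (b (h.surj.ge.trans ((im_mono (subsystem_le k)).trans (im_pre_le h.hom)))).mor (f1.sub k)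
      (h.im_pre hg.le) f2

theorem qs_iff (hS : IsPGroup p S) : F.Quasisimple p ↔ QS F p := by
  have sc := Nm.sc (Cn.nm (cn_center F))
  constructor
  · rintro ⟨h1, h2, h3⟩
    obtain ⟨E, hE⟩ := exists_factor sc
    obtain ⟨a, b⟩ := factor_fsurj hE ⟨hS, h1⟩ sc
    have := a.fin
    exact qs_of_simple ⟨hS, h1⟩ h2.ge a b ((simple_iff (a.sat ⟨hS, h1⟩).pg).1 (h3 E hE))
  · refine fun h => ⟨h.sat.sat, hyp_le_S.antisymm h.hyp, fun E hE => ?_⟩
    obtain ⟨a, b⟩ := factor_fsurj hE h.sat sc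
    have := a.fin
    exact (simple_iff (a.sat h.sat).pg).2 (h.simple a b)

theorem comp_iff (hS : IsPGroup p S) : C.IsComponentIn F p ↔ SN C p F ∧ QS C p :=
  ⟨fun h => have a := sn_of h.1 inferInstance hS
    have := finite_of_le a.le
    ⟨a, (qs_iff (hS.to_le a.le)).1 h.2⟩,
   fun h => have := finite_of_le h.1.le
    ⟨h.1.subnormal inferInstance, (qs_iff h.2.sat.pg).2 h.2⟩⟩

theorem QS.fiso (hF : QS F p) (h : FIso F F' θ) : QS F' p := by
  have := h.toFSurj.fin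
  obtain ⟨θ', k, k1, k2⟩ := h.symm
  refine ⟨h.toFSurj.sat hF.sat, h.surj.ge.trans ((im_mono hF.hyp).trans (h.toFSurj.im_hyp hF.sat).le),
    fun l => hF.ne ((h.hiso.im_le_im le_rfl center_le).1 (h.surj.le.trans (l.trans h.center.ge))), fun T' E' hE => ?_⟩
  have := finite_of_le hE.le
  obtain ⟨E, a⟩ := exists_push E' (k.hiso.mono hE.le)
  exact (hF.nrm _ E (k.nrm a hE)).imp (fun l => (k.hiso.im_le_im hE.le center_le).1 (l.trans k.center.ge))
    fun l => by
      obtain ⟨θ₂, a1, a2, a3⟩ := a.symm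
      have a4 : FIso E E' θ := a1.congr fun y hy => by
        rw [← k2 _ (hE.le (a1.mem y hy)), a3 y hy]
      exact FIso.sub a4.toFHom h l

theorem QS.not_triv (h : QS F p) : ¬ Triv F := fun k =>
  h.ne (h.hyp.trans ((k.hyp h.sat.pg).le.trans bot_le))

theorem QS.not_constrained (h : QS F p) : ¬ F.IsConstrained p := fun k => by
  rcases h.nrm _ _ (Nm.nrm_inner (nm_core F) h.sat) with a | a
  · exact h.ne fun x hx => a (centric_le (core_centric k) ⟨hx, centralizer_le a (Cn.cent (cn_center F) hx)⟩)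
  · exact h.not_triv (triv_inner.of_sub a core_le)

theorem QS.not_comm (h : QS F p) : ¬ S ≤ CC(S) := fun k =>
  h.not_constrained ⟨h.sat.sat, S, h.sat.nm_of_comm sc_top k, centric_top⟩

theorem QS.not_cz (h : QS F p) {X : FusionSystem U} (k : Cz X F R) : ¬ S ≤ R := fun l =>
  h.not_comm fun _ hx => (k.le (l hx)).2

theorem QS.le_CE {V : Subgroup Ω} {C : FusionSystem V} (h : QS C p) (hE : Nrm E F p) (l : V ≤ S)
    (k : Cz F C T) : V ≤ CE F E p := by
  obtain ⟨X, hX⟩ := exists_CS F hE.le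
  exact h.hyp.trans (hyp_le_foc.trans ((foc_mono ((cz_iff_cs l k.le hX).2 k)).trans (hE.foc_cs hX)))

/-! ### The three-subgroups type lemma -/

theorem comm_of_mod {a b r z : Ω} (h1 : r * a * r⁻¹ = a * z) (h2 : r * b * r⁻¹ = b * z)
    (h3 : z * (a⁻¹ * b) = a⁻¹ * b * z) : r * (a⁻¹ * b) = a⁻¹ * b * r := by
  have : r * (a⁻¹ * b) * r⁻¹ = a⁻¹ * b := by
    calc r * (a⁻¹ * b) * r⁻¹ = (r * a * r⁻¹)⁻¹ * (r * b * r⁻¹) := by group
      _ = z⁻¹ * (a⁻¹ * b * z) := by rw [h1, h2]; group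
      _ = a⁻¹ * b := by rw [← h3]; group
  calc r * (a⁻¹ * b) = r * (a⁻¹ * b) * r⁻¹ * r := by group
    _ = a⁻¹ * b * r := by rw [this]

theorem mod_mem (hT : F.StronglyClosed T) (hR : F.StronglyClosed R) {x r : Ω} (hx : x ∈ T) (hr : r ∈ R) :
    x⁻¹ * (r * x * r⁻¹) ∈ T ⊓ R :=
  ⟨mmul (minv hx) (SC.conj hT (hR.1 hr) hx), by
    simpa [mul_assoc] using mmul (SC.conj hR (minv (hT.1 hx)) hr) (minv hr)⟩

theorem Nrm.loc3 (h : Nrm D F p) (hR : F.StronglyClosed R) (z : D.IsCentral (T ⊓ R)) (c : TC F T U)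
    (fn : F.IsFullyNormalized U) {α : MulAut U} (a1 : α ∈ D.autGroup U) (a2 : (orderOf α).Coprime p) {y : Ω}
    (hy : y ∈ U) : y⁻¹ * ap α y ∈ CC(R) := by
  have := finite_of_le fn.1
  have := aut_finite fn.1
  have := finite_of_le h.le
  have lZ : T ⊓ R ≤ U := Cn.le_of_cent z (c.self h.le) c.1
  have zc : T ⊓ R ≤ CC(T) := cent_swap (Cn.cent z)
  have am := (mem_autGroup c.1).1 a1
  have nR : R ≤ NI(S, U) := fun r hr => ⟨hR.1 hr, mem_normalizer_of_finite fun x hx => by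
    simpa using mmul hx (lZ (mod_mem h.sc hR (c.1 hx) hr))⟩
  obtain ⟨β, b1, b2⟩ := h.adm_ext c a1 a2
  obtain ⟨L, hL⟩ := exists_NS F fn.1
  obtain ⟨g, g1, g2⟩ := ns_extend h.satF h.sc fn hL (c.self h.le)
    (fn_of_normal (sup_cent_le fn.1) sup_cent_norm) (centric_sup_cent (h.satF.fc fn)) le_sup_left b1.mor b1.md
    (fun x hx => b2 x hx ▸ ap_mem α hx) (R := R) (fun r hr => ⟨nR hr, sup_cent_norm (nR hr)⟩) fun r hr => by
      have n := (nR hr).2
      have cF := cj_mem_autGroup F (P := U) fn.1 (hR.1 hr)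
      have d1 : α * cj U r * α⁻¹ * (cj U r)⁻¹ ∈ D.autGroup U := by
        simpa [mul_assoc] using mmul a1 (h.toInv.sinv.aut_conj h.sub c.1 cF (minv a1))
      have aF := autGroup_mono h.sub c.1 a1
      have sZ := SC.inf h.sc hR
      have e : ∀ x ∈ U, ap (α * cj U r * α⁻¹ * (cj U r)⁻¹) x =
          ap α (r * ap α⁻¹ (r⁻¹ * x * r⁻¹⁻¹) * r⁻¹) := fun x hx => by
        rw [ap_mul, ap_mul, ap_mul, ← cj_inv n, ap_cj (minv n) hx, ap_cj n (ap_mem _ (by
          rw [← ap_cj (minv n) hx]; exact ap_mem _ hx))]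
      have d2 := mem_opIn_of_sc h.satF.pg sZ fn.1 (autGroup_mono h.sub c.1 d1)
        (fun x hx hz => Cn.fix z ((mem_autGroup c.1).1 d1) hx hz) fun x hx => by
          have x1 : r⁻¹ * x * r⁻¹⁻¹ ∈ U := by rw [← ap_cj (minv n) hx]; exact ap_mem _ hx
          have x2 := ap_mem α⁻¹ x1
          have x3 := mod_mem h.sc hR (c.1 x2) hr
          have x4 : ap α (r * ap α⁻¹ (r⁻¹ * x * r⁻¹⁻¹) * r⁻¹) = r⁻¹ * x * r⁻¹⁻¹ *
              ((ap α⁻¹ (r⁻¹ * x * r⁻¹⁻¹))⁻¹ * (r * ap α⁻¹ (r⁻¹ * x * r⁻¹⁻¹) * r⁻¹)) := by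
            rw [← Cn.fix z am (lZ x3) x3]
            nth_rewrite 2 [← ap_ap_inv α (r⁻¹ * x * r⁻¹⁻¹)]
            rw [← am.mul x2 (lZ x3), mul_inv_cancel_left]
          rw [e x hx, x4, ← mul_assoc x⁻¹]
          exact mmul (mod_mem h.sc hR (c.1 hx) (minv hr)) x3
      obtain ⟨a, s1, s2, s3⟩ := mem_autInducedBy'.1 (Syl.opIn_le (h.satF.syl fn) d2)
      obtain ⟨t, t1, t2, t3⟩ := h.toWNrm.AS_inf c.1 fn ⟨s1, s2⟩ (s3 ▸ d1)
      have t4 : t * r ∈ NI(S, U) := mmul ⟨h.le t1, t2⟩ (nR hr)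
      refine ⟨t * r, ⟨t4, sup_cent_norm t4⟩, by
        simpa [mul_assoc] using SC.conj h.sc (minv (hR.1 hr)) t1, fun u hu => ?_⟩
      have u1 : r * u * r⁻¹ ∈ U := by rw [← ap_cj n hu]; exact ap_mem _ hu
      have e2 : α * cj U r = cj U (t * r) * α := by
        rw [cj_mul t2 n, ← (cj_eq_cj_iff s2 t2).2 t3.2, ← s3]; group
      rw [b2 _ u1, b2 u hu, ← ap_cj n hu, ← ap_mul, e2, ap_mul, ap_cj t4.2 (ap_mem α hu)]
  have lW : U ⊔ CI(S, U) ⊔ R ≤ NI(S, U) := sup_le (sup_cent_le fn.1) nR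
  obtain ⟨γ, c1, c2, c3, -⟩ := exists_pprime_ext le_sup_left g1 (maps_of_sup g1.homOn
    (fun x hx => g2 x hx ▸ mem_sup_left (ap_mem β hx))
    fun x hx => mem_sup_right (SC.mem hR g1 (mem_sup_right hx) hx)) g2 b1.cop
  have cm := (mem_autGroup g1.le).1 c1
  have cU : ∀ x ∈ U, ap γ x = ap α x := fun x hx => (c3 x (mem_sup_left hx)).trans (b2 x hx)
  have ad := h.toWNrm.loc_adm c fn le_sup_left lW cm c2
    (fun x hx => c3 x (mem_sup_right hx) ▸ b1.md x (mem_sup_right hx)) (fun x hx => cU x hx ▸ ap_mem α hx)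
    (am.congr fun x hx => (cU x hx).symm)
  intro r hr
  have r1 : r ∈ U ⊔ CI(S, U) ⊔ R := mem_sup_right hr
  have y1 : y ∈ U ⊔ CI(S, U) ⊔ R := mem_sup_left (mem_sup_left hy)
  have r2 : r⁻¹ * ap γ r ∈ T ⊓ R := ⟨ad.md r r1, mmul (minv hr) (SC.mem hR cm r1 hr)⟩
  have z0 := mod_mem h.sc hR (c.1 hy) hr
  have y2 := c.1 (ap_mem α hy)
  refine comm_of_mod (z := y⁻¹ * (r * y * r⁻¹)) (by group) ?_ (zc z0 _ (mmul (minv (c.1 hy)) y2)).symm
  have k := (cU _ (lZ z0)).trans (Cn.fix z am (lZ z0) z0)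
  rw [cm.mul (minv y1) (mconj r1 y1), cm.inv y1, cm.map_conj r1 y1, cU y hy] at k
  have k2 : r⁻¹ * ap γ r * ap α y = ap α y * (r⁻¹ * ap γ r) := (zc r2 _ y2).symm
  rw [← k]
  calc r * ap α y * r⁻¹ = r * (ap α y * (r⁻¹ * ap γ r)) * (ap γ r)⁻¹ := by group
    _ = _ := by rw [← k2]; group

theorem Nrm.foc_cent (h : Nrm D F p) (hR : F.StronglyClosed R) (z : D.IsCentral (T ⊓ R)) : foc(D) ≤ CC(R) := by
  have := finite_of_le h.le
  have zc : T ⊓ R ≤ CC(T) := cent_swap (Cn.cent z)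
  obtain ⟨X, hX⟩ := exists_focsys D (L := CC(R)) fun s hs y hy r hr => by
    have z1 := mod_mem h.sc hR hy hr
    have z2 := mod_mem h.sc hR hs hr
    refine comm_of_mod (z := y⁻¹ * (r * y * r⁻¹)) (by group) ?_ (zc z1 _ (mmul (minv hy) (mconj hs hy))).symm
    have e1 := zc z2 _ (mmul hy (z1.1))
    have e2 := zc z1 _ (minv hs)
    calc r * (s * y * s⁻¹) * r⁻¹ = s * (s⁻¹ * (r * s * r⁻¹) * (y * (y⁻¹ * (r * y * r⁻¹)))) *
          (s⁻¹ * (r * s * r⁻¹))⁻¹ * s⁻¹ := by group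
      _ = s * y * (y⁻¹ * (r * y * r⁻¹) * s⁻¹) := by rw [← e1]; group
      _ = _ := by rw [← e2]; group
  have key : D.IsSubsystemOf X := h.sat.sub_of le_rfl fun P c α a1 a2 => by
    have am := (mem_autGroup c.le).1 a1
    refine (hX _ _ am).2 fun y hy r hr => ?_
    have tc := h.toInv.centric_iff.1 c.centric
    have lS := c.le.trans h.le
    have := finite_of_le lS
    have lZ : T ⊓ R ≤ P := Cn.le_of_cent z (tc.self h.le) c.le
    have nR : R ≤ NI(S, P) := fun r hr => ⟨hR.1 hr, mem_normalizer_of_finite fun x hx => by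
      simpa using mmul hx (lZ (mod_mem h.sc hR (c.le hx) hr))⟩
    obtain ⟨φ, k1, k2⟩ := h.satF.exists_fn_nmap lS
    have lN := le_normalizerIn lS
    have i := Mor.iso' k1 lN
    obtain ⟨τ, hτ⟩ := exists_tr i
    have k3 := h.loc3 hR z (tc.im h.sc i.mor) k2 ((h.toInv.sinv.tr h.sc c.le i hτ).2 a1)
      (by rwa [MulEquiv.orderOf_eq]) (mem_im_of_mem φ hy) _ (SC.mem hR k1 (nR hr) hr)
    have w : y⁻¹ * ap α y ∈ NI(S, P) := lN (mmul (minv hy) (ap_mem α hy))
    refine k1.inj (mmul (nR hr) w) (mmul w (nR hr)) ?_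
    rw [k1.mul (nR hr) w, k1.mul w (nR hr), k1.mul (lN (minv hy)) (lN (ap_mem α hy)), k1.inv (lN hy), ← hτ α y hy]
    exact k3
  exact foc_le fun P f hf => (hX P f hf).1 (hf.sub key)

/-! ### The dichotomy -/

theorem Cz.trans_cs {X : FusionSystem CI(S, U)} (hX : F.IsCentralizerSystem U X) (h : C.IsSubsystemOf X)
    (hU : U ≤ S) : Cz F C U :=
  have l := subsystem_le h
  (cz_iff_cs (l.trans centralizerIn_le) (CI_swap l hU) hX).1 h

theorem SN.dich (h : SN C p F) (q : QS C p) : Finite S → ∀ {T : Subgroup Ω} {E : FusionSystem T}, Nrm E F p →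
    SN C p E ∨ Cz F C T := by
  induction h with
  | refl =>
    intro _ T E hE
    exact (q.nrm T E hE).symm.imp (fun k => SN.refl.congr k hE.sub) fun k => Cn.cz (cn_of_le k) (sub_refl _)
  | @step U S D F s k ih =>
    intro _ T E hE
    have fU := finite_of_le k.le
    have := finite_of_le s.le
    obtain ⟨X, x1, x2, x3, -⟩ := exists_inter k hE
    rcases ih fU x2 with a | a
    · exact .inl (a.step x3)
    right
    obtain ⟨Y, CX, y1, -, y2, y3⟩ := x1.exists_cent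
    obtain ⟨D₁, d1, d2, d3, -⟩ := exists_inter k y3
    rcases ih fU d2 with b | b
    swap
    · exact (q.not_cz b (le_inf s.le (x1.le_CE ((x2.cz_CE.mono (q.le_CE x2 s.le a)).up k.sub)))).elim
    have := finite_of_le d1.le
    have c1 : Cz F D₁ (U ⊓ T) := Cz.trans_cs y1 (sub_trans d3.sub y2.sub) x1.le
    have c2 : D₁.IsCentral (U ⊓ CE F X p ⊓ T) := Cn.mono (c1.cn d1.sat) fun x hx => ⟨hx.1, hx.1.1, hx.2⟩
    obtain ⟨D₂, e1, e2⟩ := Sat.exists_ppi hyp_le_S d1.sat le_rfl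
    have e3 := d1.res e1 e2
    have := finite_of_le e3.le
    refine (e3.cz_of_cn hE.sc (cent_swap (hyp_le_foc.trans (d1.foc_cent hE.sc c2))) ?_).sub
      (e2.sub_of q.sat b.sub (q.hyp.trans (hyp_mono b.sub)))
    exact Cn.mono ((c1.sub e2.sub).cn e1) fun x hx => ⟨hx.1, (hyp_le_S hx.1).1, hx.2⟩

theorem SN.le_of (h : SN C p F) (q : QS C p) (hE : Nrm E F p) (l : V ≤ T) : SN C p E :=
  have := finite_of_le h.le
  (h.dich q inferInstance hE).resolve_right fun k => q.not_cz k l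

theorem SN.dich' (h : SN C p F) (q : QS C p) (hE : Nrm E F p) : SN C p E ∨ (Cz F C T ∧ Cz F E V) :=
  (h.dich q inferInstance hE).imp_right fun k => ⟨k, hE.cz_CE.mono (q.le_CE hE h.le k)⟩

end CfsgFS
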