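import Cfsg.Agent.FS.Comp1
import Cfsg.Agent.H2.PGroup
import Cfsg.Prelude.Def_FusionFitting

/-! The layer, the generalized Fitting subsystem, and related results. -/

set_option autoImplicit false
set_option linter.unusedSectionVars false

namespace CfsgFS

open Subgroup Cfsg Cfsg.FusionSystem CfsgH9
open CfsgH2 (resIn)
open scoped commutatorElement

variable {p : ℕ} {Ω Ω' : Type*} [Group Ω] [Group Ω'] {S T V T₁ T₂ : Subgroup Ω} {S' T' V' : Subgroup Ω'}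
  {F : FusionSystem S} {E D : FusionSystem T} {C : FusionSystem V} {F' : FusionSystem S'} {E' : FusionSystem T'}
  {E₁ : FusionSystem T₁} {E₂ : FusionSystem T₂} {θ : Ω → Ω'} {P Q R U W : Subgroup Ω} {f g : Ω → Ω}

theorem exists_min_sys [Finite S] (F : FusionSystem S) (Pr : ∀ U : Subgroup Ω, FusionSystem U → Prop)
    (h : ∀ U X, Pr U X → X.IsSubsystemOf F) (hne : ∃ U X, Pr U X) :
    ∃ U X, Pr U X ∧ ∀ U' X', Pr U' X' → X'.IsSubsystemOf X → X.IsSubsystemOf X' := by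
  classical
  let gr : ∀ U : Subgroup Ω, FusionSystem U → Set (Set (S × S)) := fun U X =>
    {G | ∃ P f, Mor X P f ∧ G = {z | (z.1 : Ω) ∈ P ∧ (z.2 : Ω) = f z.1}}
  have ex : ∃ n, ∃ U X, Pr U X ∧ (gr U X).ncard = n := let ⟨U, X, k⟩ := hne; ⟨_, U, X, k, rfl⟩
  obtain ⟨U, X, k, e⟩ := Nat.find_spec ex
  refine ⟨U, X, k, fun U' X' k' l => subsystem_iff.2 fun P f hf => ?_⟩
  have s : gr U' X' ⊆ gr U X := fun _ ⟨P, f, a, b⟩ => ⟨P, f, a.sub l, b⟩
  have e' := Set.eq_of_subset_of_ncard_le s (e ▸ Nat.find_min' ex ⟨U', X', k', rfl⟩)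
  obtain ⟨P', f', h1, h2⟩ : {z : S × S | (z.1 : Ω) ∈ P ∧ (z.2 : Ω) = f z.1} ∈ gr U' X' := e' ▸ ⟨P, f, hf, rfl⟩
  have m := hf.sub (h U X k)
  have j : ∀ x ∈ P, x ∈ P' ∧ f x = f' x := fun x hx =>
    (Set.ext_iff.1 h2 (⟨x, m.le hx⟩, ⟨f x, m.mem hx⟩)).1 ⟨hx, rfl⟩
  exact (h1.restrict fun x hx => (j x hx).1).congr fun x hx => (j x hx).2.symm

theorem Inv.fhom (h : Inv E F) (hf : Mor F W f) (l : T ≤ W) : FHom E E f :=
  ⟨hf.homOn.mono l, fun _ hx => SC.mem h.sc hf (l hx) hx, fun P g hg =>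
    h.sinv P T g f hg (hf.restrict l) le_rfl hg.le fun _ => hg.mem⟩

/-- the layer -/
structure Lay (E : FusionSystem T) (F : FusionSystem S) (p : ℕ) : Prop where
  nrm : Nrm E F p
  comp : ∀ (V : Subgroup Ω) (C : FusionSystem V), SN C p F → QS C p → C.IsSubsystemOf E
  min : ∀ (R : Subgroup Ω) (D : FusionSystem R), Nrm D F p →
    (∀ (V : Subgroup Ω) (C : FusionSystem V), SN C p F → QS C p → C.IsSubsystemOf D) → E.IsSubsystemOf D

variable [Fact p.Prime] [Finite S]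

theorem WNrm.trans_inv {X : FusionSystem U} (h : WNrm X D p) (h' : WNrm D F p)
    (k : ∀ α ∈ F.autGroup T, FHom X X (ap α)) : WNrm X F p := by
  refine ⟨SInv.inv (fun P Q f ψ a b c d e => ?_) h'.satF (sub_trans h.sub h'.sub)
    (h'.toInv.sc_of h.sc fun α hα => (k α hα).mem), h.satE, h'.satF⟩
  obtain ⟨α, a1, g, a2, a3⟩ := h'.frat Q ψ (c.trans h.le) b
  obtain ⟨j, j1, j2⟩ := h.toInv.sinv P Q f g a a2 c d e
  obtain ⟨j', j3, j4⟩ := (k α a1).map _ j j1
  rw [(a2.restrict d).im_im, ← im_congr fun x hx => a3 x (d hx)] at j3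
  exact ⟨j', j3, fun x hx => by rw [a3 x (d hx), j4 _ (mem_im_of_mem g hx), j2 x hx, a3 _ (e x hx)]⟩

theorem WNrm.nrm_of_opp {D' : FusionSystem T} (h : WNrm E F p) (h1 : Opp D' E p) (h2 : E.IsSubsystemOf D') :
    Nrm E F p := sub_rec h1.sub h2 (fun _ X => Nrm X F p) (h1.nrm h)

theorem QS.nrm_of (q : QS E p) (h : WNrm E F p) : Nrm E F p := by
  have := finite_of_le h.le
  obtain ⟨D, hD⟩ := q.sat.opp
  exact h.nrm_of_opp hD ((q.nrm _ D hD.toNrm).resolve_left q.ne)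

theorem WNrm.nrm_same {D : FusionSystem S} (h : WNrm D F p) : Nrm D F p :=
  ⟨h, fun α hα => ⟨ap α, (((mem_autGroup le_rfl).1 hα).sub h.sub).restrict (sup_le le_rfl centralizerIn_le),
    fun _ _ => rfl, fun _ hc => mmul (minv hc.1) (ap_mem α hc.1)⟩⟩

theorem lay_iff (hS : IsPGroup p S) : E.IsLayerOf F p ↔ Lay E F p :=
  ⟨fun h => ⟨(nrm_iff hS).1 h.1, fun V C a b => h.2.1 V C ((comp_iff hS).2 ⟨a, b⟩), fun R D a b =>
    h.2.2 R D ((nrm_iff hS).2 a) fun V C k => let ⟨c, d⟩ := (comp_iff hS).1 k; b V C c d⟩,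
   fun h => ⟨(nrm_iff hS).2 h.nrm, fun V C k => let ⟨c, d⟩ := (comp_iff hS).1 k; h.comp V C c d, fun R D a b =>
    h.min R D ((nrm_iff hS).1 a) fun V C c d => b V C ((comp_iff hS).2 ⟨c, d⟩)⟩⟩

theorem Sat.exists_lay (hF : Sat F p) : ∃ (T : Subgroup Ω) (E : FusionSystem T), Lay E F p := by
  obtain ⟨T, E, ⟨a, b⟩, c⟩ := exists_min_sys F (fun _ X => Nrm X F p ∧
    ∀ (V : Subgroup Ω) (C : FusionSystem V), SN C p F → QS C p → C.IsSubsystemOf X) (fun _ _ h => h.1.sub)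
    ⟨S, F, nrm_refl hF, fun _ _ h _ => h.sub⟩
  refine ⟨T, E, a, b, fun R D d e => ?_⟩
  obtain ⟨X, x1, x2, x3, -⟩ := exists_inter a d
  exact sub_trans (c _ X ⟨x1, fun V C s q => (s.le_of q x1
    (le_inf (subsystem_le (b V C s q)) (subsystem_le (e V C s q)))).sub⟩ x2.sub) x3.sub

theorem Lay.le_of (h : Lay E F p) {D : FusionSystem R} (hD : Nrm D F p)
    (k : ∀ (V : Subgroup Ω) (C : FusionSystem V), SN C p F → QS C p → V ≤ R) : E.IsSubsystemOf D :=
  h.min R D hD fun V C s q => (s.le_of q hD (k V C s q)).sub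

theorem Lay.unique {D : FusionSystem R} (h : Lay E F p) (h' : Lay D F p) : E.IsSubsystemOf D :=
  h.min R D h'.nrm h'.comp

theorem Lay.cz (h : Lay E F p) {X : FusionSystem U} (hX : Nrm X F p)
    (k : ∀ (V : Subgroup Ω) (C : FusionSystem V), SN C p X → QS C p → False) : Cz F E U := by
  obtain ⟨Y, CX, y1, -, y2, y3⟩ := hX.exists_cent
  exact Cz.trans_cs y1 (sub_trans (h.le_of y3 fun V C s q => hX.le_CE
    ((s.dich' q hX).resolve_left fun a => k V C a q).2) y2.sub) hX.le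

theorem Lay.cz_nm (h : Lay E F p) (hQ : F.IsNormal Q) : Cz F E Q :=
  h.cz (Nm.nrm_inner hQ h.nrm.satF) fun _ _ s q => by
    have := finite_of_le hQ.1
    have := finite_of_le s.le
    exact q.not_constrained (s.constrained inferInstance ⟨(sat_inner (h.nrm.satF.pg.to_le hQ.1)).sat, Q,
      nm_inner le_normalizer le_rfl, centric_top⟩)

theorem Lay.fiso (h : Lay E F p) (h1 : FIso F F' θ) (h2 : FIso E E' θ) : Lay E' F' p := by
  have := h1.toFSurj.fin
  obtain ⟨θ', k, k1, k2⟩ := h1.symm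
  have back : ∀ {V' : Subgroup Ω'} (C' : FusionSystem V'), V' ≤ S' →
      ∃ C : FusionSystem (im V' θ'), FIso C' C θ' ∧ FIso C C' θ := fun C' l => by
    have := finite_of_le l
    obtain ⟨C, a⟩ := exists_push C' (k.hiso.mono l)
    obtain ⟨θ₂, a1, a2, a3⟩ := a.symm
    exact ⟨C, a, a1.congr fun y hy => by rw [← k2 _ (l (a1.mem y hy)), a3 y hy]⟩
  refine ⟨h1.nrm h2 h.nrm, fun V' C' s q => ?_, fun R' D' d e => ?_⟩
  · obtain ⟨C, a, b⟩ := back C' s.le
    have := finite_of_le s.le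
    exact FIso.sub h2.toFHom b (h.comp _ C (s.fiso inferInstance k a) (q.fiso a))
  · obtain ⟨D, a, b⟩ := back D' d.le
    refine FIso.sub b.toFHom h2 (h.min _ D (k.nrm a d) fun V C s q => ?_)
    have := finite_of_le s.le
    obtain ⟨C', c⟩ := exists_push C (h1.hiso.mono s.le)
    exact (b.sub_iff c (fun x hx => k1 x (s.le hx) ▸ mem_im_of_mem θ'
      (subsystem_le (e _ C' (s.fiso inferInstance h1 c) (q.fiso c)) (c.mem x hx)))).1
      (e _ C' (s.fiso inferInstance h1 c) (q.fiso c))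

theorem Lay.fhom (h : Lay E F p) (h1 : FIso F F f) : im T f = T ∧ FHom E E f := by
  have := finite_of_le h.nrm.le
  obtain ⟨E', a⟩ := exists_push E (h1.hiso.mono h.nrm.le)
  have b := h.fiso h1 a
  exact sub_rec (b.unique h) (h.unique b) (fun U X => im T f = U ∧ FHom E X f) ⟨rfl, a.toFHom⟩

theorem Lay.nrm_up {X : FusionSystem U} (h : Lay E X p) (hX : Nrm X F p) : Nrm E F p := by
  have := finite_of_le hX.le
  have := finite_of_le h.nrm.le
  obtain ⟨D, hD⟩ := h.nrm.sat.opp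
  exact (h.nrm.toWNrm.trans_inv hX.toWNrm fun α a => (h.fhom (hX.toInv.fiso a)).2).nrm_of_opp hD
    (h.le_of (hD.nrm h.nrm.toWNrm) fun V C s q => subsystem_le (h.comp V C s q))

theorem CP.wnrm_up [Finite T] (h : CP E₁ E₂ D) (hD : Sat D p) (k : WNrm C E₁ p) : WNrm C D p :=
  k.trans_inv (h.nrm1 hD k.satF).toWNrm fun α a =>
    k.toInv.fhom ((h.full1 _ _).2 ⟨(mem_autGroup h.le1).1 a, le_rfl⟩) k.le

theorem Nrm.exists_cp_cent (h : Nrm E F p) : ∃ (Y : FusionSystem (CE F E p)) (W : FusionSystem (T ⊔ CE F E p)),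
    Nrm Y F p ∧ Cz F Y T ∧ CP E Y W ∧ Nrm W F p := by
  obtain ⟨Y, CX, y1, -, y2, y3⟩ := h.exists_cent
  have c := Cz.trans_cs y1 y2.sub h.le
  obtain ⟨W, a, -⟩ := exists_cp h.sat y3.sat rfl h.cz_CE c
  exact ⟨CX, W, y3, c, a, a.nrm h y3 h.cz_CE c⟩

theorem SN.nrm_lay (h : SN C p F) (q : QS C p) : Finite S → ∀ {T : Subgroup Ω} {E : FusionSystem T}, Lay E F p →
    Nrm C E p := by
  induction h with
  | refl => exact fun _ _ _ k => sub_rec (k.comp _ _ .refl q) k.nrm.sub (fun _ X => Nrm C X p) (nrm_refl q.sat)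
  | @step U S X F s k ih =>
    intro _ T E hE
    have := finite_of_le k.le
    have := finite_of_le hE.nrm.le
    obtain ⟨T₁, Y, hY⟩ := k.sat.exists_lay
    have y := hY.nrm_up k
    obtain ⟨Z, W, z1, z2, z3, z4⟩ := y.exists_cp_cent
    have := finite_of_le z4.le
    refine q.nrm_of (((z3.wnrm_up z4.sat (ih inferInstance hY).toWNrm)).mid (hE.comp _ _ (s.step k) q)
      (hE.le_of z4 fun V' C' s' q' => ?_) hE.nrm.sat)
    exact (s'.dich' q' y).elim (fun a => a.le.trans le_sup_left) fun a => (y.le_CE a.2).trans le_sup_right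

theorem Sat.exists_comp (hF : Sat F p) (h : ¬ F.IsConstrained p) :
    ∃ (V : Subgroup Ω) (C : FusionSystem V), SN C p F ∧ QS C p := by
  obtain ⟨U, X, ⟨a, b⟩, c⟩ := exists_min_sys F (fun _ X => SN X p F ∧ ¬ X.IsConstrained p) (fun _ _ h => h.1.sub)
    ⟨S, F, .refl, h⟩
  have := finite_of_le a.le
  have sX := a.sat hF
  have key : ∀ (T : Subgroup Ω) (Y : FusionSystem T), Nrm Y X p → X.IsSubsystemOf Y ∨ T ≤ X.core ∨
      ¬ T ≤ CC(X.core) := fun T Y hY => by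
    by_cases k : Y.IsConstrained p
    · have := finite_of_le hY.le
      have l := Nm.le_core (hY.toInv.nm_core sX)
      exact .inr ((em _).imp_left fun m x hx => l (centric_le (core_centric k) ⟨hx, centralizer_le l (m hx)⟩))
    · exact .inl (c _ Y ⟨hY.sn.trans a, k⟩ hY.sub)
  have n := Nm.nrm_inner (nm_core X) sX
  have cz : X.core ≤ X.center := by
    obtain ⟨Y, CX, y1, -, y2, y3⟩ := n.exists_cent
    rcases key _ _ y3 with k | k | k
    · exact Cn.le_center (cn_of_cs y1 core_le (sub_trans k y2.sub))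
    · exact (b ⟨sX.sat, _, nm_core X, Nm.centric (nm_core X) ((n.le_CE (cz_inner le_rfl core_le)).trans k)⟩).elim
    · exact (k (CE_le.trans centralizerIn_le_centralizer)).elim
  have nr : ∀ (T : Subgroup Ω) (Y : FusionSystem T), Nrm Y X p → T ≤ X.center ∨ X.IsSubsystemOf Y := fun T Y hY => by
    rcases key T Y hY with k | k | k
    exacts [.inr k, .inl (k.trans cz), (k (hY.le.trans ((Cn.cent (cn_center X)).trans (centralizer_le cz)))).elim]
  refine ⟨U, X, a, sX, ?_, fun k => b ⟨sX.sat, U, sX.nm_of_comm sc_top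
    ((Cn.cent (cn_center X)).trans (centralizer_le k)), centric_top⟩, nr⟩
  obtain ⟨Y, y1, y2⟩ := Sat.exists_ppi hyp_le_S sX le_rfl
  refine (nr _ Y (y2.nrm sX y1 hyp_norm)).elim (fun k => (b ?_).elim) subsystem_le
  have e := sX.eq_inner fun P c α a1 a2 => ap_ext fun x hx => by
    rw [ap_one]
    exact fix_of_coprime (sX.pg.to_le c.le) a2 hx (fix_center (k (mem_hyp c.le a1 a2 hx))
      ((mem_autGroup c.le).1 a1) (mmul (minv hx) (ap_mem α hx)))
  exact ⟨sX.sat, U, e ▸ nm_inner le_normalizer le_rfl, centric_top⟩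

theorem Sat.constrained_iff (hF : Sat F p) :
    F.IsConstrained p ↔ ¬ ∃ (V : Subgroup Ω) (C : FusionSystem V), SN C p F ∧ QS C p :=
  ⟨fun h ⟨_, _, s, q⟩ => have := finite_of_le s.le; q.not_constrained (s.constrained inferInstance h),
    fun h => by_contra fun k => h (hF.exists_comp k)⟩

/-- the generalized Fitting subsystem -/
def Fit (D : FusionSystem U) (F : FusionSystem S) (p : ℕ) : Prop :=
  ∃ (T : Subgroup Ω) (E : FusionSystem T), Lay E F p ∧ CP (innerFusionSystem F.core) E D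

theorem fit_iff {D : FusionSystem U} (hS : IsPGroup p S) : D.IsGeneralizedFittingOf F p ↔ Fit D F p := by
  have := finite_of_le (core_le (F := F))
  refine exists_congr fun T => exists_congr fun E => (and_congr_left' (lay_iff hS)).trans (and_congr_right fun h => ?_)
  have := finite_of_le h.nrm.le
  exact cp_iff (sat_inner (hS.to_le core_le)) h.nrm.sat

theorem Lay.cz_core (h : Lay E F p) : Cz F E F.core ∧ Cz F (innerFusionSystem F.core) T :=
  have c := h.cz_nm (nm_core F)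
  ⟨c, cz_inner (CI_swap c.le h.nrm.le) core_le⟩

theorem Lay.exists_fit (h : Lay E F p) (hU : U = F.core ⊔ T) :
    ∃ D : FusionSystem U, CP (innerFusionSystem F.core) E D :=
  let ⟨D, a, _⟩ := exists_cp ((Nm.nrm_inner (nm_core F) h.nrm.satF).sat) h.nrm.sat hU h.cz_core.2 h.cz_core.1
  ⟨D, a⟩

theorem Fit.nrm {D : FusionSystem U} (h : Fit D F p) : Nrm D F p :=
  let ⟨_, _, a, b⟩ := h
  b.nrm (Nm.nrm_inner (nm_core F) a.nrm.satF) a.nrm a.cz_core.2 a.cz_core.1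

theorem Fit.CE_le {D : FusionSystem U} (h : Fit D F p) : CE F D p ≤ U := by
  have n := h.nrm
  obtain ⟨T, E, a, b⟩ := h
  obtain ⟨Y, X, -, -, -, x⟩ := n.exists_cent
  have := finite_of_le x.le
  have k := x.sat.constrained_iff.2 fun ⟨V, C, s, q⟩ => by
    have := finite_of_le s.le
    exact q.not_cz (n.cz_CE.sub (sub_trans (a.comp V C (s.step x) q) b.symm.sub1)) s.le
  have l := (Nm.le_core (x.toInv.nm_core n.satF)).trans b.le1
  exact fun y hy => l (centric_le (core_centric k) ⟨hy, centralizer_le l hy.1.2⟩)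

theorem Fit.comp_nrm {D : FusionSystem U} (h : Fit D F p) (s : SN C p F) (q : QS C p) : Nrm C D p := by
  have n := h.nrm
  obtain ⟨T, E, a, b⟩ := h
  have := finite_of_le n.le
  exact q.nrm_of (b.symm.wnrm_up n.sat (s.nrm_lay q inferInstance a).toWNrm)

theorem Sat.constrained_iff_fit (hF : Sat F p) : F.IsConstrained p ↔ Fit (innerFusionSystem F.core) F p := by
  constructor
  · intro h
    obtain ⟨T, E, a⟩ := hF.exists_lay
    have l : T ≤ ⊥ := subsystem_le (a.min _ _ (Nm.nrm_inner nm_bot hF) fun V C s q =>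
      (hF.constrained_iff.1 h ⟨V, C, s, q⟩).elim)
    obtain ⟨D, b⟩ := a.exists_fit (U := F.core) (sup_eq_left.2 (l.trans bot_le)).symm
    refine ⟨T, E, a, ?_⟩
    have e : D = innerFusionSystem F.core :=
      fus_ext (hom_eq_of_sub (subsystem_iff.2 fun P f hf => (b.full1 P f).2 ⟨hf, hf.le⟩) b.sub1)
    exact e ▸ b
  · rintro ⟨T, E, a, b⟩
    refine hF.constrained_iff.2 fun ⟨V, C, s, q⟩ => ?_
    have := finite_of_le s.le
    have l := subsystem_le (a.comp V C s q)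
    exact q.not_cz ((a.cz_core.1.sub (a.comp V C s q))) (l.trans b.le2)

theorem CP.comp (h : CP E₁ E₂ F) (hF : Sat F p) (h1 : Sat E₁ p) (h2 : Sat E₂ p) (s : SN C p F) (q : QS C p) :
    SN C p E₁ ∨ SN C p E₂ := by
  have := finite_of_le s.le
  rcases s.dich q inferInstance (h.nrm1 hF h1) with a | a
  · exact .inl a
  refine .inr ((s.dich q inferInstance (h.symm.nrm1 hF h2)).resolve_right fun b => q.not_comm ?_)
  exact s.le.trans (h.top.le.trans (sup_le (fun x hx => (a.le hx).2) fun x hx => (b.le hx).2))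

theorem exists_nrm_sup (h1 : Nrm E₁ F p) (h2 : Nrm E₂ F p) (c : T₂ ≤ CC(T₁)) :
    ∃ D : FusionSystem (T₁ ⊔ T₂), Nrm D F p := by
  have := finite_of_le h1.le
  have := finite_of_le h2.le
  obtain ⟨O₁, a⟩ := h1.sat.opp
  obtain ⟨O₂, b⟩ := h2.sat.opp
  have sc := SC.inf h1.sc h2.sc
  obtain ⟨D, -, d⟩ := exists_cp_nrm (a.nrm h1.toWNrm) (b.nrm h2.toWNrm) rfl c
    (a.cn (SC.sub sc h1.sub inf_le_left) (inf_le_right.trans c))
    (b.cn (SC.sub sc h2.sub inf_le_right) (inf_le_left.trans (cent_swap c)))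
  exact ⟨D, d⟩

/-! ### Direct factors -/

theorem Full.sat_of (h : Full E F) (hF : Sat F p) (hT : F.StronglyClosed T) (h1 : HomOn S f) (h2 : ∀ x ∈ S, f x ∈ T)
    (h3 : ∀ x ∈ T, f x = x) (hk : F.StronglyClosed (pre S f ⊥)) : Sat E p := by
  obtain ⟨E₀, k⟩ := hF.exists_quo (S' := T) h1 hk
    (le_antisymm (im_le.2 h2) fun x hx => h3 x hx ▸ mem_im_of_mem f (hT.1 hx))
  refine sub_rec (E := E₀) (subsystem_iff.2 fun P g hg => ?_) (subsystem_iff.2 fun P g hg => ?_) (fun _ X => Sat X p)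
    (k.sat hF)
  · obtain ⟨j, j1, j2⟩ := k.lift P g hg
    have l : P ≤ pre S f P := fun x hx => mem_pre_of (hT.1 (hg.le hx)) ((h3 x (hg.le hx)).symm ▸ hx)
    exact (h P g).2 ⟨(j1.restrict l).congr fun x hx => by
      rw [← h3 _ (SC.mem hT j1 (l hx) (hg.le hx)), ← j2 x (l hx), h3 x (hg.le hx)], hg.le⟩
  · exact k.toFHom.mor (hg.sub h.sub) (im_eq_of_eq_self fun x hx => h3 x (hg.le hx)) fun x hx => by
      rw [h3 x (hg.le hx), h3 _ (hg.mem hx)]

theorem exists_proj (c : T₂ ≤ CC(T₁)) (d : T₁ ⊓ T₂ = ⊥) : ∃ f, HomOn (T₁ ⊔ T₂) f ∧ ∀ a ∈ T₁, ∀ b ∈ T₂, f (a * b) = a := by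
  classical
  have u : ∀ a ∈ T₁, ∀ b ∈ T₂, ∀ a' ∈ T₁, ∀ b' ∈ T₂, a * b = a' * b' → a = a' := fun a ha b hb a' ha' b' hb' e => by
    have : a'⁻¹ * a ∈ T₁ ⊓ T₂ := ⟨mmul (minv ha') ha, by
      rw [show a'⁻¹ * a = b' * b⁻¹ by rw [eq_mul_inv_iff_mul_eq, mul_assoc, e, inv_mul_cancel_left]]
      exact mmul hb' (minv hb)⟩
    rw [d, mem_bot, inv_mul_eq_one] at this
    exact this.symm
  obtain ⟨π, key⟩ : ∃ π : Ω → Ω, ∀ a ∈ T₁, ∀ b ∈ T₂, π (a * b) = a :=
    ⟨fun x => if h : ∃ a ∈ T₁, ∃ b ∈ T₂, x = a * b then h.choose else 1, fun a ha b hb => by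
      have h : ∃ a' ∈ T₁, ∃ b' ∈ T₂, a * b = a' * b' := ⟨a, ha, b, hb, rfl⟩
      simp only [dif_pos h]
      obtain ⟨h1, b', h2, h3⟩ := h.choose_spec
      exact (u a ha b hb _ h1 b' h2 h3).symm⟩
  refine ⟨π, fun x hx y hy => ?_, key⟩
  obtain ⟨a, ha, b, hb, rfl⟩ := (mem_sup_cent c).1 hx
  obtain ⟨a', ha', b', hb', rfl⟩ := (mem_sup_cent c).1 hy
  rw [key a ha b hb, key a' ha' b' hb', show a * b * (a' * b') = a * a' * (b * b') by
    rw [mul_assoc a, ← mul_assoc b, ← c hb a' ha']; group, key _ (mmul ha ha') _ (mmul hb hb')]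

theorem direct_factors (hF : Sat F p) (c : T₂ ≤ CC(T₁)) (d : T₁ ⊓ T₂ = ⊥) (top : T₁ ⊔ T₂ = S)
    (h1 : F.StronglyClosed T₁) (h2 : F.StronglyClosed T₂) {R R' : FusionSystem T₁} (hR : Full R F)
    (hR' : ∀ P f, Mor R' P f ↔ P ≤ T₁ ∧ ∃ g, Mor F (P ⊔ T₂) g ∧ (∀ x ∈ P, g x = f x) ∧ ∀ x ∈ T₂, g x = x) :
    WNrm R F p ∧ Nrm R' F p ∧ Nrm R' R p := by
  have := finite_of_le h1.1
  obtain ⟨π, a, b⟩ := exists_proj c d
  rw [top] at a
  have b1 : ∀ x ∈ T₁, π x = x := fun x hx => by simpa using b x hx 1 (one_mem _)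
  have b2 : ∀ x ∈ S, π x ∈ T₁ := fun x hx => by
    obtain ⟨u, hu, v, hv, rfl⟩ := (mem_sup_cent c).1 (top.ge hx)
    exact (b u hu v hv).symm ▸ hu
  have ker : ∀ U ≤ S, pre U π ⊥ = T₂ ⊓ U := fun U l => by
    ext x
    rw [mem_ker (a.mono l)]
    refine ⟨fun h => ⟨?_, h.1⟩, fun h => ⟨h.2, by simpa using b 1 (one_mem _) x h.1⟩⟩
    obtain ⟨u, hu, v, hv, rfl⟩ := (mem_sup_cent c).1 (top.ge (l h.1))
    have := h.2
    rw [b u hu v hv] at this
    simpa [this] using hv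
  have wR : WNrm R F p :=
    ⟨hR.inv h1, (hR.sat_of hF h1 a b2 b1 (ker S le_rfl ▸ SC.inf h2 sc_top)).sat, hF⟩
  obtain ⟨X, hX⟩ := exists_CS F h2.1
  have l1 : T₁ ≤ CI(S, T₂) := fun x hx => ⟨h1.1 hx, cent_swap c hx⟩
  have fu : Full R' X := fun P f => (hR' P f).trans ⟨fun ⟨k, g, g1, g2, g3⟩ =>
    ⟨(cs_mor hX g1 le_sup_left le_sup_right (k.trans l1) g3).congr g2, k⟩, fun k => ⟨k.2, cs_ext hX k.1⟩⟩
  have sR := fu.sat_of (hF.cs (hF.fc (fn_of_normal h2.1 (SC.norm h2))) hX) (SC.sub h1 (cs_sub hX) l1)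
    (a.mono centralizerIn_le) (fun x hx => b2 x hx.1) b1 (ker _ centralizerIn_le ▸ SC.inf_sub h2 (cs_sub hX))
  have sb := sub_trans fu.sub (cs_sub hX)
  have w : WNrm R' F p := by
    refine ⟨SInv.inv (fun P Q f ψ k1 k2 k3 k4 k5 => ?_) hF sb h1, sR.sat, hF⟩
    obtain ⟨-, g, g1, g2, g3⟩ := (hR' P f).1 k1
    obtain ⟨χ, c1, c2⟩ := hF.ext_cent h2 k2 (fun x hx => (l1 (k3 hx)).2) fun x hx =>
      (l1 (SC.mem h1 k2 hx (k3 hx))).2
    obtain ⟨j, j1, j2⟩ := mor_conjugate g1 c1 (sup_le_sup_right k4 _) (maps_of_sup g1.homOn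
      (fun x hx => (g2 x hx).symm ▸ mem_sup_left (k5 x hx)) fun x hx => (g3 x hx).symm ▸ mem_sup_right hx)
    have := finite_of_le h2.1
    have e2 := SC.im_eq h2 c1 le_sup_right
    rw [(c1.homOn.mono (sup_le_sup_right k4 _)).im_sup, e2, im_congr fun x hx => c2 x (k4 hx)] at j1
    refine ⟨j, (hR' _ _).2 ⟨im_le.2 fun x hx => SC.mem h1 k2 (k4 hx) (k3 (k4 hx)), j, j1, fun _ _ => rfl,
      fun y hy => ?_⟩, fun x hx => by rw [← c2 x (k4 hx), j2 x (mem_sup_left hx), g2 x hx, c2 _ (k5 x hx)]⟩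
    obtain ⟨x, hx, rfl⟩ := (c1.restrict le_sup_right).mem_im.1 (e2.ge hy)
    rw [j2 x (mem_sup_right hx), g3 x hx]
  refine ⟨wR, ⟨w, fun α hα => ?_⟩, (w.mid (subsystem_iff.2 fun P f hf => (hR P f).2 ⟨hf.sub sb, hf.le⟩)
    hR.sub wR.sat).nrm_same⟩
  obtain ⟨-, g, g1, g2, g3⟩ := (hR' _ _).1 ((mem_autGroup le_rfl).1 hα)
  exact ⟨g, g1.restrict ((sup_le h1.1 centralizerIn_le).trans top.ge), g2, fun x hx => modT_sup (top.le.trans (SC.norm h1)) c g1.homOn
    (fun y hy => mmul (minv hy) (SC.mem h1 g1 (mem_sup_left hy) hy)) (fun y hy => by simp [g3 y hy]) x (top.ge hx.1)⟩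

/-! ### Characteristic `p` type or component type -/

theorem axb [Finite W] (hW : IsPGroup p W) {β : MulAut W} (ho : (orderOf β).Coprime p) (hQ : Q ≤ W) (hU : U ≤ W)
    (n : U ≤ NN(Q)) (m : ∀ x ∈ Q, ap β x ∈ Q) (h1 : ∀ x ∈ U, ap β x = x) (h2 : ∀ x ∈ Q, x ∈ CC(U) → ap β x = x) :
    ∀ x ∈ Q, ap β x = x := by
  have hb := homOn_ap β
  have l : U ⊔ Q ≤ W := sup_le hU hQ
  let A : Subgroup Ω :=
    { carrier := {x | x ∈ U ⊔ Q ∧ ap β x = x}
      one_mem' := ⟨one_mem _, hb.one⟩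
      mul_mem' := fun {a b} ha hb' => ⟨mmul ha.1 hb'.1, by rw [hb.mul (l ha.1) (l hb'.1), ha.2, hb'.2]⟩
      inv_mem' := fun {a} ha => ⟨minv ha.1, by rw [hb.inv (l ha.1), ha.2]⟩ }
  by_contra k
  have lt : A < U ⊔ Q := lt_of_le_of_ne (fun _ h => h.1) fun e =>
    k fun x hx => (show x ∈ A from e ▸ mem_sup_right hx).2
  obtain ⟨x, x1, x2, x3⟩ := exists_norm_of_lt hW lt l
  refine x2 ⟨x1, fix_of_coprime hW ho (l x1) (h2 _ ?_ fun u hu => ?_)⟩
  · obtain ⟨u, hu, q, hq, rfl⟩ := (CfsgH2.mem_sup_of_normalizer' n).1 x1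
    rw [hb.mul (hU hu) (hQ hq), h1 u hu]
    simpa [mul_assoc] using mmul (minv hq) (m q hq)
  · have a : x * u * x⁻¹ ∈ A := conj_mem_of_mem_normalizer x3 ⟨mem_sup_left hu, h1 u hu⟩
    have e := a.2
    rw [hb.conj (l x1) (hU hu), h1 u hu] at e
    calc u * (x⁻¹ * ap β x) = x⁻¹ * (x * u * x⁻¹) * ap β x := by group
      _ = _ := by rw [← e]; group

theorem cs_constrained (hS : IsPGroup p S) (h : F.IsConstrained p) (fc : F.IsFullyCentralized U)
    {Y : FusionSystem CI(S, U)} (hY : F.IsCentralizerSystem U Y) : Y.IsConstrained p := by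
  have hF : Sat F p := ⟨hS, h.1⟩
  have sY := hF.cs fc hY
  refine sY.constrained_iff.2 fun ⟨V, K, s, q⟩ => ?_
  have := finite_of_le s.le
  obtain ⟨T, E, a⟩ := sY.exists_lay
  have nQ := nm_core F
  have nQ' : Y.IsNormal (F.core ⊓ CI(S, U)) := normal_iff.2 ⟨inf_le_right, fun P f hf => by
    obtain ⟨g, g1, g2, g3⟩ := cs_ext hY hf
    obtain ⟨k, k1, k2, -⟩ := Nm.ext nQ g1
    have m := cs_mor hY k1 (P := P ⊔ F.core ⊓ CI(S, U))
      (sup_le (le_sup_left.trans le_sup_left) (inf_le_left.trans le_sup_right)) (le_sup_right.trans le_sup_left)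
      (sup_le hf.le inf_le_right) fun x hx => (k2 x (mem_sup_right hx)).trans (g3 x hx)
    have := finite_of_le (inf_le_right : F.core ⊓ CI(S, U) ≤ _)
    exact ⟨k, m, fun x hx => (k2 x (mem_sup_left hx)).trans (g2 x hx),
      SC.im_eq (SC.inf_sub (Nm.sc nQ) (cs_sub hY)) m le_sup_right⟩⟩
  have cz := (a.cz_nm nQ').sub (a.comp V K s q)
  refine q.not_triv (triv_iff'.1 (q.sat.eq_inner fun P c α a1 a2 => ?_))
  obtain ⟨g, g1, g2, g3⟩ := cz.ext P _ ((mem_autGroup c.le).1 a1)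
  obtain ⟨j, j1, j2, j3⟩ := cs_ext hY g1
  obtain ⟨k, k1, k2, -⟩ := Nm.ext nQ j1
  have l1 : P ≤ P ⊔ F.core ⊓ CI(S, U) ⊔ U ⊔ F.core := (le_sup_left.trans le_sup_left).trans le_sup_left
  have lU : U ≤ P ⊔ F.core ⊓ CI(S, U) ⊔ U ⊔ F.core := le_sup_right.trans le_sup_left
  have e1 : ∀ x ∈ P, k x = ap α x := fun x hx => by
    rw [k2 x (mem_sup_left (mem_sup_left hx)), j2 x (mem_sup_left hx), g2 x hx]
  have e2 : ∀ x ∈ U, k x = x := fun x hx => by rw [k2 x (mem_sup_right hx), j3 x hx]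
  have e3 : ∀ x ∈ F.core ⊓ CI(S, U), k x = x := fun x hx => by
    rw [k2 x (mem_sup_left (mem_sup_right hx)), j2 x (mem_sup_right hx), g3 x hx]
  have kk := k1.restrict le_sup_left
  obtain ⟨β, b1, b2, b3, γ, b4, b5⟩ := exists_pprime_ext l1 k1 (maps_of_sup k1.homOn (maps_of_sup kk.homOn
    (maps_of_sup (kk.restrict le_sup_left).homOn (fun x hx => e1 x hx ▸ l1 (ap_mem α hx))
      fun x hx => (e3 x hx).symm ▸ mem_sup_right hx.1) fun x hx => (e2 x hx).symm ▸ lU hx)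
    fun x hx => mem_sup_right (SC.mem (Nm.sc nQ) k1 (mem_sup_right hx) hx)) e1 a2
  have bm := (mem_autGroup k1.le).1 b1
  have := finite_of_le k1.le
  have f1 := axb (hS.to_le k1.le) b2 le_sup_right lU (fc.1.trans (Nm.norm nQ))
    (fun x hx => SC.mem (Nm.sc nQ) bm (mem_sup_right hx) hx)
    (fix_of_zpowers b5 fun x hx => (b4 x (lU hx)).trans (e2 x hx))
    fun x h1 h2 => fix_of_zpowers (Y := F.core ⊓ CI(S, U)) b5
      (fun x hx => (b4 x (mem_sup_right hx.1)).trans (e3 x hx)) x ⟨h1, core_le h1, h2⟩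
  obtain ⟨z, z1, z2⟩ := hF.eq_conj_of_centric (core_centric h) le_sup_right bm f1
  have := aut_finite k1.le
  have e := eq_one_of_coprime (isPGroup_autInducedBy hS _) (mem_autInducedBy.2 ⟨z, core_le z1.1, z2⟩) b2
  exact ap_ext fun x hx => by rw [← b3 x hx, e, ap_one, ap_one]

theorem ns_fhom {N : FusionSystem NI(S, U)} {N' : FusionSystem NI(S, Q)} (hN : F.IsNormalizerSystem U N)
    (hN' : F.IsNormalizerSystem Q N') (hU : U ≤ S) (hf : Mor F NI(S, U) f) (e : im U f = Q) : FHom N N' f := by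
  have l := le_normalizerIn hU
  have m : ∀ x ∈ NI(S, U), f x ∈ NI(S, Q) := fun x hx => e ▸ mem_NI_of_mor hf l hx hx.2
  refine ⟨hf.homOn, m, fun P g hg => ?_⟩
  obtain ⟨k, k1, k2, k3⟩ := ns_ext hN hg
  obtain ⟨j, j1, j2⟩ := mor_conjugate k1 hf (sup_le hg.le l) (maps_of_sup k1.homOn
    (fun x hx => (k2 x hx).symm ▸ hg.mem hx) fun x hx => l (k3 ▸ mem_im_of_mem k hx))
  refine ⟨j, ns_mor hN' j1 (im_mono le_sup_left) (e ▸ im_mono le_sup_right) (im_le.2 fun x hx => m x (hg.le hx)) ?_,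
    fun x hx => by rw [j2 x (mem_sup_left hx), k2 x hx]⟩
  rw [← e, (hf.restrict l).im_im, im_congr fun x hx => j2 x (mem_sup_right hx),
    ← (k1.restrict le_sup_right).im_im, k3]

theorem ns_fiso {N : FusionSystem NI(S, U)} {N' : FusionSystem NI(S, Q)} (hN : F.IsNormalizerSystem U N)
    (hN' : F.IsNormalizerSystem Q N') (hU : F.IsFullyNormalized U) (hf : Mor F NI(S, U) f) (e : im U f = Q) :
    FIso N N' f := by
  have l := le_normalizerIn hU.1
  have e1 := im_NI_eq hU hf l le_rfl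
  rw [e] at e1
  obtain ⟨g, g1, g2, g3⟩ := Iso.symm (F := F) ⟨hf, e1⟩
  refine fiso_of_inv (ns_fhom hN hN' hU.1 hf e) (ns_fhom hN' hN (e ▸ (hf.restrict l).im_le_S) g1.mor ?_) g2 g3
  rw [← e, (hf.restrict l).im_im]
  exact im_eq_of_eq_self fun x hx => g2 x (l hx)

theorem ns_constrained_of (hF : Sat F p) (fn : F.IsFullyNormalized U) {N : FusionSystem NI(S, U)}
    (hN : F.IsNormalizerSystem U N) (l : R ≤ U) (c : U ≤ CC(R)) {X : FusionSystem CI(S, R)}
    (hX : F.IsCentralizerSystem R X) (h : X.IsConstrained p) : N.IsConstrained p := by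
  have sN := hF.ns fn hN
  refine sN.constrained_iff.2 fun ⟨V, K, s, q⟩ => ?_
  have := finite_of_le s.le
  have := finite_of_le fn.1
  have lU : U ≤ CI(S, R) := fun x hx => ⟨fn.1 hx, c hx⟩
  have pX := hF.pg.to_le (centralizerIn_le : CI(S, R) ≤ S)
  have n := Nm.nrm_inner (ns_nm hN fn.1) sN
  obtain ⟨Y₀, Y, y1, -, y2, y3⟩ := n.exists_cent
  have s' : SN K p Y := s.le_of q y3 (n.le_CE ((s.dich' q n).resolve_left fun a => q.not_constrained
    (a.constrained inferInstance ⟨n.satE, U, nm_inner le_normalizer le_rfl, centric_top⟩)).2)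
  obtain ⟨Z, hZ⟩ := exists_CS X lU
  have e : CI(CI(S, R), U) = CI(S, U) :=
    le_antisymm (fun x hx => ⟨hx.1.1, hx.2⟩) fun x hx => ⟨⟨hx.1, centralizer_le l hx.2⟩, hx.2⟩
  have fc : X.IsFullyCentralized U := ⟨lU, fun Q hQ => by
    obtain ⟨f, i⟩ := isConj_iff.1 hQ
    rw [e]
    exact (card_le_of_le (show CI(CI(S, R), Q) ≤ CI(S, Q) from fun x hx => ⟨hx.1.1, hx.2⟩)).trans
      ((hF.fc fn).2 Q (i.sub (cs_sub hX)).isConj)⟩
  have cZ := cs_constrained pX h fc hZ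
  have lN : CI(S, U) ≤ CI(NI(S, U), U) := fun x hx => ⟨centralizerIn_le_normalizerIn hx, hx.2⟩
  refine q.not_constrained ((s'.congr (subsystem_iff.2 fun P f hf => ?_) (y2.sub_of ⟨pX.to_le centralizerIn_le, cZ.1⟩
    (subsystem_iff.2 fun P f hf => ?_) (n.le_CE (cz_inner (e.le.trans lN) (le_normalizerIn fn.1))))).constrained
    inferInstance cZ)
  · have m := hf.sub y2.sub
    obtain ⟨g, g1, g2, g3⟩ := cs_ext y1 m
    have lP : P ≤ CI(S, U) := fun x hx => ⟨(m.le hx).1.1, (m.le hx).2⟩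
    exact (cs_mor hZ (cs_mor hX (g1.sub (ns_sub hN)) le_rfl (l.trans le_sup_right)
      (sup_le (lP.trans (CI_anti l)) lU) fun x hx => g3 x (l hx)) le_sup_left le_sup_right (lP.trans e.ge) g3).congr g2
  · obtain ⟨g, g1, g2, g3⟩ := cs_ext hZ hf
    have lP := hf.le.trans e.le
    exact (cs_mor y1 (ns_mor hN (g1.sub (cs_sub hX)) le_rfl le_sup_right
      (sup_le (lP.trans centralizerIn_le_normalizerIn) (le_normalizerIn fn.1)) (im_eq_of_eq_self g3))
      le_sup_left le_sup_right (lP.trans lN) g3).congr g2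

theorem exists_central_in [Finite V] (hV : IsPGroup p V) (hU : U ≤ V) (hn : V ≤ NN(U)) (h : U ≠ ⊥) :
    ∃ x ∈ U, orderOf x = p ∧ x ∈ CC(V) := by
  have n : (U.subgroupOf V).Normal := (normal_subgroupOf_iff_le_normalizer hU).2 hn
  obtain ⟨x, x1, x2, x3, x4⟩ := CfsgH2.exists_central_of_ne_bot (V := (⊤ : Subgroup V)) (N := U.subgroupOf V)
    (hV.to_subgroup ⊤) le_top (normalizer_eq_top _).ge fun e => h (by
      rw [← map_subgroupOf_eq_of_le hU, e, Subgroup.map_bot])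
  exact ⟨x, x1, by rw [orderOf_coe]; exact orderOf_eq_prime x3 x2, fun y hy =>
    congrArg Subtype.val (x4 ⟨y, hy⟩ trivial)⟩

theorem Sat.char_or_comp (hF : Sat F p) : F.IsOfCharacteristicPType p ∨ F.IsOfComponentType p := by
  refine or_iff_not_imp_right.2 fun h U h0 fn N hN => ?_
  obtain ⟨x, x1, x2, x3⟩ := exists_central_in (hF.pg.to_le (normalizerIn_le : NI(S, U) ≤ S)) (le_normalizerIn fn.1)
    normalizerIn_le_normalizer h0
  have lX : zpowers x ≤ U := zpowers_le.2 x1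
  have c : NI(S, U) ≤ CC(zpowers x) := cent_swap (zpowers_le.2 x3)
  have lN : NI(S, U) ≤ NI(S, zpowers x) := fun y hy => centralizerIn_le_normalizerIn ⟨hy.1, c hy⟩
  obtain ⟨φ, k1, k2⟩ := hF.exists_fn_nmap (lX.trans fn.1)
  have k3 := k1.restrict lN
  have l := le_normalizerIn fn.1
  have fn' := fn_transfer fn k3 l le_rfl
  obtain ⟨N', hN'⟩ := exists_NS F fn'.1
  obtain ⟨X, hX⟩ := exists_CS F k2.1
  have sX := hF.cs (hF.fc k2) hX
  have cX := sX.constrained_iff.2 fun ⟨V, K, a⟩ => h ⟨_, by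
    rw [(k3.restrict (lX.trans l)).card_im, Nat.card_zpowers, x2], k2, X, hX, V, K, (comp_iff sX.pg).2 a⟩
  obtain ⟨ψ, i, -⟩ := (ns_fiso hN hN' fn k3 rfl).symm
  exact i.constrained (hF.pg.to_le normalizerIn_le) (ns_constrained_of hF fn' hN' (im_mono lX)
    (im_le.2 fun y hy => k3.mem_centralizer (lX.trans l) (l hy) (c (l hy))) hX cX)

end CfsgFS
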