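import Cfsg.Agent.FS.Comp2

/-! Residual limits and `p`-solvability. -/

set_option autoImplicit false
set_option linter.unusedSectionVars false

namespace CfsgFS

open Subgroup Cfsg Cfsg.FusionSystem CfsgH9
open CfsgH2 (resIn)
open scoped commutatorElement

section grp
variable {p : ℕ} [Fact p.Prime] {G : Type*} [Group G] [Finite G] {A B : Subgroup G}

theorem psolv_chain (l : B ≤ A) [(B.subgroupOf A).Normal] (h : IsPSolvable p (A ⧸ B.subgroupOf A))
    (Pr : Subgroup G → Prop) (top : Pr A)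
    (step : ∀ K K' : Subgroup G, B ≤ K → A ≤ NN(K) → (∃ m : ℕ, (¬ p ∣ m ∨ ∃ k, m = p ^ k) ∧ ∀ a ∈ K', a ^ m ∈ K) →
      Pr K' → Pr K) : Pr B := by
  obtain ⟨n, H, h0, h1, -, h3, h4⟩ := h
  let K : Fin (n + 1) → Subgroup G := fun i => ((H i).comap (QuotientGroup.mk' (B.subgroupOf A))).map A.subtype
  have mem : ∀ i a, a ∈ K i ↔ ∃ h : a ∈ A, (QuotientGroup.mk ⟨a, h⟩ : A ⧸ B.subgroupOf A) ∈ H i := fun i a =>
    ⟨fun ⟨b, hb, e⟩ => e ▸ ⟨b.2, hb⟩, fun ⟨h, k⟩ => ⟨⟨a, h⟩, k, rfl⟩⟩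
  have key : ∀ i, Pr (K i) := fun i => by
    induction i using Fin.reverseInduction with
    | last =>
      have : K (Fin.last n) = A := by ext a; simp [mem, h1]
      exact this ▸ top
    | cast i ih =>
      have := h3 i.castSucc
      refine step _ _ (fun b hb => (mem _ _).2 ⟨l hb, by
        rw [(QuotientGroup.eq_one_iff _).2 (show (⟨b, l hb⟩ : A) ∈ B.subgroupOf A from hb)]; exact one_mem _⟩)
        (le_norm_of_conj fun a ha x hx => ?_) ⟨(H i.castSucc).relIndex (H i.succ),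
          (h4 i).symm.imp ndvd_of_coprime id, fun a ha => ?_⟩ ih
      · obtain ⟨x1, x2⟩ := (mem _ _).1 hx
        exact (mem _ _).2 ⟨mconj ha x1, this.conj_mem _ x2 (QuotientGroup.mk ⟨a, ha⟩)⟩
      · obtain ⟨x1, x2⟩ := (mem _ _).1 ha
        exact (mem _ _).2 ⟨pow_mem x1 _, pow_relIndex_mem _ x2⟩
  have : K 0 = B := by
    ext a
    rw [mem, h0]
    exact ⟨fun ⟨h, k⟩ => (QuotientGroup.eq_one_iff (⟨a, h⟩ : A)).1 k,
      fun k => ⟨l k, (QuotientGroup.eq_one_iff (⟨a, l k⟩ : A)).2 k⟩⟩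
  exact this ▸ key 0

theorem psolv_of (l : B ≤ A) (n : A ≤ NN(B)) (hB : IsPSolvable p B)
    (h : (∀ a ∈ A, Pel p a → a ∈ B) ∨ ∀ a ∈ A, (orderOf a).Coprime p → a ∈ B) : IsPSolvable p A := by
  have := (normal_subgroupOf_iff_le_normalizer l).2 n
  refine CfsgH1.IsPSolvable.of_normal_of_quotient (B.subgroupOf A) (CfsgH1.IsPSolvable.of_surjective hB
    (subgroupOfEquivOfLe l).symm.toMonoidHom (MulEquiv.surjective _)) ?_
  rcases h with h | h
  · refine CfsgH1.isPSolvable_of_coprime (((Nat.Prime.coprime_iff_not_dvd Fact.out).2 fun k => ?_).symm)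
    obtain ⟨x, hx⟩ := exists_prime_orderOf_dvd_card' p k
    obtain ⟨a, rfl⟩ := QuotientGroup.mk_surjective x
    obtain ⟨-, m, m1, m2⟩ := pow_split p (a : G)
    have e : (QuotientGroup.mk a : A ⧸ B.subgroupOf A) ^ m = 1 := by
      rw [← QuotientGroup.mk_pow, QuotientGroup.eq_one_iff]
      exact h _ (pow_mem a.2 m) m2
    exact m1 (hx ▸ orderOf_dvd_of_pow_eq_one e)
  · refine CfsgH1.isPSolvable_of_isPGroup fun x => ?_
    obtain ⟨a, rfl⟩ := QuotientGroup.mk_surjective x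
    obtain ⟨⟨k, hk⟩, -⟩ := pow_split p (a : G)
    exact ⟨k, by
      rw [← QuotientGroup.mk_pow, QuotientGroup.eq_one_iff]
      exact h _ (pow_mem a.2 _) hk⟩

end grp

variable {p : ℕ} {Ω : Type*} [Group Ω] {S T U V : Subgroup Ω} {F : FusionSystem S} {E : FusionSystem T}
  {L : FusionSystem U} {P Q R W : Subgroup Ω} {f g : Ω → Ω}

/-- stable systems: equal to both residuals -/
structure Stab (L : FusionSystem U) (p : ℕ) : Prop where
  sat : Sat L p
  hyp : U ≤ hyp(L, p)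
  opp : Opp L L p

variable [Fact p.Prime] [Finite S]

theorem Stab.le_of (h : Stab L p) (h1 : Nrm L F p) (h2 : Nrm E F p) (l : U ≤ T) : L.IsSubsystemOf E := by
  have := finite_of_le h1.le
  obtain ⟨X, -, x2, x3, -⟩ := exists_inter h1 h2
  refine sub_trans ?_ x3.sub
  have e : U ⊓ T = U := inf_eq_left.2 l
  revert x2
  generalize U ⊓ T = R at X e
  subst e
  exact fun x2 => h.opp.le_of x2.sat x2.toWNrm.ppr

theorem Stab.nrm_mid (h : Stab L p) (h1 : Nrm L F p) (hE : Sat E p) (l1 : L.IsSubsystemOf E)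
    (l2 : E.IsSubsystemOf F) : Nrm L E p :=
  have := finite_of_le (subsystem_le l2)
  h.opp.nrm (h1.toWNrm.mid l1 l2 hE)

theorem lim_spec {p : ℕ} (h : L.IsResidualLimitOf E p) : ∀ [Fact p.Prime], Nrm E F p → Nrm L F p ∧ Stab L p ∧
    ∀ (V : Subgroup Ω) (M : FusionSystem V), Stab M p → Nrm M F p → M.IsSubsystemOf E → M.IsSubsystemOf L := by
  induction h with
  | stable E p h1 h2 =>
    intro _ hE
    have := finite_of_le hE.le
    exact ⟨hE, ⟨hE.sat, h1.ge, hE.sat.opp_of_res h2⟩, fun _ _ _ _ => id⟩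
  | step E p D D' h1 h2 _ ih =>
    intro _ hE
    have := finite_of_le hE.le
    have := finite_of_le (hyp_le_S (F := E) (p := p))
    have sD : Sat D p := ⟨hE.sat.pg.to_le hyp_le_S, h1.1⟩
    have n := (sD.opp_of_res h2).nrm (hE.res sD (ppi_iff.1 h1.2)).toWNrm
    obtain ⟨a, b, c⟩ := ih n
    exact ⟨a, b, fun V M s m l => c V M s m (s.le_of m n (s.hyp.trans (hyp_mono l)))⟩

theorem Nrm.res' {E₀ : FusionSystem R} (h : Nrm E F p) (h1 : Sat E₀ p) (h2 : PPI E₀ E p)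
    (hi : ∀ α ∈ F.autGroup T, ∀ x ∈ R, ap α x ∈ R) : Nrm E₀ F p := by
  have := finite_of_le h.le
  have := finite_of_le h2.le
  have n := h2.nrm h.sat h1 fun t ht => mem_normalizer_of_finite fun x hx => by
    rw [← ap_cj (le_normalizer ht) (h2.le hx)]; exact hi _ (cj_mem_autGroup F h.le (h.le ht)) x hx
  have sc := h.sc_of n.sc hi
  have sub := sub_trans h2.sub h.sub
  obtain ⟨D, hD⟩ := exists_ges F E p
  have sD := hD.sat h
  refine WNrm.nrm_of ⟨⟨sub, sc, fun P f hf α hα => inv_of_pprime h1 sub hα (fun P hP β b1 b2 γ _ c2 e => ?_) hf,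
    fun P f hP hf => ?_⟩, h1.sat, h.satF⟩ fun α a b => ?_
  · have l := im_ap_le hP α
    refine h2.aut _ l γ (h.sinv.mor ((mem_autGroup (hP.trans h2.le)).1 (autGroup_mono h2.sub hP b1))
      ((mem_autGroup sc.1).1 hα) h2.le hP (fun x hx => hP (ap_mem β hx)) rfl e).mem_autGroup c2
  · obtain ⟨α, a1, g, g1, g2⟩ := h.frat P f (hP.trans h2.le) hf
    obtain ⟨β, b1, k, k1, k2⟩ := n.frat P g hP g1
    obtain ⟨α', c1, c2, -⟩ := exists_res_aut h2.le h.le a1 (hi α a1)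
    exact ⟨α' * β, mmul c1 (autGroup_mono h.sub h2.le b1), k, k1, fun x hx => by
      rw [g2 x hx, k2 x hx, ap_mul, c2 _ (ap_mem _ (k1.mem hx))]⟩
  · have pp := hD.ppi h.toWNrm
    exact extG_sub hD.sub (extG_mono ((pp.hyp_eq sD).ge.trans h2.hyp)
      (mem_extG_hyp (sD.rc' (fn_of_normal sc.1 (SC.norm sc))) (autGroup_mono (sub_trans h2.sub pp.sub) le_rfl a) b))

theorem Nrm.nrm_ppr {D : FusionSystem T} (h : Nrm E F p) (h1 : Nrm D E p)
    (hi : F.autGroup T ≤ NN(D.autGroup T)) : Nrm D F p := by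
  have := finite_of_le h.le
  obtain ⟨O, hO⟩ := h.sat.opp
  have n := hO.nrm h.toWNrm
  have l := hO.le_of h1.sat h1.toWNrm.ppr
  have w := hO.toWNrm.mid l h1.sub h1.sat
  refine ⟨h1.toWNrm.trans_inv h.toWNrm fun α a => ⟨homOn_ap α, fun _ => ap_mem α, fun P f hf => ?_⟩,
    fun α a => h.ext α (autGroup_mono h1.sub le_rfl a)⟩
  obtain ⟨β, b1, g, g1, g2⟩ := w.frat P f hf.le hf
  obtain ⟨k, k1, k2⟩ := n.inv P g g1 α a
  exact ⟨_, (k1.sub l).comp ((mem_autGroup le_rfl).1 (conj_mem_of_mem_normalizer (hi a) b1)) fun _ => k1.mem,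
    fun x hx => by simp only [k2 x hx, ap_mul, ap_inv_ap, g2 x hx]⟩

theorem InK.conj {K : Subgroup (MulAut T)} {γ : MulAut T} (h : InK K f) (n : γ ∈ NN(K))
    (e : ∀ x ∈ T, g (ap γ x) = ap γ (f x)) : InK K g := by
  obtain ⟨κ, k1, k2⟩ := h
  exact ⟨γ * κ * γ⁻¹, conj_mem_of_mem_normalizer n k1, fun x hx => by
    rw [ap_mul, ap_mul, ← k2 _ (ap_mem _ hx), ← e _ (ap_mem _ hx), ap_ap_inv]⟩

theorem Nrm.exists_top (h : Nrm E F p) [((E.autGroup T).subgroupOf (F.autGroup T)).Normal]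
    (hs : IsPSolvable p (F.autGroup T ⧸ (E.autGroup T).subgroupOf (F.autGroup T))) :
    ∃ X : FusionSystem (T ⊔ CI(S, T)), Nrm X F p ∧ E.IsSubsystemOf X ∧ X.autGroup T = E.autGroup T ∧
      ∀ (U : Subgroup Ω) (L : FusionSystem U), Stab L p → Nrm L F p → L.IsSubsystemOf X := by
  have := aut_finite h.le
  have := finite_of_le h.le
  obtain ⟨R, X, x1, x2, x3, x4, x5⟩ := psolv_chain (autGroup_mono h.sub le_rfl) hs (fun K => ∃ (R : Subgroup Ω)
    (X : FusionSystem R), Nrm X F p ∧ E.IsSubsystemOf X ∧ X.autGroup T ≤ K ∧ CI(S, T) ≤ R ∧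
      ∀ (U : Subgroup Ω) (L : FusionSystem U), Stab L p → Nrm L F p → U ≤ R)
    ⟨S, F, nrm_refl h.satF, h.sub, le_rfl, centralizerIn_le, fun _ _ _ k => k.le⟩ (by
      rintro K K' k1 k2 ⟨m, k3, k4⟩ ⟨R, X, x1, x2, x3, x4, x5⟩
      have := finite_of_le x1.le
      have w := h.toWNrm.mid x2 x1.sub x1.sat
      have lA := autGroup_mono x1.sub w.le
      have res : ∀ α ∈ F.autGroup R, ∃ γ ∈ F.autGroup T, ∀ x ∈ T, ap γ x = ap α x := fun α a =>
        let ⟨γ, c1, c2, _⟩ := exists_res_aut w.le x1.le a fun _ hx =>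
          SC.mem h.sc ((mem_autGroup x1.le).1 a) (w.le hx) hx
        ⟨γ, c1, c2⟩
      rcases k3 with k3 | ⟨k, rfl⟩
      · obtain ⟨D, d1, d2, d3, d4⟩ := w.toInv.exists_ker x1.sat h.sat (K := K ⊓ X.autGroup T)
          (le_inf k1 (autGroup_mono x2 le_rfl)) inf_le_right
          (fun α a => norm_inf (k2 (lA a)) (le_normalizer a)) k3 fun α a => ⟨k4 α (x3 a), pow_mem a m⟩
        refine ⟨R, D, x1.nrm_ppr d1 (le_norm_of_conj fun α a β b => ?_), d2, d3.le.trans inf_le_left, x4, x5⟩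
        rw [d4] at b ⊢
        obtain ⟨γ, c1, c2⟩ := res α a
        refine ⟨conj_mem_of_mem_normalizer (x1.toInv.aut_norm le_rfl a) b.1, mem_KR.2 ((mem_KR.1 b.2).conj
          (norm_inf (k2 c1) (x1.toInv.aut_norm w.le c1)) fun x hx => ?_)⟩
        rw [c2 x hx, c2 _ ((mem_KR.1 b.2).mem hx), ap_mul, ap_mul, ap_inv_ap]
      · have cop : ∀ α ∈ X.autGroup T, (orderOf α).Coprime p → α ∈ K := fun α a b =>
          mem_of_pows (pow_orderOf_eq_one α ▸ one_mem K) (k4 α (x3 a)) (b.pow_right k)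
        have inn : Inn T ≤ K := (inn_le_autGroup E le_rfl).trans k1
        have nT := SC.norm w.sc
        have hy : hyp(X, p) ≤ NK R K := fun x hx => mem_NK.2 ⟨hyp_le_S hx, nT (hyp_le_S hx),
          sup_le (CfsgH2.resIn_le_iff.2 cop) inn (x1.sat.cj_hyp w.sc hx)⟩
        obtain ⟨D, d1, d2⟩ := Sat.exists_ppi NK_le x1.sat hy
        have := finite_of_le d2.le
        have lT : T ≤ NK R K := fun x hx => mem_NK.2 ⟨w.le hx, le_normalizer hx, inn (cj_mem_inn hx)⟩
        refine ⟨_, D, x1.res' d1 d2 fun α a x hx => ?_, d2.sub_of h.sat x2 lT, Syl.le_of_coprime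
          (d1.syl (fn_of_normal lT (NK_le.trans nT))) (fun α a => ?_)
          fun α a b => cop α (autGroup_mono d2.sub lT a) b, fun x hx => mem_NK.2 ⟨x4 hx,
            centralizer_le_normalizer _ hx.2, by
              rw [(cj_eq_one_iff (centralizer_le_normalizer _ hx.2)).2 hx.2]; exact one_mem _⟩,
          fun U L s n => s.hyp.trans ((hyp_mono (s.le_of n x1 (x5 U L s n))).trans hy)⟩
        · obtain ⟨γ, c1, c2⟩ := res α a
          obtain ⟨y1, y2⟩ := mem_NK'.1 hx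
          refine mem_NK'.2 ⟨ap_mem α y1, y2.conj (k2 c1) fun y hy => ?_⟩
          rw [c2 y hy, c2 _ (y2.mem hy), (homOn_ap α).conj y1 (w.le hy)]
        · obtain ⟨a, a1, -, rfl⟩ := mem_autInducedBy'.1 a
          exact (mem_NK.1 a1).2.2)
  have l := subsystem_le x2
  obtain rfl : R = T ⊔ CI(S, T) := le_antisymm (fun x hx => by
    obtain ⟨t, t1, -, t2⟩ := h.toWNrm.AS_inf le_rfl (fn_of_normal h.le (SC.norm h.sc))
      ⟨x1.le hx, SC.norm h.sc (x1.le hx)⟩ (x3 (cj_mem_autGroup X l hx))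
    simpa using mmul (mem_sup_left t1) (mem_sup_right t2 : _ ∈ T ⊔ CI(S, T))) (sup_le l x4)
  exact ⟨X, x1, x2, x3.antisymm (autGroup_mono x2 le_rfl), fun U L s n => s.le_of n x1 (x5 U L s n)⟩

theorem Nrm.foc_top (h : Nrm E F p) (hC : CE F E p ≤ T) {X : FusionSystem (T ⊔ CI(S, T))} (h1 : Sat X p)
    (h2 : X.IsSubsystemOf F) (h3 : X.autGroup T ≤ E.autGroup T) : foc(X) ≤ T := by
  have := finite_of_le (subsystem_le h2)
  have := finite_of_le h.le
  have sc := SC.sub h.sc h2 le_sup_left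
  obtain ⟨_, Y, a, b⟩ := h1.exists_quo' sc
  refine (le_pre foc_le_S (a.im_foc.le.trans (foc_le fun P' g hg y hy => ?_))).trans b.le
  obtain ⟨ψ, s1, s2⟩ := a.lift P' g hg
  obtain ⟨x, hx, rfl⟩ := a.ex' hg.le hy
  have lT := b.ge.trans (ker_le_pre (P' := P'))
  rw [s2 x hx, mem_bot, inv_mul_eq_one, ← inv_mul_mem_ker a.hom (pre_le hx) (s1.mem hx), b]
  obtain ⟨α, a1, a2⟩ := ((s1.restrict lT).iso_self fun x hx => SC.mem sc s1 (lT hx) hx).exists_aut
  obtain ⟨k, k1, k2, k3⟩ := h.ext α (h3 a1)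
  have ki := k1.iso_self (maps_sup_cent k1 ((im_congr k2).trans (im_ap α)))
  obtain ⟨k', j1, j2, j3⟩ := ki.symm
  have m := (s1.sub h2).comp j1.mor fun _ => s1.mem
  obtain ⟨t, ht, c, hc, rfl⟩ := (mem_sup_cent centralizerIn_le_centralizer).1 (pre_le hx)
  have c1 := mmul (minv (lT ht)) hx
  rw [inv_mul_cancel_left] at c1
  have c2 := hC (h.mem_CE m lT (fun y hy => by rw [← a2 y hy, ← k2 y hy, j2 y (mem_sup_left hy)]) c1 hc.2)
  have c3 : ψ c = k c * k (c⁻¹ * k' (ψ c)) := by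
    rw [← k1.mul (mem_sup_right hc) (mem_sup_left c2), mul_inv_cancel_left, j3 _ (s1.mem c1)]
  rw [s1.mul (lT ht) c1, c3]
  have := mmul (mmul (SC.conj h.sc (minv hc.1) (mmul (minv ht) (SC.mem sc s1 (lT ht) ht))) (k3 c hc))
    (SC.mem h.sc k1 (mem_sup_left c2) c2)
  simpa [mul_assoc] using this

theorem Nrm.lim_eq (h : Nrm E F p) {M : FusionSystem V} (h1 : L.IsResidualLimitOf F p) (h2 : M.IsResidualLimitOf E p)
    (l : L.IsSubsystemOf E) (P : Subgroup Ω) : L.Hom P = M.Hom P := by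
  have := finite_of_le h.le
  obtain ⟨a1, a2, a3⟩ := lim_spec h1 (nrm_refl h.satF)
  obtain ⟨b1, b2, b3⟩ := lim_spec h2 h
  exact hom_eq_of_sub (b3 _ _ a2 a1 l) (a3 _ _ b2 b1 b1.sub) P

theorem term_spec {p : ℕ} (h : F.HasTerminatingResidualSeries p) : ∀ [Fact p.Prime], Sat F p →
    (∀ (V : Subgroup Ω) (C : FusionSystem V), SN C p F → QS C p → False) ∧
      ∀ P ≤ S, IsPSolvable p (F.autGroup P) := by
  revert ‹Finite S›
  induction h with
  | trivial F p h =>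
    intro _ _ hF
    subst h
    refine ⟨fun V C s q => q.ne (s.le.trans bot_le), fun P hP => ?_⟩
    have := aut_finite hP
    exact CfsgH1.isPSolvable_of_isPGroup ((triv_bot F).pg hF.pg hP)
  | @step S F E p D h1 h2 _ ih =>
    intro _ _ hF
    have o := hF.opp_of_res h1
    have := finite_of_le (hyp_le_S (F := E) (p := p))
    have sD : Sat D p := ⟨hF.pg.to_le hyp_le_S, h2.1⟩
    have pp := ppi_iff.1 h2.2
    have n := pp.nrm o.sat sD hyp_norm
    obtain ⟨a, b⟩ := ih sD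
    refine ⟨fun V C s q => ?_, fun P hP => ?_⟩
    · have s1 := s.le_of q o.toNrm s.le
      have := finite_of_le s.le
      exact a V C (s1.le_of q n (q.hyp.trans (hyp_mono s1.sub))) q
    have := aut_finite hP
    have := finite_of_le hP
    refine psolv_of (autGroup_mono o.sub hP) (o.toInv.aut_norm hP) ?_ (.inl (o.toWNrm.ppr.aut P hP))
    have l : P ⊓ hyp(E, p) ≤ P := inf_le_left
    have := finite_of_le l
    have := aut_finite (l.trans hP)
    have st : E.autGroup P ≤ Stb P (P ⊓ hyp(E, p)) := fun α hα => mem_Stb_of_finite l fun x hx =>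
      ⟨ap_mem α hx.1, SC.mem n.sc ((mem_autGroup hP).1 hα) hx.1 hx.2⟩
    let φ := (res l).comp (inclusion st)
    have e : ∀ α, ∀ x ∈ P ⊓ hyp(E, p), ap (φ α) x = ap (α : MulAut P) x := fun α x hx => ap_res l _ hx
    refine CfsgH1.IsPSolvable.of_normal_of_quotient φ.ker (CfsgH1.isPSolvable_of_isPGroup
      (isPGroup_of_coprime fun α a c => Subtype.ext (ap_ext fun x hx => ?_)))
      (CfsgH1.IsPSolvable.of_surjective (CfsgH1.IsPSolvable.of_le (psolv_of (autGroup_mono pp.sub inf_le_right)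
        (n.toInv.aut_norm inf_le_right) (b _ inf_le_right) (.inr (pp.aut _ inf_le_right))) ?_)
        (QuotientGroup.quotientKerEquivRange φ).symm.toMonoidHom (MulEquiv.surjective _))
    · have c' : (orderOf (α : MulAut P)).Coprime p := by rwa [orderOf_coe]
      have m : x⁻¹ * ap (α : MulAut P) x ∈ P ⊓ hyp(E, p) := ⟨mmul (minv hx) (ap_mem _ hx), mem_hyp hP α.2 c' hx⟩
      rw [OneMemClass.coe_one, ap_one]
      exact fix_of_coprime (hF.pg.to_le hP) c' hx (by rw [← e α _ m, MonoidHom.mem_ker.1 a, ap_one])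
    · rintro _ ⟨α, rfl⟩
      exact ((((mem_autGroup hP).1 α.2).restrict l).congr fun x hx => (e α x hx).symm).mem_autGroup

theorem term_of (hF : Sat F p) (hc : F.IsConstrained p) (hs : IsPSolvable p (F.autGroup F.core)) :
    F.HasTerminatingResidualSeries p := by
  by_contra k
  obtain ⟨U, X, ⟨a, b⟩, c⟩ := exists_min_sys F (fun _ X => Nrm X F p ∧ ¬ X.HasTerminatingResidualSeries p)
    (fun _ _ h => h.1.sub) ⟨S, F, nrm_refl hF, k⟩
  have := finite_of_le a.le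
  obtain ⟨O, hO⟩ := a.sat.opp
  obtain ⟨D, d1, d2⟩ := Sat.exists_ppi hyp_le_S hO.sat le_rfl
  have l := c _ D ⟨(hO.nrm a.toWNrm).res d1 d2, fun t => b (.step X O p D hO.res ⟨d1.sat, ppi_iff.2 d2⟩ t)⟩
    (sub_trans d2.sub hO.sub)
  obtain rfl : O = X := fus_ext (hom_eq_of_sub hO.sub (sub_trans l d2.sub))
  have s : Stab O p := ⟨a.sat, subsystem_le l, hO⟩
  have n := Nm.nrm_inner (nm_core F) hF
  have := aut_finite (core_le (F := F))
  have := (normal_subgroupOf_iff_le_normalizer (autGroup_mono n.sub le_rfl)).2 (n.toInv.aut_norm le_rfl)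
  obtain ⟨Y, -, -, -, y⟩ := n.exists_top (CfsgH1.IsPSolvable.quotient hs _)
  have l2 := s.le_of a n ((subsystem_le (y _ _ s a)).trans (sup_le le_rfl (centric_le (core_centric hc))))
  exact b (.trivial _ _ (le_bot_iff.1 (s.hyp.trans ((hyp_mono l2).trans (triv_inner.hyp n.sat.pg).le))))

end CfsgFS
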