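import Cfsg.Agent.FS.Rig

/-! A local-to-global construction of normal subsystems. -/

set_option autoImplicit false
set_option linter.unusedSectionVars false

namespace CfsgFS

open Subgroup Cfsg Cfsg.FusionSystem CfsgH9
open CfsgH2 (resIn)
open scoped commutatorElement

variable {p : ℕ} {Ω : Type*} [Group Ω] {S T Z : Subgroup Ω} {F D : FusionSystem S} {E : FusionSystem T}
  {P Q R U W M : Subgroup Ω} {f g ψ : Ω → Ω}

/-- full subsystems -/
def Full (E : FusionSystem T) (F : FusionSystem S) : Prop := ∀ P f, Mor E P f ↔ Mor F P f ∧ P ≤ T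

theorem exists_full (hT : F.StronglyClosed T) : ∃ E : FusionSystem T, Full E F := by
  obtain ⟨E, hE⟩ := exists_sub F T hT.1 (fun _ _ => True) (by intros; trivial) (by intros; trivial)
    (by intros; trivial) (by intros; trivial)
  exact ⟨E, fun P f => (hE P f).trans ⟨fun h => ⟨h.1, h.2.1⟩,
    fun h => ⟨h.1, h.2, fun x hx => SC.mem hT h.1 hx (h.2 hx), trivial⟩⟩⟩

theorem Full.sub (h : Full E F) : E.IsSubsystemOf F := subsystem_iff.2 fun P f k => ((h P f).1 k).1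

theorem Full.inv (h : Full E F) (hT : F.StronglyClosed T) : Inv E F :=
  ⟨h.sub, hT, fun P f hf α hα => by
    obtain ⟨g, g1, g2⟩ := mor_conjugate (hf.sub h.sub) ((mem_autGroup hT.1).1 hα) hf.le fun x => hf.mem
    exact ⟨g, (h _ _).2 ⟨g1, im_ap_le hf.le α⟩, g2⟩,
  fun P f hP hf => ⟨1, one_mem _, f, (h _ _).2 ⟨hf, hP⟩, fun x _ => (ap_one _).symm⟩⟩

theorem mem_XZ [Finite U] (hZ : Z ≤ U) {t : Ω} :
    t ∈ NK T (modA U Z) ↔ t ∈ T ∧ ∀ u ∈ U, u⁻¹ * (t * u * t⁻¹) ∈ Z :=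
  ⟨fun h => ⟨(mem_NK.1 h).1, fun u hu => by
    have := mem_modA.1 (mem_NK.1 h).2.2 u hu
    rwa [ap_cj (mem_NK.1 h).2.1 hu] at this⟩, fun h => by
    have n : t ∈ NN(U) := mem_normalizer_of_finite fun u hu => by simpa using mmul hu (hZ (h.2 u hu))
    exact mem_NK.2 ⟨h.1, n, mem_modA.2 fun u hu => by rw [ap_cj n hu]; exact h.2 u hu⟩⟩

theorem Cn.le_im (hZ : F.IsCentral Z) (hf : Mor F U f) (l : Z ≤ U) : Z ≤ im U f :=
  fun z hz => Cn.fix hZ hf (l hz) hz ▸ mem_im_of_mem f (l hz)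

variable [Finite S]

theorem XZ_mor (hT : F.StronglyClosed T) (hZ : F.IsCentral Z) (hf : Mor F M f) (hU : U ≤ M) (l : Z ≤ U) {t : Ω}
    (ht : t ∈ M) : f t ∈ NK T (modA (im U f) Z) ↔ t ∈ NK T (modA U Z) := by
  have m := hf.restrict hU
  have := finite_of_le m.le
  have := finite_of_le m.im_le_S
  have key : ∀ u ∈ U, (f u)⁻¹ * (f t * f u * (f t)⁻¹) ∈ Z ↔ u⁻¹ * (t * u * t⁻¹) ∈ Z := fun u hu => by
    rw [← hf.map_conj ht (hU hu), ← hf.inv (hU hu), ← hf.mul (minv (hU hu)) (mconj ht (hU hu))]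
    exact SC.mem_iff (Nm.sc (Cn.nm hZ)) hf (mmul (minv (hU hu)) (mconj ht (hU hu)))
  rw [mem_XZ (Cn.le_im hZ m l), mem_XZ l, SC.mem_iff hT hf ht]
  refine and_congr_right fun _ => ⟨fun h u hu => (key u hu).1 (h _ (mem_im_of_mem f hu)), fun h y hy => ?_⟩
  obtain ⟨u, hu, rfl⟩ := m.mem_im.1 hy
  exact (key u hu).2 (h u hu)

/-- centric modulo a central subgroup -/
def TZ (F : FusionSystem S) (T Z U : Subgroup Ω) : Prop :=
  Z ≤ U ∧ U ≤ T ∧ ∀ Q, F.IsConj U Q → NK T (modA Q Z) ≤ Q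

theorem TZ.tc (h : TZ F T Z U) : TC F T U := ⟨h.2.1, fun Q hQ => CI_le_NK.trans (h.2.2 Q hQ)⟩

theorem TZ.conj (h : TZ F T Z U) (hT : F.StronglyClosed T) (hZ : F.IsCentral Z) (k : F.IsConj U Q) : TZ F T Z Q :=
  let ⟨_, i⟩ := isConj_iff.1 k
  ⟨i.im_eq ▸ Cn.le_im hZ i.mor h.1, (h.tc.conj hT k).1, fun R hR => h.2.2 R (isConj_trans k hR)⟩

theorem TZ.mono (h : TZ F T Z U) (hZ : F.IsCentral Z) (l : U ≤ Q) (hQ : Q ≤ T) : TZ F T Z Q :=
  ⟨h.1.trans l, hQ, fun R hR t ht => by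
    obtain ⟨f, i⟩ := isConj_iff.1 hR
    have m := i.mor.restrict l
    have := finite_of_le i.le'
    have := finite_of_le m.im_le_S
    have l' : im U f ≤ R := i.im_eq ▸ im_mono l
    have z := Cn.le_im hZ m h.1
    obtain ⟨a, b⟩ := (mem_XZ (z.trans l')).1 ht
    exact l' (h.2.2 _ m.iso.isConj ((mem_XZ z).2 ⟨a, fun u hu => b u (l' hu)⟩))⟩

theorem tz_top (hT : F.StronglyClosed T) (l : Z ≤ T) : TZ F T Z T := ⟨l, le_rfl, fun Q hQ => by
  obtain ⟨f, i⟩ := isConj_iff.1 hQ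
  have := finite_of_le hT.1
  rw [← i.im_eq, SC.im_eq hT i.mor le_rfl]; exact NK_le⟩

theorem tz_bot (h : TC F T U) : TZ F T ⊥ U := ⟨bot_le, h.1, fun Q hQ t ht => by
  have := finite_of_le (isConj_le hQ).2
  obtain ⟨a, b⟩ := (mem_XZ bot_le).1 ht
  exact h.2 Q hQ ⟨a, fun u hu => (mul_inv_eq_iff_eq_mul.1 (inv_mul_eq_one.1 (mem_bot.1 (b u hu))).symm).symm⟩⟩

variable [Fact p.Prime]

theorem Full.nmap (h : Full E F) (hF : Sat F p) (hT : F.StronglyClosed T) (fn : E.IsFullyNormalized U) :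
    ∃ φ, Mor F NI(S, U) φ ∧ F.IsFullyNormalized (im U φ) ∧ NI(T, im U φ) = im NI(T, U) φ := by
  obtain ⟨φ, f1, f2⟩ := hF.exists_fn_nmap (fn.1.trans hT.1)
  have := finite_of_le hT.1
  exact ⟨φ, f1, f2, (im_NI_eq fn ((h _ _).2 ⟨f1.restrict (inf_le_inf_right _ hT.1), normalizerIn_le⟩)
    (le_normalizerIn fn.1) le_rfl).symm⟩

theorem Full.tz (h : Full E F) (hF : Sat F p) (hT : F.StronglyClosed T) (hZ : F.IsCentral Z)
    (fn : E.IsFullyNormalized U) (l : Z ≤ U) (k : NK T (modA U Z) ≤ U) : TZ F T Z U := ⟨l, fn.1, fun Q hQ t ht => by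
  obtain ⟨φ, f1, f2, f3⟩ := h.nmap hF hT fn
  have lU := le_normalizerIn (fn.1.trans hT.1)
  obtain ⟨ψ, g1, g2⟩ := hF.nmap f2 (isConj_trans (isConj_symm hQ) (Mor.iso' f1 lU).isConj)
  have lQ := le_normalizerIn (isConj_le hQ).2
  obtain ⟨f, i⟩ := isConj_iff.1 hQ
  have t1 : t ∈ NI(S, Q) := ⟨hT.1 (NK_le ht), (NK_le_NI ht).2⟩
  have t2 := (XZ_mor hT hZ g1 lQ (i.im_eq ▸ Cn.le_im hZ i.mor l) t1).2 ht
  rw [g2] at t2
  have l0 : NI(T, U) ≤ NI(S, U) := inf_le_inf_right _ hT.1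
  obtain ⟨c, c1, c2⟩ := (f1.restrict l0).mem_im.1 (f3 ▸ NK_le_NI t2)
  have c3 := k ((XZ_mor hT hZ f1 lU l (l0 c1)).1 (c2 ▸ t2))
  exact ((Iso.hiso g1.iso).mem_iff lQ t1).1 (by rw [g2, ← c2]; exact mem_im_of_mem φ c3)⟩

theorem star_XZ (hS : IsPGroup p S) (hT : F.StronglyClosed T) (hZ : F.IsCentral Z) (hQ : Q ≤ S) (l : Z ≤ Q ⊓ T)
    (k : ¬ NK T (modA (Q ⊓ T) Z) ≤ Q ⊓ T) : ∃ x ∈ NI(S, Q), x ∉ Q ∧ cj Q x ∈ opIn p (F.autGroup Q) := by
  have := finite_of_le hQ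
  have := finite_of_le (inf_le_left.trans hQ : Q ⊓ T ≤ S)
  have lX : NK T (modA (Q ⊓ T) Z) ≤ S := NK_le.trans hT.1
  have := finite_of_le lX
  have nT := SC.norm hT
  obtain ⟨x, x1, x2, x3⟩ := exists_mem_normalizer_sup hS hQ lX (fun y hy => mem_normalizer_of_finite fun t ht => by
    have := (XZ_mor hT hZ (mor_conj F le_rfl (hQ hy)) (inf_le_left.trans hQ) l (lX ht)).2 ht
    rwa [im_conj, map_conj_eq_of_mem_normalizer (norm_inf (le_normalizer hy) (nT (hQ hy)))] at this)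
    fun h => k (le_inf h NK_le)
  obtain ⟨a, b⟩ := (mem_XZ l).1 x1
  refine ⟨x, ⟨hT.1 a, x3⟩, x2, mem_opIn_of_chain (hS.to_le hQ) (fun i => if i = 0 then Z else if i = 1 then T else ⊤) 2
    (fun i β hβ y hy => ?_) (fun β hβ _ y hy k => Cn.fix hZ ((mem_autGroup hQ).1 hβ) hy k) le_top
    (cj_mem_autGroup F hQ (hT.1 a)) fun i hi y hy k => ?_⟩
  · have m := (mem_autGroup hQ).1 hβ
    split_ifs
    exacts [SC.mem (Nm.sc (Cn.nm hZ)) m hy, SC.mem hT m hy, fun _ => trivial]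
  · rw [ap_cj x3 hy]
    interval_cases i
    · exact b y ⟨hy, k⟩
    · exact inv_mul_conj_mem (hQ.trans nT) a hy

theorem Cn.le_of_cent (hZ : F.IsCentral Z) (h : CI(S, Q) ≤ Q) (hQ : Q ≤ S) : Z ≤ Q :=
  fun z hz => h ⟨hZ.1 hz, fun y hy => (Cn.cent hZ (hQ hy) z hz).symm⟩

theorem tz_of_cr (hF : Sat F p) (hT : F.StronglyClosed T) (hZ : F.IsCentral Z) (l : Z ≤ T) (hP : F.IsCentric P)
    (hr : F.IsRadical p P) : TZ F T Z (P ⊓ T) := by
  obtain ⟨E, hE⟩ := exists_full hT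
  obtain ⟨φ, f1, f2⟩ := hF.exists_fn_nmap (inf_le_left.trans hP.1 : P ⊓ T ≤ S)
  have l1 : P ≤ NI(S, P ⊓ T) := fun x hx => ⟨hP.1 hx, norm_inf (le_normalizer hx) (SC.norm hT (hP.1 hx))⟩
  have i := Mor.iso' f1 l1
  have e := SC.im_inf hT i.mor
  have c := hP.2 _ i.isConj
  have z : Z ≤ im P φ ⊓ T := le_inf (Cn.le_of_cent hZ c i.le') l
  rw [e] at f2
  refine (hE.tz hF hT hZ (hF.fn_sub hT hE.sub inf_le_right f2) z ?_).conj hT hZ
    (isConj_symm (show Iso F _ _ φ from ⟨i.mor.restrict inf_le_left, e⟩).isConj)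
  by_contra k
  obtain ⟨x, x1, x2, x3⟩ := star_XZ hF.pg hT hZ i.le' z k
  exact x2 ((cj_mem_inn_iff x1 i.le' c).1 ((radical_iff.1 (radical_conj hr i.isConj)).2 ▸ x3))

variable {A : ∀ P : Subgroup Ω, MulAut P → Prop}

/-- hypotheses of the construction -/
structure GH (F : FusionSystem S) (T Z : Subgroup Ω) (p : ℕ) (A : ∀ P : Subgroup Ω, MulAut P → Prop) : Prop where
  sat : Sat F p
  sc : F.StronglyClosed T
  cn : F.IsCentral Z
  le : Z ≤ T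
  pa : ∀ (P : Subgroup Ω) (α : MulAut P), A P α → PA F T p P α
  tr : ∀ (P Q : Subgroup Ω) (f : Ω → Ω) (α : MulAut P) (β : MulAut Q), Iso F P Q f →
    (∀ x ∈ P, ap β (f x) = f (ap α x)) → A P α → A Q β
  res : ∀ (P R : Subgroup Ω) (α : MulAut P) (β : MulAut R), A P α → R ≤ P → P ⊓ T ≤ R →
    (∀ x ∈ R, ap β x = ap α x) → A R β
  loc : ∀ U, TZ F T Z U → F.IsFullyNormalized U → ∃ M : FusionSystem NI(S, U), Loc p A U M
  fr : ∀ P, Fr F p P → ∃ K : Subgroup (MulAut P), F.autGroup P ≤ NN(K) ∧ (∀ t ∈ T, t ∈ NN(P) → cj P t ∈ K) ∧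
    ∀ β ∈ F.autGroup P ⊓ K, (orderOf β).Coprime p → A P β

/-- `D` is generated by the admissible automorphisms -/
structure GA (F : FusionSystem S) (T Z : Subgroup Ω) (A : ∀ P : Subgroup Ω, MulAut P → Prop) (D : FusionSystem S) :
    Prop where
  sub : D.IsSubsystemOf F
  gen : ∀ (P : Subgroup Ω) (α : MulAut P), TZ F T Z (P ⊓ T) → A P α → Mor D P (ap α)
  min : ∀ (U : Subgroup Ω) (D' : FusionSystem U), S ≤ U →
    (∀ (P : Subgroup Ω) (α : MulAut P), TZ F T Z (P ⊓ T) → A P α → Mor D' P (ap α)) → D.IsSubsystemOf D'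

theorem GH.exists_ga (h : GH F T Z p A) : ∃ D, GA F T Z A D := by
  obtain ⟨D, d1, d2, d3⟩ := exists_gen F le_rfl (fun P f => ∃ α, TZ F T Z (P ⊓ T) ∧ A P α ∧ f = ap α)
    (by rintro P _ ⟨α, -, a, rfl⟩; exact ⟨(h.pa _ _ a).mor, (h.pa _ _ a).mor.le, fun x => (h.pa _ _ a).mor.mem⟩)
  exact ⟨D, d1, fun P α a b => d2 P _ ⟨α, a, b, rfl⟩, fun U D' l h => d3 U D' l (by
    rintro P _ ⟨α, a, b, rfl⟩; exact h P α a b)⟩

theorem GA.xm (h : GA F T Z A D) (H : GH F T Z p A) (hE : Full E F) {α : MulAut P} (c : TZ F T Z (P ⊓ T))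
    (a : A P α) : XM F E D P (ap α) := by
  have a' := H.pa _ _ a
  refine ⟨a'.mor, a'.md, (hE _ _).2 ⟨a'.mor.restrict inf_le_left, inf_le_right⟩, fun P₁ l₁ W ψ k m b e => ?_⟩
  have l0 : P ⊓ T ≤ P ⊓ W := inf_le_inf_left _ (le_sup_right.trans b)
  obtain ⟨β, -, b2⟩ := a'.res (R := P ⊓ W) inf_le_left (a'.maps inf_le_left l0)
  have b1 := H.res _ _ α β a inf_le_left l0 b2
  have i := Mor.iso' m (inf_le_right : P ⊓ W ≤ W)
  obtain ⟨τ, hτ⟩ := exists_tr i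
  have l : P₁ ≤ P ⊓ W := le_inf l₁ (le_sup_left.trans b)
  have e1 : P ⊓ W ⊓ T = P ⊓ T := by rw [inf_assoc, inf_of_le_right (le_sup_right.trans b)]
  refine ((h.gen _ _ (by
    rw [← SC.im_inf H.sc i.mor, e1]
    exact c.conj H.sc H.cn (m.restrict (inf_le_right.trans (le_sup_right.trans b))).iso.isConj)
    (H.tr _ _ _ _ _ i (hτ β) b1)).restrict (im_mono l)).congr fun y hy => ?_
  obtain ⟨x, hx, rfl⟩ := (i.mor.restrict l).mem_im.1 hy
  rw [hτ β x (l hx), e x hx, b2 x (l hx)]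

/-- factorisation through `XM` maps -/
def FRS (F : FusionSystem S) (E : FusionSystem T) (D : FusionSystem S) : Prop :=
  ∀ P f, Mor F P f → ∃ d ψ, XM F E D P d ∧ Mor F (P ⊔ T) ψ ∧ ∀ x ∈ P, f x = ψ (d x)

theorem exists_frs_sys (hE : Inv E F) : ∃ Y : FusionSystem S, ∀ P f, Mor Y P f ↔ Mor F P f ∧
    ∃ d ψ, XM F E D P d ∧ Mor F (P ⊔ T) ψ ∧ ∀ x ∈ P, f x = ψ (d x) := by
  have := finite_of_le hE.le
  refine (exists_sub F S le_rfl (fun P f => ∃ d ψ, XM F E D P d ∧ Mor F (P ⊔ T) ψ ∧ ∀ x ∈ P, f x = ψ (d x))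
    ?_ ?_ ?_ ?_).elim fun Y hY => ?_
  rotate_right
  · exact ⟨Y, fun P f => (hY P f).trans ⟨fun h => ⟨h.1, h.2.2.2⟩, fun h => ⟨h.1, h.1.le, fun x => h.1.mem, h.2⟩⟩⟩
  · rintro P f g - ⟨d, ψ, a, b, c⟩ e
    exact ⟨d, ψ, a, b, fun x hx => e x hx ▸ c x hx⟩
  · exact fun P s hP hs => ⟨_, _, xm_id hE.sub hE.sc hP, mor_conj F (sup_le hP hE.le) hs, fun _ _ => rfl⟩
  · rintro P Q f g hf - - - - ⟨d, ψ, a, b, c⟩ ⟨d', ψ', a', b', c'⟩ l
    obtain ⟨χ, j1, j2, j3⟩ := b.iso.symm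
    have m : ∀ x ∈ P, d x ∈ P ⊔ T := fun x => mem_of_md a.md le_rfl
    have l1 : im P f ⊔ T ≤ im (P ⊔ T) ψ := sup_le (im_le.2 fun x hx => c x hx ▸ mem_im_of_mem _ (m x hx))
      ((SC.im_eq hE.sc b le_sup_right).ge.trans (im_mono le_sup_right))
    have a2 := a'.restrict (im_le.2 l)
    refine ⟨_, _, a.comp (a2.tr hE j1.mor l1 (g := fun y => χ (d' (ψ y))) fun y hy => by
      simp only [j3 y (l1 (mem_sup_left hy))]) fun x hx => ?_, b.comp b' (maps_of_sup b.homOn (fun x hx => ?_)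
        fun x hx => mem_sup_right (SC.mem hE.sc b (mem_sup_right hx) hx)), fun x hx => ?_⟩
    · rw [← j2 _ (m x hx), ← c x hx]; exact mem_im_of_mem _ (mem_im_of_mem _ hx)
    · have := mmul (mem_sup_left (l x hx)) (minv (mem_sup_right (SC.mem hE.sc b (mem_sup_right (a.md x hx))
        (a.md x hx))) : _ ∈ Q ⊔ T)
      rw [c x hx, b.mul (minv (mem_sup_left hx)) (m x hx), b.inv (mem_sup_left hx)] at this
      simpa using this
    · simp only [← c x hx]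
      rw [j3 _ (mem_of_md a2.md l1 (mem_im_of_mem f hx)), c' _ (l x hx)]
  · rintro P Q f g hf hg - - e e' ⟨d, ψ, a, b, c⟩
    obtain ⟨χ, j1, j2, j3⟩ := b.iso.symm
    obtain ⟨d', d1, d2⟩ := a.mor.symm
    have m : ∀ x ∈ P, d x ∈ P ⊔ T := fun x => mem_of_md a.md le_rfl
    have := (a.symm hE.sc d2).tr hE b (sup_le (im_le.2 m) le_sup_right) (g := fun y => ψ (d' (χ y)))
      fun y hy => by simp only [j2 y (im_le.2 m hy)]
    rw [a.mor.im_im, ← im_congr c, hf.im_eq] at this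
    refine ⟨_, _, this, j1.mor.restrict (sup_le (fun y hy => ?_)
      ((SC.im_eq hE.sc b le_sup_right).ge.trans (im_mono le_sup_right))), fun y hy => ?_⟩
    all_goals obtain ⟨x, hx, rfl⟩ := hf.surj hy
    · exact c x hx ▸ mem_im_of_mem _ (m x hx)
    · rw [e x hx, c x hx]; simp only [j2 _ (m x hx), d2 x hx, j2 x (mem_sup_left hx)]

theorem GA.frs (h : GA F T Z A D) (H : GH F T Z p A) (hE : Full E F) : FRS F E D := fun P f hf => by
  have hF := H.sat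
  have iE := hE.inv H.sc
  have nT := SC.norm H.sc
  obtain ⟨Y, hY⟩ := exists_frs_sys (D := D) iE
  refine ((hY P f).1 (hf.sub (hF.sub_ih le_rfl fun P hP ih α hα => ?_))).2
  have m := (mem_autGroup hP.le).1 hα
  by_cases hT : T ≤ P
  · exact (hY _ _).2 ⟨m, _, _, xm_id iE.sub iE.sc m.le, m.restrict (sup_le le_rfl hT), fun _ _ => rfl⟩
  have := aut_finite hP.le
  have c := tz_of_cr hF H.sc H.cn H.le hP.centric (hP.rad hF)
  obtain ⟨K, nK, tK, aK⟩ := H.fr P hP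
  have s := (hF.syl hP.fn).inf_normal nK
  obtain ⟨κ, k1, g, g1, g2⟩ := frattini_ext (hF.rc' hP.fn) s nK hα
  obtain ⟨t, t1, t2, t3⟩ := exists_mem_normalizer_sup hF.pg hP.le iE.le (hP.le.trans nT) hT
  have lt : P < P ⊔ NK S K := lt_of_le_of_ne le_sup_left fun e => t2
    (e ▸ mem_sup_right (mem_NK.2 ⟨iE.le t1, t3, tK t t1 t3⟩))
  have k2 : κ ∈ Y.autGroup P := Syl.le_of_coprime s (inf_le_left.trans (autInducedBy_le Y hP.le)) (fun β b1 b2 =>
    Mor.mem_autGroup ((hY _ _).2 ⟨(mem_autGroup hP.le).1 b1.1, _, _, h.xm H hE c (aK β b1 b2),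
      mor_id F (sup_le hP.le iE.le), fun _ _ => rfl⟩)) k1
  refine (((ih _ (card_lt_of_lt' lt g1.le) g g1).restrict le_sup_left).comp ((mem_autGroup hP.le).1 k2)
    fun x hx => ?_).congr fun x hx => (g2 x hx).symm
  rw [← ap_inv_ap κ (g x), ← g2 x hx]; exact ap_mem _ (ap_mem _ hx)

theorem FRS.xtr (h : FRS F E D) (hE : Inv E F) (a : XM F E D P f) (m : Mor F Q ψ) (l : P ≤ Q)
    (l' : ∀ x ∈ P, f x ∈ Q) (e : ∀ x ∈ P, g (ψ x) = ψ (f x)) : XM F E D (im P ψ) g := by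
  obtain ⟨d, χ, a1, a2, a3⟩ := h _ _ m
  obtain ⟨d', d1, d2⟩ := (a1.mor.restrict l).symm
  have a4 := (((a1.restrict l).symm hE.sc d2).comp a fun y hy => by
    obtain ⟨x, hx, rfl⟩ := (a1.mor.restrict l).mem_im.1 hy
    rwa [d2 x hx]).comp a1 fun y hy => by
    obtain ⟨x, hx, rfl⟩ := (a1.mor.restrict l).mem_im.1 hy
    rw [d2 x hx]; exact l' x hx
  have := a4.tr hE a2 (sup_le (im_le.2 fun x hx => mem_of_md a1.md le_rfl (l hx)) le_sup_right) (g := g) fun y hy => by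
    obtain ⟨x, hx, rfl⟩ := (a1.mor.restrict l).mem_im.1 hy
    rw [d2 x hx, ← a3 x (l hx), ← a3 _ (l' x hx), e x hx]
  rwa [(a1.mor.restrict l).im_im, ← im_congr fun x hx => a3 x (l hx)] at this

theorem exists_dec_sys (hE : Inv E F) : ∃ Y : FusionSystem S, ∀ P f, Mor Y P f ↔ Mor F P f ∧
    ∃ s ∈ S, XM F E D P fun x => s⁻¹ * f x * s := by
  refine (exists_sub F S le_rfl (fun P f => ∃ s ∈ S, XM F E D P fun x => s⁻¹ * f x * s)
    ?_ ?_ ?_ ?_).elim fun Y hY => ?_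
  rotate_right
  · exact ⟨Y, fun P f => (hY P f).trans ⟨fun h => ⟨h.1, h.2.2.2⟩, fun h => ⟨h.1, h.1.le, fun x => h.1.mem, h.2⟩⟩⟩
  · rintro P f g - ⟨s, a, b⟩ e
    exact ⟨s, a, b.congr fun x hx => by rw [e x hx]⟩
  · exact fun P s hP hs => ⟨s, hs, (xm_id hE.sub hE.sc hP).congr fun x _ => by group⟩
  · rintro P Q f g - hg - - - ⟨s, a, b⟩ ⟨t, a', b'⟩ l
    refine ⟨t * s, mmul a' a, (b.comp (b'.tr hE (mor_conj F le_rfl (minv a)) (sup_le hg.le hE.le)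
      (g := fun y => s⁻¹ * (t⁻¹ * g (s * y * s⁻¹) * t) * s) fun x _ => by group) fun x hx => by
        simpa using mem_im_of_mem (fun x => s⁻¹ * x * s⁻¹⁻¹) (l x hx)).congr fun x _ => by group⟩
  · rintro P Q f g hf hg - - e e' ⟨s, a, b⟩
    have := (b.symm hE.sc (g := fun y => g (s * y * s⁻¹)) fun x hx => by simp [mul_assoc, e x hx]).tr hE
      (mor_conj F le_rfl a) (sup_le b.mor.im_le_S hE.le) (g := fun y => s * g y * s⁻¹) fun _ _ => rfl
    rw [b.mor.im_im, im_congr (g := f) fun x _ => by group, hf.im_eq] at this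
    exact ⟨s⁻¹, minv a, this.congr fun x _ => by group⟩

theorem xm_of_dec (hE : Inv E F) (hS : IsPGroup p S) (hP : P ≤ S) {α : MulAut P} {s : Ω} (a : s ∈ S)
    (b : XM F E D P fun x => s⁻¹ * ap α x * s) (ho : (orderOf α).Coprime p) : XM F E D P (ap α) := by
  have key : ∀ n : ℕ, XM F E D P fun x => (s ^ n)⁻¹ * ap (α ^ n) x * s ^ n := fun n => by
    induction n with
    | zero => exact (xm_id hE.sub hE.sc hP).congr fun x _ => by simp [ap_one]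
    | succ n ih =>
      exact (ih.comp (b.tr hE (mor_conj F le_rfl (minv (pow_mem a n))) (sup_le hP hE.le)
        (g := fun y => (s ^ n)⁻¹ * (s⁻¹ * ap α (s ^ n * y * (s ^ n)⁻¹) * s) * s ^ n) fun x _ => by group) fun x hx => by
          simpa using mem_im_of_mem (fun x => (s ^ n)⁻¹ * x * (s ^ n)⁻¹⁻¹) (ap_mem (α ^ n) hx)).congr fun x _ => by
        rw [pow_succ' α, ap_mul, pow_succ' s]; group
  obtain ⟨k, hk⟩ := pow_eq_one_of_isPGroup hS a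
  let B : Subgroup (MulAut P) :=
    { carrier := {β | XM F E D P (ap β)}
      one_mem' := (xm_id hE.sub hE.sc hP).congr fun x _ => (ap_one x).symm
      mul_mem' := fun h1 h2 => (XM.comp h2 h1 fun x => ap_mem _).congr fun x _ => (ap_mul _ _ x).symm
      inv_mem' := fun {β} h1 => by
        have := XM.symm hE.sc h1 (g := ap β⁻¹) fun x _ => ap_inv_ap β x
        rwa [im_ap] at this }
  exact mem_of_pow_p (K := B) (ndvd_of_coprime ho) (by rw [pow_orderOf_eq_one]; exact one_mem _)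
    (k := k) ((key (p ^ k)).congr fun x _ => by simp [hk])

theorem GA.xm_of (h : GA F T Z A D) (H : GH F T Z p A) (hE : Full E F) (hP : P ≤ S) {α : MulAut P}
    (hα : α ∈ D.autGroup P) (ho : (orderOf α).Coprime p) : XM F E D P (ap α) := by
  have iE := hE.inv H.sc
  obtain ⟨Y, hY⟩ := exists_dec_sys (D := D) iE
  obtain ⟨-, s, a, b⟩ := (hY _ _).1 (((mem_autGroup hP).1 hα).sub (h.min S Y le_rfl fun P α c a => (hY _ _).2
    ⟨(H.pa _ _ a).mor, 1, one_mem _, (h.xm H hE c a).congr fun x _ => by simp⟩))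
  exact xm_of_dec iE H.sat.pg hP a b ho

theorem GA.pinv (h : GA F T Z A D) (H : GH F T Z p A) {α : MulAut P} {β : MulAut Q} (i : Iso F P Q f)
    (e : ∀ x ∈ P, ap β (f x) = f (ap α x)) (hα : α ∈ D.autGroup P) (ho : (orderOf α).Coprime p) :
    β ∈ D.autGroup Q := by
  obtain ⟨E, hE⟩ := exists_full H.sc
  have := ((h.frs H hE).xtr (hE.inv H.sc) (h.xm_of H hE i.le hα ho) i.mor le_rfl (fun x => ap_mem α) e).morD H.sc.1
  rw [i.im_eq] at this
  exact this.mem_autGroup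

theorem GA.hyp (h : GA F T Z A D) (H : GH F T Z p A) : hyp(D, p) ≤ T :=
  let ⟨_, hE⟩ := exists_full H.sc
  hyp_le fun _ hP _ a b => (h.xm_of H hE hP a b).md

theorem GA.sat (h : GA F T Z A D) (H : GH F T Z p A) : Sat D p := by
  have hF := H.sat
  obtain ⟨E, hE⟩ := exists_full H.sc
  have iE := hE.inv H.sc
  have := finite_of_le iE.le
  have sc := SC.sub H.sc h.sub iE.le
  refine (glue_main (F := D) (𝒞 := TZ F T Z) (Adm := A) hF.pg ⟨sc, fun U U' a b => a.conj H.sc H.cn ?_,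
    fun U U' a => a.mono H.cn, fun P _ c α a => (h.gen P α c a).mem_autGroup, fun Y hY => le_iff_sub.2
      (h.min S Y le_rfl fun P α c a => hY P (H.pa _ _ a).mor.le c α a), fun P Q f α β i => H.tr _ _ _ _ _ (i.sub h.sub)⟩
    (tz_top H.sc H.le) E.IsFullyNormalized (fun U hU => ?_) (fun U hU c fn => ?_) fun Q hQ k fn c => ?_).1
  · obtain ⟨f, i⟩ := isConj_iff.1 b
    exact (i.sub h.sub).isConj
  · obtain ⟨φ, f1, f2⟩ := hF.exists_fn_nmap (hU.trans iE.le)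
    obtain ⟨d, ψ, a1, a2, a3⟩ := h.frs H hE _ _ f1
    have l := le_normalizerIn (hU.trans iE.le)
    obtain ⟨α, b1, b2⟩ := ((a2.restrict le_sup_right).iso_self fun x hx =>
      SC.mem H.sc a2 (mem_sup_right hx) hx).exists_aut
    have m := a1.mE.restrict (le_inf l hU)
    refine ⟨d, a1.morD iE.le, ((iE.fiso b1).fn_iff m.im_le_S).1 ?_⟩
    rw [m.im_im, im_congr (g := φ) fun x hx => by rw [b2 _ (m.mem hx), a3 x (l hx)]]
    exact hF.fn_sub H.sc iE.sub (im_le.2 fun x hx => SC.mem H.sc f1 (l hx) (hU hx)) f2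
  · obtain ⟨φ, f1, f2, f3⟩ := hE.nmap hF H.sc fn
    obtain ⟨M, hM⟩ := H.loc _ (c.conj H.sc H.cn (Mor.iso' f1 (le_normalizerIn (hU.trans iE.le))).isConj) f2
    exact hM.transport H.sc H.pa H.tr (hU.trans iE.le) f1 (f3.le.trans (im_mono (inf_le_inf_right _ iE.le)))
  · have z : Z ≤ Q ⊓ T := le_inf (Cn.le_of_cent H.cn k hQ) H.le
    obtain ⟨x, x1, x2, x3⟩ := star_XZ hF.pg H.sc H.cn hQ z fun k => c (hE.tz hF H.sc H.cn fn z k)
    refine ⟨x, x1, x2, le_opIn (K := opIn p (F.autGroup Q) ⊓ D.autGroup Q) inf_le_right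
      ((opIn_pg _).to_le inf_le_left) (fun a ha y hy => ⟨opIn_conj (autGroup_mono h.sub hQ ha) hy.1, mconj ha hy.2⟩)
      ⟨x3, cj_mem_autGroup D hQ x1.1⟩⟩

theorem GA.nrm (h : GA F T Z A D) (H : GH F T Z p A) {E₀ : FusionSystem T} (h1 : Sat E₀ p) (h2 : PPI E₀ D p) :
    Nrm E₀ F p := by
  obtain ⟨E, hE⟩ := exists_full H.sc
  have := finite_of_le H.sc.1
  have sD := h.sat H
  have n := h2.nrm sD h1 (SC.norm H.sc)
  have sub := sub_trans h2.sub h.sub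
  refine WNrm.nrm_of ⟨⟨sub, H.sc, fun P f hf α hα => inv_of_pprime h1 sub hα (fun P hP β b1 b2 γ _ c2 e => ?_) hf,
    fun P f hP hf => ?_⟩, h1.sat, H.sat⟩ fun α a b => ?_
  · exact h2.aut _ (im_ap_le hP α) γ (h.pinv H (Mor.iso' ((mem_autGroup H.sc.1).1 hα) hP) e
      (autGroup_mono h2.sub hP b1) b2) c2
  · obtain ⟨d, ψ, a1, a2, a3⟩ := h.frs H hE _ _ hf
    obtain ⟨α, b1, b2⟩ := ((a2.restrict le_sup_right).iso_self fun x hx =>
      SC.mem H.sc a2 (mem_sup_right hx) hx).exists_aut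
    obtain ⟨β, c1, k, k1, k2⟩ := n.frat P d hP (a1.morD H.sc.1)
    exact ⟨α * β, mmul b1 (autGroup_mono h.sub H.sc.1 c1), k, k1, fun x hx => by
      rw [a3 x hx, k2 x hx, ap_mul, b2 _ (ap_mem _ (k1.mem hx))]⟩
  · exact extG_sub h.sub (extG_mono h2.hyp (mem_extG_hyp (sD.rc' (fn_of_normal H.sc.1 (SC.norm H.sc)))
      (autGroup_mono h2.sub le_rfl a) b))

theorem GH.exists_nrm (H : GH F T Z p A) : ∃ (D : FusionSystem S) (E₀ : FusionSystem T), GA F T Z A D ∧ Sat D p ∧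
    PPI E₀ D p ∧ Nrm E₀ F p := by
  obtain ⟨D, hD⟩ := H.exists_ga
  obtain ⟨E₀, h1, h2⟩ := Sat.exists_ppi H.sc.1 (hD.sat H) (hD.hyp H)
  exact ⟨D, E₀, hD, hD.sat H, h2, hD.nrm H h1 h2⟩

end CfsgFS
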