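import Cfsg.Agent.FS.ModN

/-! Gluing local saturated systems. -/

set_option autoImplicit false
set_option linter.unusedSectionVars false

namespace CfsgFS

universe u

open Subgroup Cfsg Cfsg.FusionSystem CfsgH9
open CfsgH2 (resIn)
open scoped commutatorElement

variable {p : ℕ} [Fact p.Prime] {Ω : Type*} [Group Ω] {S T : Subgroup Ω} [Finite S] {F : FusionSystem S}
  {P Q R U U₀ A B P' Q' : Subgroup Ω} {f g : Ω → Ω}

theorem lt_im (hT : F.StronglyClosed T) (hf : Mor F Q f) (h : P < Q ⊓ T) : im P f < im Q f ⊓ T := by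
  rw [← SC.im_inf hT hf]
  exact lt_of_le_of_ne (im_mono h.le) fun e =>
    h.ne (((Iso.hiso hf.iso).im_inj (h.le.trans inf_le_left) inf_le_left).1 e)

theorem lt_NI_inf (hS : IsPGroup p S) (hT : T ≤ S) (h : P < Q ⊓ T) (hQ : Q ≤ S) : P < NI(Q, P) ⊓ T := by
  obtain ⟨x, x1, x2, x3⟩ := exists_norm_of_lt hS h (inf_le_left.trans hQ)
  exact lt_of_le_of_ne (le_inf (le_normalizerIn (h.le.trans inf_le_left)) (h.le.trans inf_le_right))
    fun e => x2 (e ▸ ⟨⟨x1.1, x3⟩, x1.2⟩)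

theorem conj_lt (hT : F.StronglyClosed T) (h : U₀ < T) (hP : F.IsConj U₀ P) : P < S ⊓ T := by
  obtain ⟨f, hf⟩ := isConj_iff.1 hP
  have := finite_of_le hT.1
  rw [inf_of_le_right hT.1]
  refine lt_of_le_of_ne (hf.im_eq ▸ im_le.2 fun x hx => SC.mem hT hf.mor hx (h.le hx)) fun e => ?_
  exact h.ne (eq_of_le_of_card_ge h.le (by rw [← e, hf.card_eq]))

theorem jn_big (hS : IsPGroup p S) (hT : F.StronglyClosed T)
    (hsat : ∀ Q ≤ S, ∀ P, F.IsConj U₀ P → P < Q ⊓ T → SatAt F p Q) :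
    ∀ Q ≤ S, ∀ P : Subgroup Ω, F.IsConj U₀ P → P < Q ⊓ T → Q ≤ NN(P) → ∀ f, Mor F Q f → Jn F P (im P f) := by
  refine down_ind S _ fun Q hQ ih P hn hlt hN f hf => ?_
  have hl : P ≤ Q := hlt.le.trans inf_le_left
  obtain ⟨Q', g, i, hr, hs⟩ := pair_good hS (hsat Q hQ P hn hlt) hl
  have step : ∀ (Q₁ P₁ : Subgroup Ω) h, Iso F Q₁ Q' h → F.IsConj U₀ P₁ → P₁ < Q₁ ⊓ T → Q₁ < NI(S, P₁) →
      im P₁ h = im P g → Jn F P₁ (im P g) ∧ Nat.card Q < Nat.card NI(S, im P g) := fun Q₁ P₁ h h1 h2 h3 h4 h5 => by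
    have h3' := h3.le.trans inf_le_left
    obtain ⟨-, -, k, k1, -, k2⟩ := pair_lift hS hr hs h1 h3' h5
    obtain ⟨a, a1, a2, a3⟩ := exists_norm_of_lt hS h4 normalizerIn_le
    have c : Nat.card Q < Nat.card ↥(Q₁ ⊔ NI(S, Q₁) ⊓ NN(P₁)) := (i.card_eq.symm.trans h1.card_eq).trans_lt
      (card_lt_of_lt' (lt_of_le_of_ne le_sup_left fun e => a2 (e ▸ mem_sup_right ⟨⟨a1.1, a3⟩, a1.2⟩)) k1.le)
    have l : Q₁ ⊔ NI(S, Q₁) ⊓ NN(P₁) ≤ NN(P₁) := sup_le (h4.le.trans normalizerIn_le_normalizer) inf_le_right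
    exact ⟨k2 ▸ ih _ k1.le c P₁ h2 (h3.trans_le (inf_le_inf_right _ le_sup_left)) l k k1, c.trans_le
      (k1.card_le fun x hx => k2 ▸ mem_NI_of_mor k1 (h3'.trans le_sup_left) hx (l hx))⟩
  have fP := Mor.iso' hf hl
  rcases (show Q ≤ NI(S, P) from le_inf hQ hN).eq_or_lt with e | l1
  · exact ⟨_, ⟨fP.le, f, e ▸ hf, rfl⟩, Arr.refl fP.le'⟩
  rcases (show im Q f ≤ NI(S, im P f) from im_le.2 fun x hx => mem_NI_of_mor hf hl hx (hN hx)).eq_or_lt with e | l2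
  · exact ⟨_, Arr.refl fP.le, arr_inv hf hl e⟩
  obtain ⟨f', j1, j2, -⟩ := hf.iso.symm
  obtain ⟨⟨A, a1, a2⟩, c⟩ := step Q P g i hn hlt l1 rfl
  obtain ⟨⟨B, b1, b2⟩, -⟩ := step _ (im P f) _ (j1.comp i) (isConj_trans hn fP.isConj) (lt_im hT hf hlt) l2
    (by rw [fP.mor.im_im]; exact im_congr fun x hx => by simp only [j2 x (hl hx)])
  obtain ⟨hP', α, c1, rfl⟩ := a2
  obtain ⟨-, β, d1, rfl⟩ := b2
  have l := le_normalizerIn hP'
  obtain ⟨α', e1, e2, -⟩ := c1.iso.symm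
  have lt : im P g < NI(S, im P g) ⊓ T := lt_NI_inf hS hT.1
    ((lt_im hT i.mor hlt).trans_le (inf_le_inf_right _ i.mor.im_le_S)) le_rfl
  obtain ⟨C, k1, k2⟩ := ih _ c1.im_le_S (c1.card_im ▸ c) (im (im P g) α)
    (isConj_trans (isConj_trans hn (Mor.iso' i.mor hl).isConj) (Mor.iso' c1 l).isConj) (lt_im hT c1 lt)
    (im_le.2 fun x hx => c1.mem_normalizer l hx hx.2) _ (e1.mor.comp d1 fun x => e1.mem)
  rw [(c1.restrict l).im_im, im_congr (g := β) fun x hx => by simp only [e2 x (l hx)]] at k2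
  exact ⟨C, a1.trans k1, b1.trans k2⟩

theorem jn_big_step (hS : IsPGroup p S) (hT : F.StronglyClosed T)
    (hsat : ∀ Q ≤ S, ∀ P, F.IsConj U₀ P → P < Q ⊓ T → SatAt F p Q) (hP : F.IsConj U₀ P) (hlt : P < Q ⊓ T)
    (hf : Mor F Q f) : Jn F P (im P f) :=
  jn_big hS hT hsat NI(Q, P) (normalizerIn_le.trans hf.le) P hP (lt_NI_inf hS hT.1 hlt hf.le)
    normalizerIn_le_normalizer f (hf.restrict normalizerIn_le)

theorem Jn.trans_big (hS : IsPGroup p S) (hT : F.StronglyClosed T)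
    (hsat : ∀ Q ≤ S, ∀ P, F.IsConj U₀ P → P < Q ⊓ T → SatAt F p Q) (h0 : U₀ < T) (hQ : F.IsConj U₀ Q)
    (h : Jn F P Q) (h' : Jn F Q R) : Jn F P R := by
  obtain ⟨A, a1, -, α, c1, rfl⟩ := h
  obtain ⟨B, ⟨-, β, d1, rfl⟩, b1⟩ := h'
  have lt := lt_NI_inf hS hT.1 (conj_lt hT h0 hQ) le_rfl
  have l := lt.le.trans inf_le_left
  obtain ⟨α', e1, e2, -⟩ := c1.iso.symm
  obtain ⟨C, k1, k2⟩ := jn_big_step hS hT hsat (isConj_trans hQ (Mor.iso' c1 l).isConj) (lt_im hT c1 lt)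
    (e1.mor.comp d1 fun x => e1.mem)
  rw [(c1.restrict l).im_im, im_congr (g := β) fun x hx => by simp only [e2 x (l hx)]] at k2
  exact ⟨C, a1.trans k1, b1.trans k2⟩

theorem alperin_big (hS : IsPGroup p S) {T' : Subgroup Ω} {M : FusionSystem T'} (hS' : S ≤ T')
    (Big : Subgroup Ω → Prop) (h1 : ∀ Q Q', Big Q → Q ≤ Q' → Big Q') (h2 : ∀ Q Q', Big Q → F.IsConj Q Q' → Big Q')
    (hsat : ∀ Q ≤ S, Big Q → SatAt F p Q)
    (h : ∀ Q ≤ S, Big Q → ∀ α ∈ F.autGroup Q, (orderOf α).Coprime p → Mor M Q (ap α)) :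
    ∀ Q ≤ S, Big Q → ∀ f, Mor F Q f → Mor M Q f := by
  refine down_ind S _ fun Q hQ ih hB f hf => ?_
  obtain ⟨Q', q1, q2, q3⟩ := hsat Q hQ hB
  have := aut_finite q2.1
  have a : F.autGroup Q' ≤ M.autGroup Q' := Syl.le_of_coprime (FA.syl q2)
    ((autInducedBy_mono hS').trans (autInducedBy_le M (q2.1.trans hS')))
    fun α a b => (h Q' q2.1 (h2 _ _ hB q1) α a b).mem_autGroup
  rcases hQ.eq_or_lt with rfl | lt
  · obtain rfl : Q' = Q := eq_of_le_of_card_ge q2.1 (isConj_card q1).ge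
    exact Iso.of_autGroup_le hS' a (hf.iso_self fun x => hf.mem)
  have key : ∀ R, F.IsConj Q R → ∃ φ, Iso F R Q' φ ∧ Mor M R φ := fun R hR => by
    obtain ⟨φ, k1, k2⟩ := exists_nmap hS q2 q3 (isConj_trans (isConj_symm hR) q1)
    have l := (isConj_le hR).2
    have lt' := lt_NI hS (lt_of_le_of_ne l fun e => lt.ne (eq_of_le_of_card_ge hQ (by rw [← e, isConj_card hR])))
    exact ⟨φ, ⟨k1.restrict lt'.le, k2⟩, (ih _ k1.le (isConj_card hR ▸ card_lt_of_lt' lt' k1.le)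
      (h1 _ _ (h2 _ _ hB hR) lt'.le) φ k1).restrict lt'.le⟩
  obtain ⟨φ, a1, a2⟩ := key Q (isConj_refl F hQ)
  obtain ⟨ψ, b1, b2⟩ := key _ hf.iso.isConj
  obtain ⟨φ', j1, j2, -⟩ := a1.symm
  exact mor_of_sandwich a2 b2 (fun x => mem_im_of_mem f) (Iso.of_autGroup_le (q2.1.trans hS') a
    ((j1.comp hf.iso).comp b1)) (fun x => a1.mem) fun x hx => by simp only [j2 x hx]

/-- local data for the gluing theorem -/
structure Loc (p : ℕ) (Adm : ∀ P : Subgroup Ω, MulAut P → Prop) (U : Subgroup Ω) {N : Subgroup Ω}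
    (M : FusionSystem N) : Prop where
  sat : Sat M p
  nm : M.IsNormal U
  adm : ∀ P, U ≤ P → P ≤ N → ∀ α ∈ M.autGroup P, (orderOf α).Coprime p → Adm P α
  mem : ∀ P, U ≤ P → P ≤ N → ∀ α, Adm P α → (∀ x ∈ U, ap α x ∈ U) → α ∈ M.autGroup P

section glue
variable {𝒞 : Subgroup Ω → Prop} {Adm : ∀ P : Subgroup Ω, MulAut P → Prop}

/-- generation by admissible automorphisms -/
structure AGen (F : FusionSystem S) (T : Subgroup Ω) (𝒞 : Subgroup Ω → Prop)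
    (Adm : ∀ P : Subgroup Ω, MulAut P → Prop) : Prop where
  sc : F.StronglyClosed T
  conj : ∀ U U', 𝒞 U → F.IsConj U U' → 𝒞 U'
  mono : ∀ U U', 𝒞 U → U ≤ U' → U' ≤ T → 𝒞 U'
  mem : ∀ P ≤ S, 𝒞 (P ⊓ T) → ∀ α, Adm P α → α ∈ F.autGroup P
  gen : ∀ E : FusionSystem S, (∀ P ≤ S, 𝒞 (P ⊓ T) → ∀ α, Adm P α → Mor E P (ap α)) → F ≤ E
  inv : ∀ P Q f α β, Iso F P Q f → (∀ x ∈ P, ap β (f x) = f (ap α x)) → Adm P α → Adm Q β

theorem AGen.ind (h : AGen F T 𝒞 Adm) (Cl : Subgroup Ω → Subgroup Ω → Prop)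
    (hCl : ∀ P U f, Cl P U → Mor F P f → U ≤ P ∧ Cl (im P f) (im U f))
    (Pr : Subgroup Ω → Subgroup Ω → (Ω → Ω) → Prop)
    (congr : ∀ P U f g, Cl P U → Pr P U f → (∀ x ∈ P, f x = g x) → Pr P U g)
    (comp : ∀ P U f g, Cl P U → Mor F P f → Mor F (im P f) g → Pr P U f → Pr (im P f) (im U f) g →
      Pr P U fun x => g (f x))
    (symm : ∀ P U f g, Cl P U → Mor F P f → Iso F (im P f) P g → (∀ x ∈ P, g (f x) = x) → Pr P U f →
      Pr (im P f) (im U f) g)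
    (b1 : ∀ P U s, Cl P U → P ≤ S → s ∈ S → Pr P U fun x => s * x * s⁻¹)
    (b2 : ∀ P U R α, Cl P U → P ≤ R → R ≤ S → 𝒞 (R ⊓ T) → Adm R α → Pr P U (ap α))
    (hP : Cl P U) (hf : Mor F P f) : Pr P U f := by
  refine (exists_sub F S le_rfl (fun R f => ∀ P ≤ R, ∀ U, Cl P U → Pr P U f) ?_ ?_ ?_ ?_).elim fun E hE => ?_
  rotate_right
  · refine ((hE P f).1 (le_iff.1 (h.gen E fun R hR c α a => ?_) P f hf)).2.2.2 P le_rfl U hP
    have m := (mem_autGroup hR).1 (h.mem R hR c α a)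
    exact (hE _ _).2 ⟨m, m.le, fun x => m.mem, fun P h1 U h2 => b2 P U R α h2 h1 hR c a⟩
  · exact fun R f g _ h e P h1 U h2 => congr P U f g h2 (h P h1 U h2) fun x hx => e x (h1 hx)
  · exact fun R s hR hs P h1 U h2 => b1 P U s h2 (h1.trans hR) hs
  · intro R R' f g k1 k2 _ _ _ k3 k4 k5 P h1 U h2
    have l : im P f ≤ R' := im_le.2 fun x hx => k5 x (h1 hx)
    exact comp P U f g h2 (k1.restrict h1) (k2.restrict l) (k3 P h1 U h2) (k4 _ l _ (hCl P U f h2 (k1.restrict h1)).2)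
  · intro R R' f g k1 k2 _ _ e1 e2 k3 P h1 U h2
    have i := Mor.iso' k2.mor h1
    have l : im P g ≤ R := im_le.2 fun x hx => k2.mem (h1 hx)
    obtain ⟨c1, c2⟩ := hCl P U g h2 i.mor
    have e : im (im P g) f = P := by rw [i.mor.im_im, im_eq_of_eq_self fun x hx => e2 x (h1 hx)]
    have e' : im (im U g) f = U := by rw [(i.mor.restrict c1).im_im, im_eq_of_eq_self fun x hx => e2 x (h1 (c1 hx))]
    have := symm _ _ f g c2 (k1.mor.restrict l) (e.symm ▸ i) (fun x hx => e1 x (l hx)) (k3 _ l _ c2)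
    rwa [e, e'] at this

theorem Loc.le (h : AGen F T 𝒞 Adm) {N : Subgroup Ω} {M : FusionSystem N} (hM : Loc p Adm U M) (hN : N ≤ S)
    (hU : 𝒞 U) (hT : U ≤ T) : M.IsSubsystemOf F :=
  have := finite_of_le hN
  hM.sat.sub_of hN fun P hP α a b =>
    have l := Nm.le_of_cr hM.sat.pg hM.nm hP.centric (hP.rad hM.sat)
    (mem_autGroup (hP.le.trans hN)).1 (h.mem P (hP.le.trans hN) (h.mono U _ hU (le_inf l hT) inf_le_right) α
      (hM.adm P l hP.le α a b))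

theorem glue_level (hS : IsPGroup p S) (h : AGen F T 𝒞 Adm) (hU : 𝒞 U₀) (hT : U₀ ≤ T) (fn : F.IsFullyNormalized U₀)
    {M : FusionSystem NI(S, U₀)} (hM : Loc p Adm U₀ M)
    (ih : ∀ Q ≤ S, ∀ P, F.IsConj U₀ P → P < Q ⊓ T → SatAt F p Q ∧ ∀ α ∈ F.autGroup Q, (orderOf α).Coprime p → Adm Q α) :
    (∀ U, F.IsConj U₀ U → Arr F U U₀) ∧ ∀ P f, U₀ ≤ P → P ≤ NI(S, U₀) → Mor F P f → im U₀ f = U₀ → Mor M P f := by
  have := finite_of_le fn.1
  have l0 := le_normalizerIn fn.1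
  rcases hT.eq_or_lt with rfl | lt
  · have nT : S ≤ NI(S, U₀) := le_inf le_rfl (SC.norm h.sc)
    refine ⟨fun U k => ?_, fun P f l1 _ hf _ => h.ind (fun P U => U = U₀ ∧ U₀ ≤ P) (fun P U f k hf => ⟨k.1 ▸ k.2,
      by rw [k.1, SC.im_eq h.sc hf k.2], (SC.im_eq h.sc hf k.2).ge.trans (im_mono k.2)⟩) (fun P _ f => Mor M P f)
      (fun P _ f g _ k e => k.congr e) (fun P _ f g _ _ _ k1 k2 => k1.comp k2 fun x => mem_im_of_mem f)
      (fun P _ f g _ k1 _ e k2 => ?_) (fun P _ s _ hP hs => mor_conj M (hP.trans nT) (nT hs))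
      (fun P _ R α k l hR c a => ?_) (U := U₀) ⟨rfl, l1⟩ hf⟩
    · obtain ⟨f, i⟩ := isConj_iff.1 k
      rw [← i.im_eq, SC.im_eq h.sc i.mor le_rfl]; exact Arr.refl fn.1
    · obtain ⟨g', g1, g2⟩ := k2.symm
      refine g1.congr fun y hy => ?_
      obtain ⟨x, hx, rfl⟩ := k1.mem_im.1 hy
      rw [g2 x hx, e x hx]
    · exact ((mem_autGroup (hR.trans nT)).1 (hM.mem R (k.2.trans l) (hR.trans nT) α a fun x hx =>
        SC.mem h.sc ((mem_autGroup hR).1 (h.mem R hR c α a)) (l (k.2 hx)) hx)).restrict l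
  have hs := fun Q hQ P a b => (ih Q hQ P a b).1
  have cl := fun P (k : F.IsConj U₀ P) => conj_lt h.sc lt k
  have arr : ∀ U, F.IsConj U₀ U → Arr F U U₀ := fun U hR => by
    obtain ⟨f, hf⟩ := isConj_iff.1 hR
    obtain ⟨A, a1, a2⟩ := h.ind (fun P U => U = P ∧ F.IsConj U₀ P) (fun P U f k hf => ⟨k.1.le, by rw [k.1],
      isConj_trans k.2 hf.iso.isConj⟩) (fun P _ f => Jn F P (im P f)) (fun P _ f g _ h e => im_congr e ▸ h)
      (fun P _ f g k h1 h2 k1 k2 => h1.im_im g ▸ k1.trans_big hS h.sc hs lt (isConj_trans k.2 h1.iso.isConj) k2)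
      (fun P _ f g _ _ h2 _ k => h2.im_eq.symm ▸ k.symm)
      (fun P _ s k _ hs' => jn_big_step hS h.sc hs k.2 (cl P k.2) (mor_conj F le_rfl hs'))
      (fun P _ R α k l hR c a => by
        have m := (mem_autGroup hR).1 (h.mem R hR c α a)
        rcases (le_inf l ((cl P k.2).le.trans inf_le_right)).eq_or_lt with e | lt'
        · rw [e, SC.im_inf h.sc m, im_ap]; exact ⟨_, Arr.refl (inf_le_left.trans hR), Arr.refl (inf_le_left.trans hR)⟩
        · exact jn_big_step hS h.sc hs k.2 lt' m) (U := U₀) ⟨rfl, isConj_refl F fn.1⟩ hf.mor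
    exact (hf.im_eq ▸ a2).trans (a1.back fn)
  refine ⟨arr, ?_⟩
  obtain ⟨L, hL⟩ := exists_KN F fn.1 ⊤ (T := NI(S, U₀)) NK_top.symm
  have nL := hL.nm_self l0
  have hB : ∀ Q f, U₀ < Q ⊓ T → Q ≤ NI(S, U₀) → Mor F Q f → im U₀ f = U₀ → Mor M Q f := fun Q f k1 k2 k3 k4 => by
    have l := k1.le.trans inf_le_left
    refine alperin_big (F := L) (hS.to_le normalizerIn_le) le_rfl (fun Q => U₀ < Q ⊓ T)
      (fun Q Q' a b => a.trans_le (inf_le_inf_right _ b)) (fun Q Q' a b => ?_) (fun Q a b => ?_)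
      (fun Q a b α c d => ?_) Q k2 k1 f (hL.mor k3 le_rfl l k2 ((inK_top k3 l).2 k4))
    · obtain ⟨g, i⟩ := isConj_iff.1 b
      have := lt_im h.sc (i.mor.sub hL.sub) a
      rwa [i.im_eq, SC.im_eq (Nm.sc nL) i.mor (a.le.trans inf_le_left)] at this
    · refine hL.satAt hS fn.1 a (by
        rw [sup_eq_left.2 (b.le.trans inf_le_left)]
        exact hs Q (a.trans normalizerIn_le) _ (isConj_refl F fn.1) b) fun R g hg M hM _ => ?_
      obtain ⟨hR, φ, k1, k2⟩ := arr R (isConj_symm hg.isConj)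
      obtain ⟨g', j1, j2, -⟩ := hg.symm
      obtain ⟨l, -, hl⟩ := (j1.comp ⟨k1.restrict (le_normalizerIn hR), k2⟩).exists_aut
      exact ⟨l, trivial, φ, k1.restrict (sup_le (le_normalizerIn hR) hM), fun x hx => by rw [hl _ (hg.mem hx), j2 x hx]⟩
    · have l := b.le.trans inf_le_left
      exact (mem_autGroup a).1 (hM.mem Q l a α ((ih Q (a.trans normalizerIn_le) _ (isConj_refl F fn.1) b).2 α
        (autGroup_mono hL.sub a c) d) fun x hx => SC.mem (Nm.sc nL) ((mem_autGroup a).1 c) (l hx) hx)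
  have big : ∀ (P U Q : Subgroup Ω) f φ ψ k, U ≤ P → P ≤ NN(U) → P ≤ Q → U < Q ⊓ T → Mor F Q f → Mor F NI(S, U) φ →
      im U φ = U₀ → Mor F NI(S, im U f) ψ → im (im U f) ψ = U₀ → (∀ x ∈ P, k (φ x) = ψ (f x)) → Mor M (im P φ) k := by
    intro P U Q f φ ψ k l1 l2 l3 l4 hf f1 f2 g1 g2 e
    have l5 : NI(Q, U) ≤ NI(S, U) := inf_le_inf_right _ hf.le
    have l6 : P ≤ NI(Q, U) := le_inf l3 l2
    have lt1 := lt_NI_inf hS h.sc.1 l4 hf.le
    obtain ⟨φ', j1, j2, -⟩ := (f1.restrict l5).iso.symm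
    have m := (j1.mor.comp hf fun x hx => (j1.mem hx).1).comp g1 fun x hx =>
      mem_NI_of_mor hf (l1.trans l3) (j1.mem hx).1 (j1.mem hx).2
    have m' := hB _ _ (f2 ▸ lt_im h.sc (f1.restrict l5) lt1) (im_le.2 fun x hx =>
      f2 ▸ mem_NI_of_mor f1 ((l1.trans l6).trans l5) (l5 hx) hx.2) m (by
      rw [← f2, (f1.restrict ((l1.trans l6).trans l5)).im_im, im_congr fun x hx => by simp only [j2 x (l6 (l1 hx))]; rfl,
        ← (hf.restrict (l1.trans l3)).im_im, g2, f2])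
    refine (m'.restrict (im_mono l6)).congr fun y hy => ?_
    obtain ⟨x, hx, rfl⟩ := (f1.restrict (l6.trans l5)).mem_im.1 hy
    simp only [j2 x (l6 hx), e x hx]
  intro P f l1 l2 hf e
  have := h.ind (fun P U => U ≤ P ∧ P ≤ NN(U) ∧ F.IsConj U₀ U) (fun P U f k hf => ⟨k.1, im_mono k.1,
      im_le.2 fun x hx => hf.mem_normalizer k.1 hx (k.2.1 hx), isConj_trans k.2.2 (Mor.iso' hf k.1).isConj⟩)
    (fun P U f => P ≤ S → ∀ φ ψ k, Mor F NI(S, U) φ → im U φ = U₀ → Mor F NI(S, im U f) ψ → im (im U f) ψ = U₀ →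
      (∀ x ∈ P, k (φ x) = ψ (f x)) → Mor M (im P φ) k)
    (fun P U f g c h1 e hP φ ψ k f1 f2 g1 g2 e' => by
      rw [← im_congr fun x hx => e x (c.1 hx)] at g1 g2
      exact h1 hP φ ψ k f1 f2 g1 g2 fun x hx => by rw [e' x hx, e x hx])
    (fun P U f g c m1 m2 h1 h2 hP φ ψ k f1 f2 g1 g2 e' => by
      have c' := isConj_trans c.2.2 (Mor.iso' m1 c.1).isConj
      obtain ⟨-, χ, x1, x2⟩ := arr _ c'
      have lP : P ≤ NI(S, U) := le_inf hP c.2.1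
      have lP' : im P f ≤ NI(S, im U f) := im_le.2 fun x hx => mem_NI_of_mor m1 c.1 hx (c.2.1 hx)
      obtain ⟨φ', j1, j2, -⟩ := (f1.restrict lP).iso.symm
      obtain ⟨χ', i1, i2, -⟩ := (x1.restrict lP').iso.symm
      rw [← (m1.restrict c.1).im_im] at g1 g2
      have a := h1 hP φ χ (fun y => χ (f (φ' y))) f1 f2 x1 x2 fun x hx => by simp only [j2 x hx]
      have b := h2 m2.le χ ψ (fun y => ψ (g (χ' y))) x1 x2 g1 g2 fun x hx => by simp only [i2 x hx]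
      refine (a.comp b fun y hy => mem_im_of_mem _ (mem_im_of_mem _ (j1.mem hy))).congr fun y hy => ?_
      obtain ⟨x, hx, rfl⟩ := (f1.restrict lP).mem_im.1 hy
      simp only [j2 x hx, i2 _ (mem_im_of_mem f hx), e' x hx])
    (fun P U f g c m1 m2 e0 h1 hP φ ψ k f1 f2 g1 g2 e' => by
      have eU : im (im U f) g = U := by
        rw [(m1.restrict c.1).im_im, im_eq_of_eq_self fun x hx => e0 x (c.1 hx)]
      rw [eU] at g1 g2
      have lP : P ≤ NI(S, U) := le_inf m1.le c.2.1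
      have lP' : im P f ≤ NI(S, im U f) := im_le.2 fun x hx => mem_NI_of_mor m1 c.1 hx (c.2.1 hx)
      obtain ⟨ψ', j1, j2, -⟩ := (g1.restrict lP).iso.symm
      obtain ⟨k', k1, k2⟩ := (h1 m1.le ψ φ (fun y => φ (f (ψ' y))) g1 g2 f1 f2 fun x hx => by simp only [j2 x hx]).symm
      rw [(g1.restrict lP).im_im, im_congr fun x hx => by simp only [j2 x hx]; rfl, ← m1.im_im] at k1
      refine k1.congr fun y hy => ?_
      obtain ⟨z, hz, rfl⟩ := (f1.restrict lP').mem_im.1 hy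
      obtain ⟨x, hx, rfl⟩ := m1.mem_im.1 hz
      have := k2 _ (mem_im_of_mem ψ hx)
      simp only [j2 x hx] at this
      rw [this, e' _ hz, e0 x hx])
    (fun P U s c hP hs _ φ ψ k f1 f2 g1 g2 e' => big P U S _ φ ψ k c.1 c.2.1 hP (cl U c.2.2) (mor_conj F le_rfl hs)
      f1 f2 g1 g2 e')
    (fun P U R α c l hR c' a _ φ ψ k f1 f2 g1 g2 e' => by
      have m := (mem_autGroup hR).1 (h.mem R hR c' α a)
      rcases (le_inf (c.1.trans l) ((cl U c.2.2).le.trans inf_le_right)).eq_or_lt with e | lt'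
      swap
      · exact big P U R _ φ ψ k c.1 c.2.1 l lt' m f1 f2 g1 g2 e'
      have eU : im U (ap α) = U := by rw [e, SC.im_inf h.sc m, im_ap]
      rw [eU] at g1 g2
      have lR : R ≤ NI(S, U) := fun x hx => ⟨hR hx, e ▸ norm_inf (le_normalizer hx) (SC.norm h.sc (hR hx))⟩
      have lU := le_normalizerIn (c.1.trans (l.trans hR))
      have i := Mor.iso' f1 lR
      obtain ⟨τ, hτ⟩ := exists_tr i
      have l3 : im R φ ≤ NI(S, U₀) := im_le.2 fun x hx => f2 ▸ mem_NI_of_mor f1 lU (lR hx) (lR hx).2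
      have m1 := (mem_autGroup l3).1 (hM.mem _ (f2 ▸ im_mono (c.1.trans l)) l3 _ (h.inv _ _ φ α _ i (hτ α) a)
        fun y hy => by
          obtain ⟨x, hx, rfl⟩ := (f1.restrict lU).mem_im.1 (f2.symm ▸ hy)
          rw [hτ α x (l (c.1 hx)), ← f2]; exact mem_im_of_mem _ (eU ▸ mem_im_of_mem _ hx))
      obtain ⟨φ', j1, j2, -⟩ := f1.iso.symm
      have m2 := big NI(S, U) U NI(S, U) (fun x => x) φ ψ (fun y => ψ (φ' y)) lU normalizerIn_le_normalizer le_rfl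
        (lt_NI_inf hS h.sc.1 (cl U c.2.2) le_rfl) (mor_id F normalizerIn_le) f1 f2 ((im_id U).symm ▸ g1)
        ((im_id U).symm ▸ g2) fun x hx => by simp only [j2 x hx]
      refine ((m1.restrict (im_mono l)).comp m2 fun y hy => im_mono lR (ap_mem _ (im_mono l hy))).congr fun y hy => ?_
      obtain ⟨x, hx, rfl⟩ := (f1.restrict (l.trans lR)).mem_im.1 hy
      simp only [hτ α x (l hx), j2 _ (lR (ap_mem α (l hx))), e' x hx])
    ⟨l1, l2.trans normalizerIn_le_normalizer, isConj_refl F fn.1⟩ hf hf.le (fun x => x) (fun x => x) f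
    (mor_id F normalizerIn_le) (im_id _) (mor_id F normalizerIn_le) (by rw [im_id, e]) fun _ _ => rfl
  rwa [im_id] at this

theorem glue_main (hS : IsPGroup p S) (h : AGen F T 𝒞 Adm) (htop : 𝒞 T) (Good : Subgroup Ω → Prop)
    (hg : ∀ U ≤ T, ∃ d, Mor F NI(S, U) d ∧ Good (im U d))
    (hloc : ∀ U ≤ T, 𝒞 U → Good U → ∃ M : FusionSystem NI(S, U), Loc p Adm U M)
    (hstar : ∀ Q ≤ S, CI(S, Q) ≤ Q → Good (Q ⊓ T) → ¬ 𝒞 (Q ⊓ T) → ∃ x ∈ NI(S, Q), x ∉ Q ∧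
      cj Q x ∈ opIn p (F.autGroup Q)) :
    Sat F p ∧ ∀ P ≤ S, 𝒞 (P ⊓ T) → ∀ α ∈ F.autGroup P, (orderOf α).Coprime p → Adm P α := by
  have := finite_of_le h.sc.1
  have nU : ∀ P ≤ S, P ≤ NI(S, P ⊓ T) := fun P hP x hx => ⟨hP hx, norm_inf (le_normalizer hx) (SC.norm h.sc (hP hx))⟩
  have key : ∀ U ≤ T, 𝒞 U → ∀ P ≤ S, P ⊓ T = U →
      SatAt F p P ∧ ∀ α ∈ F.autGroup P, (orderOf α).Coprime p → Adm P α := by
    refine down_ind T _ fun U hU ih c P hP e => ?_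
    obtain ⟨U₁, f₁, i₁, fn₁⟩ := exists_fn F (hU.trans h.sc.1)
    have l1 : U₁ ≤ T := i₁.im_eq ▸ im_le.2 fun x hx => SC.mem h.sc i₁.mor hx (hU hx)
    obtain ⟨d, d1, d2⟩ := hg U₁ l1
    have fn := fn_transfer fn₁ d1 (le_normalizerIn fn₁.1) le_rfl
    have i₀ := i₁.comp (Mor.iso' d1 (le_normalizerIn fn₁.1))
    generalize im U₁ d = U₀ at *
    have l0 : U₀ ≤ T := i₀.im_eq ▸ im_le.2 fun x hx => SC.mem h.sc i₀.mor hx (hU hx)
    have c0 := h.conj _ _ c i₀.isConj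
    have := finite_of_le l0
    obtain ⟨M, hM⟩ := hloc U₀ l0 c0 d2
    obtain ⟨arr, hN⟩ := glue_level hS h c0 l0 fn hM fun Q hQ P a b => ih _ inf_le_right (by
      rw [← i₀.card_eq, ← isConj_card a]; exact card_lt_of_lt' b inf_le_right)
      (h.mono _ _ (h.conj _ _ c0 a) b.le inf_le_right) Q hQ rfl
    have sM := hM.le h normalizerIn_le c0 l0
    have back : ∀ R ≤ S, F.IsConj U₀ (R ⊓ T) → ∃ φ, Mor F NI(S, R ⊓ T) φ ∧ im R φ ⊓ T = U₀ ∧
        ∀ x ∈ NI(S, R ⊓ T), φ x ∈ NI(S, U₀) := fun R hR k => by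
      obtain ⟨l, φ, k1, k2⟩ := arr _ k
      exact ⟨φ, k1, by rw [← SC.im_inf h.sc (k1.restrict (nU R hR)), k2],
        fun x hx => k2 ▸ mem_NI_of_mor k1 (le_normalizerIn l) hx hx.2⟩
    have aut : ∀ R Q g, Iso F R Q g → R ⊓ T = U₀ → Q ⊓ T = U₀ → Mor M R g := fun R Q g i e1 e2 =>
      hN R g (e1 ▸ inf_le_left) (e1 ▸ nU R i.le) i.mor (by rw [← e1, SC.im_inf h.sc i.mor, i.im_eq, e2, e1])
    obtain ⟨φ, f1, f2, f3⟩ := back P hP (e ▸ isConj_symm i₀.isConj)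
    have i := Mor.iso' f1 (nU P hP)
    have l2 : im P φ ≤ NI(S, U₀) := im_le.2 fun x hx => f3 x (nU P hP hx)
    refine ⟨?_, fun α a b => ?_⟩
    · obtain ⟨Q, q1, q2, q3⟩ := hM.sat.satAt l2
      obtain ⟨m, j⟩ := isConj_iff.1 q1
      have j' := j.sub sM
      have e2 : Q ⊓ T = U₀ := by
        rw [← j.im_eq, ← SC.im_inf h.sc j'.mor, f2, SC.im_eq (Nm.sc hM.nm) j.mor (f2 ▸ inf_le_left)]
      have nQ : NI(S, Q) ≤ NI(S, U₀) := fun x hx => ⟨hx.1, e2 ▸ norm_inf hx.2 (SC.norm h.sc hx.1)⟩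
      refine ⟨Q, (i.comp j').isConj, fa_iff.2 ⟨j'.le', ?_⟩, isReceptive_of j'.le' fun R ψ N hψ k1 k2 k3 => ?_⟩
      · have s := FA.syl q2
        rw [show M.autGroup Q = F.autGroup Q from le_antisymm (autGroup_mono sM q2.1) fun α hα =>
          (aut Q Q _ (iso_ap j'.le' hα) e2 e2).mem_autGroup] at s
        rwa [show AS(S, Q) = AS(NI(S, U₀), Q) from le_antisymm (fun α hα => by
          obtain ⟨a, a1, a2, rfl⟩ := mem_autInducedBy'.1 hα
          exact cj_mem_autInducedBy (nQ ⟨a1, a2⟩)) (autInducedBy_mono normalizerIn_le)]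
      · have iR : Iso F (R ⊓ T) U₀ ψ := ⟨hψ.mor.restrict inf_le_left, by rw [SC.im_inf h.sc hψ.mor, hψ.im_eq, e2]⟩
        obtain ⟨χ, x1, x2, x3⟩ := back R hψ.le (isConj_symm iR.isConj)
        have lN : N ≤ NI(S, R ⊓ T) := fun x hx => ⟨(k2 hx).1, norm_inf (k2 hx).2 (SC.norm h.sc (k2 hx).1)⟩
        have iχ := Mor.iso' x1 (nU R hψ.le)
        obtain ⟨χ', j1, j2, -⟩ := iχ.symm
        have i2 := j1.comp hψ
        obtain ⟨g, g1, g2⟩ := Iso.extend (F := M) ⟨aut _ _ _ i2 x2 e2, i2.im_eq⟩ q3 (R := im N χ) (im_le.2 fun x hx =>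
          ⟨x3 x (lN hx), x1.mem_normalizer (nU R hψ.le) (lN hx) (k2 hx).2⟩) fun y hy => by
            obtain ⟨c, hc, rfl⟩ := (x1.restrict lN).mem_im.1 hy
            obtain ⟨b, b1, b2⟩ := k3 c hc
            have := finite_of_le hψ.le'
            refine ⟨b, nQ ⟨b1, mem_normalizer_of_finite fun y hy => ?_⟩, fun y hy => ?_⟩
            · obtain ⟨x, hx, rfl⟩ := hψ.surj hy
              rw [← b2 x hx]; exact hψ.mem (conj_mem_of_mem_normalizer (k2 hc).2 hx)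
            · obtain ⟨x, hx, rfl⟩ := iχ.surj hy
              have m := conj_mem_of_mem_normalizer (k2 hc).2 hx
              rw [← x1.map_conj (lN hc) (nU R hψ.le hx)]
              simp only [j2 _ m, j2 x hx, b2 x hx]
        exact ⟨_, (x1.restrict lN).comp (g1.sub sM) fun x hx => mem_sup_right (mem_im_of_mem _ hx), fun x hx => by
          simp only [g2 _ (iχ.mem hx), j2 x hx]⟩
    · obtain ⟨τ, hτ⟩ := exists_tr i
      obtain ⟨φ', j1, j2, j3⟩ := i.symm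
      refine h.inv _ _ φ' (τ α) α j1 (fun y hy => ?_) (hM.adm _ (f2 ▸ inf_le_left) l2 _
        (aut _ _ _ (iso_ap i.le' ((hτ.mem_iff i).2 a)) f2 f2).mem_autGroup (by rwa [MulEquiv.orderOf_eq]))
      obtain ⟨x, hx, rfl⟩ := i.surj hy
      rw [hτ α x hx, j2 x hx, j2 _ (ap_mem α hx)]
  refine ⟨hsat_main hS (ℋ := {P | P ≤ S ∧ 𝒞 (P ⊓ T)}) (fun P hP Q hQ => ⟨(isConj_le hQ).2, ?_⟩)
    (fun P hP => (key _ inf_le_right hP.2 P hP.1 rfl).1) (fun E hE => h.gen E fun P hP c α a => ?_) fun P hP hn => ?_,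
    fun P hP c => (key _ inf_le_right c P hP rfl).2⟩
  · obtain ⟨f, i⟩ := isConj_iff.1 hQ
    exact h.conj _ _ hP.2 (show Iso F _ _ f from ⟨i.mor.restrict inf_le_left, by
      rw [SC.im_inf h.sc i.mor, i.im_eq]⟩).isConj
  · exact (mor_ext (hE P ⟨hP, c⟩ ((mem_autGroup hP).1 (h.mem P hP c α a)).toHom_mem)).congr fun x hx => ext_toHom _ hx
  · obtain ⟨d, d1, d2⟩ := hg (P ⊓ T) inf_le_right
    have i := Mor.iso' d1 (nU P hP.1)
    have e := SC.im_inf h.sc i.mor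
    obtain ⟨x, x1, x2, x3⟩ := hstar _ i.le' (hP.2 _ i.isConj) (e ▸ d2) fun k => hn ⟨hP.1, h.conj _ _ k
      (isConj_symm (show Iso F _ _ d from ⟨i.mor.restrict inf_le_left, e⟩).isConj)⟩
    exact ⟨_, i.isConj, fun k => x2 ((cj_mem_inn_iff x1 i.le' (hP.2 _ i.isConj)).1 (k ⟨cj_mem_autInducedBy x1.1, x3⟩))⟩

end glue

end CfsgFS
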