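import Cfsg.Agent.FS.Crit
import Cfsg.Agent.S1944

/-! Group-theoretic corollaries of the fusion system library. -/

set_option autoImplicit false
set_option linter.unusedSectionVars false

namespace CfsgFS

open Subgroup Cfsg Cfsg.FusionSystem CfsgH9
open scoped commutatorElement
open scoped MatrixGroups Matrix

universe u

variable {G : Type u} [Group G] [Finite G] {p : ℕ} [Fact p.Prime]

theorem ga_center (S : Sylow p G) (h : p ≠ 2 ∨ Group.IsSolvable G) :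
    ∃ W K : Subgroup G, (∀ x : G, x ∈ W ↔ (x ∈ (S : Subgroup G) ∧ ∀ g : G, g * x * g⁻¹ ∈ (S : Subgroup G) → g * x * g⁻¹ = x)) ∧
      K ≤ ((S : Subgroup G) ⊓ CC((S : Subgroup G))) ∧ W ⊓ K = ⊥ ∧ W ⊔ K = ((S : Subgroup G) ⊓ CC((S : Subgroup G))) := by
  rcases h with hp | h
  · have hG := isGF_group (S : Subgroup G)
    have hF := hG.sat (syl_top S)
    obtain ⟨K, k1, k2, k3⟩ := hF.center_compl_odd hp
    refine ⟨_, K, fun x => ⟨fun hx => ⟨(center_le_Z hx).1, fun g hg => ?_⟩, fun ⟨h1, h2⟩ => ?_⟩, k1, k2, k3⟩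
    · exact fix_center hx (hG.mor (mem_top g) (zpowers_le.2 (center_le_Z hx).1) fun y ⟨n, hn⟩ => by
        rw [← show x ^ n = y from hn, ← conj_zpow]; exact zpow_mem hg n) (mem_zpowers x)
    · refine hF.mem_center h1 fun P f hf hP => ?_
      obtain ⟨g, -, e⟩ := hG.elim hf
      rw [e x hP]; exact h2 g (e x hP ▸ hf.mem hP)
  · exact Cfsg.Agent.S1944.result S (inf_le_right.trans
      (CfsgH1.IsPSolvable.centralizer_le_pPrimePCore CfsgH1.isPSolvable_of_isSolvable (CfsgH1.pPrimePCore_le_sylow_sup S)))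

/-- a section `Qd(p)` gives a section `SL₂(p)` of an automizer -/
theorem ga_sl2 (h : Sec (qd p) (⊤ : Subgroup G)) : ∃ Q : Subgroup G, IsPGroup p Q ∧
    ∃ (H K : Subgroup G) (_ : (K.subgroupOf H).Normal), CC(Q) ≤ K ∧ K ≤ H ∧ H ≤ NN(Q) ∧
      Nonempty ((↥H ⧸ K.subgroupOf H) ≃* SL(2, ZMod p)) := by
  obtain ⟨K, -, π, hπ⟩ : Sec (qdOver (ZMod p)) (⊤ : Subgroup G) := h
  obtain ⟨T', t1, t2, t3⟩ := exists_lift_normalizer hπ (P := qV (ZMod p))
    (isPGroup_of_forall fun x hx => ⟨1, by rw [pow_one]; exact pow_qV hx⟩)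
  rw [normalizer_eq_top] at t3
  set T := T'.map K.subtype with hT
  have pT : IsPGroup p T := t1.map _
  have mT : ∀ t : K, t ∈ T' → (t : G) ∈ T := fun t ht => mem_map_of_mem _ ht
  choose τ τ1 τ2 using fun u : Fin 2 → ZMod p => (t2.ge (mem_qV.2 ⟨u, rfl⟩) : qa u 1 ∈ T'.map π)
  let Rl : G → SL(2, ZMod p) → Prop := fun g A => ∀ t ∈ T', ∃ s ∈ T', (s : G) = g * t * g⁻¹ ∧
    ∀ u, π t = qa u 1 → π s = qa (A.1 *ᵥ u) 1
  have r1 : Rl 1 1 := fun t ht => ⟨t, ht, by group, fun u e => by simpa using e⟩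
  have rm : ∀ g h A B, Rl g A → Rl h B → Rl (g * h) (A * B) := fun g h A B k1 k2 t ht => by
    obtain ⟨s, a1, a2, a3⟩ := k2 t ht
    obtain ⟨r, b1, b2, b3⟩ := k1 s a1
    exact ⟨r, b1, by rw [b2, a2]; group, fun u e => by
      rw [b3 _ (a3 u e), Matrix.mulVec_mulVec]; rfl⟩
  have rn : ∀ g A, Rl g A → g ∈ NN(T) := fun g A k => mem_normalizer_of_finite fun x ⟨t, ht, e⟩ => by
    obtain ⟨s, a1, a2, -⟩ := k t ht
    rw [← e]; exact a2 ▸ mT s a1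
  have ri : ∀ g A, Rl g A → Rl g⁻¹ A⁻¹ := fun g A k t ht => by
    obtain ⟨s, a1, a2⟩ := conj_mem_of_mem_normalizer (minv (rn g A k)) (mT t ht)
    obtain ⟨r, b1, b2, b3⟩ := k s a1
    obtain rfl : r = t := Subtype.ext (by rw [b2, show (s : G) = _ from a2]; group)
    refine ⟨s, a1, a2, fun u e => ?_⟩
    obtain ⟨v, hv⟩ := mem_qV.1 (t2 ▸ mem_map_of_mem π a1)
    rw [hv, ← (qa_inj.1 ((b3 v hv).symm.trans e)).1, Matrix.mulVec_mulVec, ← Matrix.SpecialLinearGroup.coe_mul, inv_mul_cancel]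
    simp
  have ru : ∀ A, Rl 1 A → A = 1 := fun A k => by
    have : ∀ u, A.1 *ᵥ u = u := fun u => by
      obtain ⟨s, -, a2, a3⟩ := k _ (τ1 u)
      obtain rfl : s = τ u := Subtype.ext (by rw [a2]; group)
      exact (qa_inj.1 ((a3 u (τ2 u)).symm.trans (τ2 u))).1
    exact Subtype.ext (Matrix.toLin'.injective (LinearMap.ext fun u => by simpa using this u))
  have rK : ∀ k : K, k ∈ NN(T') → Rl k (qπ _ (π k)) := fun k hk t ht =>
    ⟨k * t * k⁻¹, conj_mem_of_mem_normalizer hk ht, rfl, fun u e => by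
      obtain ⟨v, A, e'⟩ := exists_qa (π k)
      rw [map_mul, map_mul, map_inv, e, e', qa_conj, qπ_qa]⟩
  have rC : ∀ c ∈ CC(T), Rl c 1 := fun c hc' s hs => ⟨s, hs, by rw [← hc' _ (mT s hs), mul_inv_cancel_right],
      fun u e => by simpa using e⟩
  let K₁ : Subgroup G :=
    { carrier := {g | ∃ A, Rl g A}, one_mem' := ⟨1, r1⟩, mul_mem' := fun ⟨A, a⟩ ⟨B, b⟩ => ⟨_, rm _ _ _ _ a b⟩
      inv_mem' := fun ⟨A, a⟩ => ⟨_, ri _ _ a⟩ }
  obtain ⟨ρ, hρ⟩ := exists_hom_of_rel (D := K₁) (fun g A => Rl g A) r1 (fun g h A B => rm g h A B)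
    (fun g A => ri g A) ru fun g => g.2
  have sρ : Function.Surjective ρ := fun A => by
    obtain ⟨x, rfl⟩ := qπ_surjective A
    obtain ⟨k, k1, rfl⟩ := t3 (mem_top x)
    have r := rK k k1
    exact ⟨⟨k, _, r⟩, (hρ _ _).1 r⟩
  have e : (ρ.ker.map K₁.subtype).subgroupOf K₁ = ρ.ker := comap_map_eq_self_of_injective K₁.subtype_injective _
  have nn : ((ρ.ker.map K₁.subtype).subgroupOf K₁).Normal := e.symm ▸ inferInstance
  refine ⟨T, pT, K₁, ρ.ker.map K₁.subtype, nn, fun c hc => ?_, map_subtype_le _,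
    fun g ⟨A, a⟩ => rn g A a, ⟨(QuotientGroup.quotientMulEquivOfEq e).trans (QuotientGroup.quotientKerEquivOfSurjective ρ sρ)⟩⟩
  exact ⟨⟨c, 1, rC c hc⟩, (hρ _ _).1 (rC c hc), rfl⟩

theorem ga_inn {Q : Subgroup G} {x : G} (hx : x ∈ NN(Q)) : cj Q x ∈ Inn Q ↔ x ∈ Q ⊔ CC(Q) := by
  rw [mem_sup_of_le_normalizer (le_normalizer.trans (cent_norm Q)), inn_eq, mem_autInducedBy']
  refine ⟨fun ⟨g, g1, g2, e⟩ => ⟨g, g1, g⁻¹ * x, (cj_eq_cj_iff hx g2).1 e, by group⟩, ?_⟩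
  rintro ⟨g, g1, c, hc, rfl⟩
  exact ⟨g, g1, le_normalizer g1, (cj_eq_cj_iff hx (le_normalizer g1)).2 (by simpa using hc)⟩

theorem ga_rad {Q : Subgroup G} (hQ : IsPGroup p Q) : opIn p AS(⊤, Q) = Inn Q ↔
    ∀ X : Subgroup G, X ≤ NN(Q) → (∀ n ∈ NN(Q), X.map (MulAut.conj n).toMonoidHom = X) →
      Q ⊔ CC(Q) ≤ X → (∃ k : ℕ, (Q ⊔ CC(Q)).relIndex X = p ^ k) → X = Q ⊔ CC(Q) := by
  have lN : Q ⊔ CC(Q) ≤ NN(Q) := sup_le le_normalizer (centralizer_le_normalizer _)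
  have nN : NN(Q) ≤ NN(Q ⊔ CC(Q)) := fun a ha => norm_sup ha (cent_norm Q ha)
  constructor
  · rintro h X h1 h2 h3 ⟨k, hk⟩
    refine le_antisymm (fun x hx => (ga_inn (h1 hx)).1 (h ▸ le_opIn (K := AS(X, Q)) (autInducedBy_mono le_top) ?_ ?_
      (cj_mem_autInducedBy hx))) h3
    · refine isPGroup_of_forall fun α hα => ?_
      obtain ⟨y, y1, y2, rfl⟩ := mem_autInducedBy'.1 hα
      have : ((Q ⊔ CC(Q)).subgroupOf X).Normal := (normal_subgroupOf_iff_le_normalizer h3).2 (h1.trans nN)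
      have m : y ^ p ^ k ∈ Q ⊔ CC(Q) := by
        have := pow_index_mem (H := (Q ⊔ CC(Q)).subgroupOf X) ⟨y, y1⟩
        rwa [show ((Q ⊔ CC(Q)).subgroupOf X).index = p ^ k from hk] at this
      obtain ⟨j, hj⟩ := pow_eq_one_of_isPGroup (isPGroup_inn hQ) ((ga_inn (pow_mem y2 _)).2 m)
      exact ⟨k + j, by rw [pow_add, pow_mul, ← cj_pow y2, hj]⟩
    · intro α hα β hβ
      obtain ⟨a, -, a2, rfl⟩ := mem_autInducedBy'.1 hα
      obtain ⟨y, y1, y2, rfl⟩ := mem_autInducedBy'.1 hβ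
      rw [← cj_inv a2, ← cj_mul a2 y2, ← cj_mul (mmul a2 y2) (minv a2)]
      exact cj_mem_autInducedBy (h2 a a2 ▸ mem_map_of_mem _ y1)
  · intro h
    have il : Inn Q ≤ opIn p AS(⊤, Q) := le_opIn (inn_eq Q ▸ autInducedBy_mono le_top) (isPGroup_inn hQ)
      fun a _ x hx => inn_conj hx
    let X : Subgroup G := ((opIn p AS(⊤, Q)).comap Q.normalizerMonoidHom).map NN(Q).subtype
    have mX : ∀ x, x ∈ X ↔ x ∈ NN(Q) ∧ cj Q x ∈ opIn p AS(⊤, Q) := fun x =>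
      ⟨fun ⟨y, y1, e⟩ => e ▸ ⟨y.2, by rw [show NN(Q).subtype y = (y : G) from rfl, cj_eq y.2]; exact y1⟩,
        fun ⟨a, b⟩ => ⟨⟨x, a⟩, by rw [cj_eq a] at b; exact b, rfl⟩⟩
    have h3 : Q ⊔ CC(Q) ≤ X := fun x hx => (mX x).2 ⟨lN hx, il ((ga_inn (lN hx)).2 hx)⟩
    have := h X (fun x hx => ((mX x).1 hx).1) (fun n hn => map_conj_eq_of_mem_normalizer
      (mem_normalizer_of_finite fun x hx => ?_)) h3 ?_
    · refine le_antisymm (fun α hα => ?_) il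
      obtain ⟨a, -, a2, rfl⟩ := mem_autInducedBy'.1 (opIn_le _ hα)
      exact (ga_inn a2).2 (this ▸ (mX a).2 ⟨a2, hα⟩)
    · obtain ⟨a, b⟩ := (mX x).1 hx
      refine (mX _).2 ⟨mmul (mmul hn a) (minv hn), ?_⟩
      rw [cj_mul (mmul hn a) (minv hn), cj_mul hn a, cj_inv hn]
      exact opIn_conj (cj_mem_autInducedBy (mem_top n)) b
    · have : ((Q ⊔ CC(Q)).subgroupOf X).Normal :=
        (normal_subgroupOf_iff_le_normalizer h3).2 (fun x hx => nN ((mX x).1 hx).1)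
      have : IsPGroup p (X ⧸ (Q ⊔ CC(Q)).subgroupOf X) := fun q => by
        obtain ⟨⟨x, hx⟩, rfl⟩ := QuotientGroup.mk_surjective q
        obtain ⟨a, b⟩ := (mX x).1 hx
        obtain ⟨k, hk⟩ := pow_eq_one_of_isPGroup (opIn_pg _) b
        refine ⟨k, by
          rw [← QuotientGroup.mk_pow, QuotientGroup.eq_one_iff]
          exact mem_sup_right ((cj_eq_one_iff (pow_mem a _)).1 (by rw [cj_pow a, hk]))⟩
      exact IsPGroup.iff_card.1 this

theorem ga_cen {Q : Subgroup G} (hQ : IsPGroup p Q) :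
    (∃ R : Sylow p CC(Q), (R : Subgroup CC(Q)).map CC(Q).subtype = Q ⊓ CC(Q)) ↔ Syl p (Q ⊓ CC(Q)) CC(Q) := by
  refine ⟨fun ⟨R, e⟩ => e ▸ syl_map_subtype R, fun h => ?_⟩
  obtain ⟨R, e⟩ := h.toSylow
  exact ⟨R, by rw [e, subgroupOf_map_subtype, inf_assoc, inf_idem]⟩

theorem ga_model (hp : p ≠ 2) (P : Sylow p G) (hs : ¬ Sec (qd p) (⊤ : Subgroup G))
    (cr : Subgroup G → Prop)
    (hcr : ∀ Q : Subgroup G, cr Q ↔ (Q ≤ (P : Subgroup G) ∧
      (∃ R : Sylow p CC(Q), (R : Subgroup CC(Q)).map CC(Q).subtype = Q ⊓ CC(Q)) ∧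
      ∀ X : Subgroup G, X ≤ NN(Q) → (∀ n ∈ NN(Q), X.map (MulAut.conj n).toMonoidHom = X) →
        Q ⊔ CC(Q) ≤ X → (∃ k : ℕ, (Q ⊔ CC(Q)).relIndex X = p ^ k) → X = Q ⊔ CC(Q))) :
    ∃ Q : Subgroup G, cr Q ∧ (∀ R : Subgroup G, cr R → Q ≤ R) ∧ (∀ x ∈ (P : Subgroup G), Q.map (MulAut.conj x).toMonoidHom = Q) ∧
      ∀ A : Subgroup G, A ≤ (P : Subgroup G) → ∀ g : G, A.map (MulAut.conj g).toMonoidHom ≤ (P : Subgroup G) →
        ∃ h ∈ NN(Q), ∃ c ∈ CC(A), g = h * c := by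
  have hG := isGF_group (P : Subgroup G)
  have hS := syl_top P
  have hF := hG.sat hS
  have hc := core_centric (hF.constrained_of_ch ((hG.free hS hs).ch hF hp))
  have hn := nm_core (groupFusionSystem (P : Subgroup G))
  set Q := (groupFusionSystem (P : Subgroup G)).core
  have pQ : IsPGroup p Q := hS.pg.to_le hc.1
  refine ⟨Q, (hcr Q).2 ⟨hc.1, (ga_cen pQ).2 ?_, (ga_rad pQ).1 ?_⟩, fun R hR => ?_,
    fun x hx => map_conj_eq_of_mem_normalizer (Nm.norm hn hx), fun A hA g hg => ?_⟩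
  · have := (hG.fc_iff hS hc.1).1 (centric_fc hc)
    rw [top_inf_eq] at this
    convert this using 1
    exact le_antisymm (fun x hx => ⟨hc.1 hx.1, hx.2⟩) fun x hx => ⟨centric_le hc hx, hx.2⟩
  · rw [← hG.autGroup hc.1]; exact (radical_iff.1 (hF.rad_of_core hc)).2
  · obtain ⟨r1, r2, r3⟩ := (hcr R).1 hR
    have pR : IsPGroup p R := hS.pg.to_le r1
    refine Nm.le_of_cr hS.pg hn (centric_of_pel hS.pg r1 fun c c1 c2 => ?_)
      (radical_iff.2 ⟨r1, by rw [hG.autGroup r1]; exact (ga_rad pR).2 r3⟩)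
    obtain ⟨a, a1, a2⟩ := ((ga_cen pR).1 r2).conj_elt c1 c2
    have := a1 _ a2.1
    have e : a * c * a⁻¹ = c := by
      calc a * c * a⁻¹ = a⁻¹ * (a * (a * c * a⁻¹)) := by group
        _ = c := by rw [← this]; group
    exact e ▸ a2.1
  · obtain ⟨f, f1, f2, f3⟩ := Nm.ext hn (hG.mor (mem_top g) hA fun x hx => hg (mem_map_of_mem _ hx))
    obtain ⟨h, -, e⟩ := hG.elim f1
    refine ⟨h, mem_normalizer_of_finite fun x hx => ?_, h⁻¹ * g, fun x hx => ?_, by group⟩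
    · rw [← e x (mem_sup_right hx), ← f3]; exact mem_im_of_mem _ hx
    · have := (f2 x hx).symm.trans (e x (mem_sup_left hx))
      calc x * (h⁻¹ * g) = h⁻¹ * (h * x * h⁻¹) * g := by group
        _ = _ := by rw [← this]; group

end CfsgFS
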