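import Cfsg.Agent.FS.Gen2

/-! Intersections of normal subsystems. -/

set_option autoImplicit false
set_option linter.unusedSectionVars false

namespace CfsgFS

open Subgroup Cfsg Cfsg.FusionSystem CfsgH9
open CfsgH2 (resIn)
open scoped commutatorElement

variable {p : ℕ} {Ω : Type*} [Group Ω] {S T T₁ T₂ : Subgroup Ω} {F D D₁ D₂ : FusionSystem S} {E : FusionSystem T}
  {E₁ : FusionSystem T₁} {E₂ : FusionSystem T₂} {P Q R U W Y : Subgroup Ω} {f g ψ : Ω → Ω}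

structure BB (D₁ D₂ : FusionSystem S) (p : ℕ) (W : Subgroup Ω) (β : MulAut W) : Prop where
  m1 : Mor D₁ W (ap β)
  m2 : Mor D₂ W (ap β)
  cop : (orderOf β).Coprime p

structure IH (F : FusionSystem S) (E₁ : FusionSystem T₁) (E₂ : FusionSystem T₂) (p : ℕ) (D₁ D₂ : FusionSystem S) :
    Prop where
  n1 : Nrm E₁ F p
  n2 : Nrm E₂ F p
  g1 : GES F E₁ p D₁
  g2 : GES F E₂ p D₂

def JJ (F D₁ D₂ : FusionSystem S) (p : ℕ) (R : Subgroup Ω) (f : Ω → Ω) : Prop :=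
  ∃ (φ : Ω → Ω) (Y : Subgroup Ω) (β : MulAut Y), Mor F R φ ∧ F.IsCentric Y ∧ im R φ ≤ Y ∧ BB D₁ D₂ p Y β ∧
    ∀ x ∈ R, ap β (φ x) = φ (f x)

def KB (D₁ D₂ : FusionSystem S) (p : ℕ) (U : Subgroup Ω) : Subgroup (MulAut ↥(U ⊔ CI(S, U))) :=
  closure {β | BB D₁ D₂ p _ β ∧ ∀ x ∈ U, ap β x ∈ U}

theorem BB.res' {α : MulAut P} {β : MulAut R} (a : BB D₁ D₂ p P α) (l : R ≤ P) (e : ∀ x ∈ R, ap β x = ap α x) :
    BB D₁ D₂ p R β :=
  ⟨(a.m1.restrict l).congr fun x hx => (e x hx).symm, (a.m2.restrict l).congr fun x hx => (e x hx).symm,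
    a.cop.coprime_dvd_left (orderOf_dvd_of_ap l fun x hx => (e x hx).symm)⟩

theorem PA.res' {α : MulAut P} {β : MulAut R} (a : PA F T p P α) (l : R ≤ P) (e : ∀ x ∈ R, ap β x = ap α x) :
    PA F T p R β :=
  ⟨(a.mor.restrict l).congr fun x hx => (e x hx).symm,
    a.cop.coprime_dvd_left (orderOf_dvd_of_ap l fun x hx => (e x hx).symm), fun x hx => e x hx ▸ a.md x (l hx)⟩

theorem JJ.mono (h : JJ F D₁ D₂ p R f) (l : U ≤ R) (e : ∀ x ∈ U, f x = g x) : JJ F D₁ D₂ p U g :=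
  let ⟨φ, Y, β, a, b, c, d, k⟩ := h
  ⟨φ, Y, β, a.restrict l, b, (im_mono l).trans c, d, fun x hx => e x hx ▸ k x (l hx)⟩

variable [Finite S] [Fact p.Prime]

theorem WNrm.mid {U : Subgroup Ω} {M : FusionSystem U} (h : WNrm E F p) (h1 : E.IsSubsystemOf M)
    (h2 : M.IsSubsystemOf F) (hM : Sat M p) : WNrm E M p := by
  have := finite_of_le (subsystem_le h2)
  exact ⟨SInv.inv (fun P Q f ψ a b => h.sinv P Q f ψ a (b.sub h2)) hM h1 (SC.sub h.sc h2 (subsystem_le h1)), h.satE, hM⟩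

namespace IH
variable (h : IH F E₁ E₂ p D₁ D₂)
include h

theorem sat : Sat F p := h.n1.satF
theorem sc : F.StronglyClosed (T₁ ⊓ T₂) := SC.inf h.n1.sc h.n2.sc

theorem tr {α : MulAut P} {β : MulAut Q} (i : Iso F P Q f) (e : ∀ x ∈ P, ap β (f x) = f (ap α x))
    (a : BB D₁ D₂ p P α) : BB D₁ D₂ p Q β := by
  refine ⟨(mem_autGroup i.le').1 (h.g1.pinv h.n1.toInv h.sat i e a.m1.mem_autGroup a.cop),
    (mem_autGroup i.le').1 (h.g2.pinv h.n2.toInv h.sat i e a.m2.mem_autGroup a.cop), ?_⟩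
  obtain ⟨τ, hτ⟩ := exists_tr i
  rw [← hτ.eq i e, MulEquiv.orderOf_eq]; exact a.cop

theorem pa {α : MulAut P} (a : BB D₁ D₂ p P α) : PA F (T₁ ⊓ T₂) p P α :=
  ⟨a.m1.sub h.g1.sub, a.cop, fun x hx => ⟨(h.g1.adm h.n1.toInv h.sat.pg a.m1.le a.m1.mem_autGroup a.cop).md x hx,
    (h.g2.adm h.n2.toInv h.sat.pg a.m1.le a.m2.mem_autGroup a.cop).md x hx⟩⟩

theorem up {β : MulAut W} (c : F.IsCentric Y) (l : Y ≤ W) (b1 : Mor F W (ap β)) (b2 : (orderOf β).Coprime p)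
    (m1 : Mor D₁ Y (ap β)) (m2 : Mor D₂ Y (ap β)) : BB D₁ D₂ p W β :=
  ⟨h.sat.mor_of_centric (h.g1.sat h.n1) (le_iff_sub.2 h.g1.sub) b1 l c m1,
    h.sat.mor_of_centric (h.g2.sat h.n2) (le_iff_sub.2 h.g2.sub) b1 l c m2, b2⟩

theorem upK {β : MulAut W} (fc : F.IsFullyCentralized U) (l : U ⊔ CI(S, U) ≤ W) (b1 : Mor F W (ap β))
    (b2 : (orderOf β).Coprime p) (k : InK (KB D₁ D₂ p U) (ap β)) : BB D₁ D₂ p W β := by
  obtain ⟨κ, k1, k2⟩ := k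
  have : KB D₁ D₂ p U ≤ D₁.autGroup _ ⊓ D₂.autGroup _ := (closure_le _).2 fun γ c =>
    ⟨c.1.m1.mem_autGroup, c.1.m2.mem_autGroup⟩
  have lV := l.trans b1.le
  exact h.up (centric_sup_cent fc) l b1 b2 (((mem_autGroup lV).1 (this k1).1).congr fun x hx => (k2 x hx).symm)
    (((mem_autGroup lV).1 (this k1).2).congr fun x hx => (k2 x hx).symm)

theorem conjV (hr : F.IsReceptive U) (i : Iso F U U f) {a b : Ω → Ω} (ha : ∀ x ∈ U, a x ∈ U)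
    (k : ∃ κ, BB D₁ D₂ p (U ⊔ CI(S, U)) κ ∧ ∀ x ∈ U, ap κ x = a x) (e : ∀ x ∈ U, b (f x) = f (a x)) :
    ∃ κ, BB D₁ D₂ p (U ⊔ CI(S, U)) κ ∧ ∀ x ∈ U, ap κ x = b x := by
  obtain ⟨l, l1, l2⟩ := exists_ext_V hr i
  obtain ⟨κ, c1, c2⟩ := k
  refine ⟨l * κ * l⁻¹, h.tr (iso_ap l1.le l1.mem_autGroup) (fun x _ => by rw [ap_mul, ap_mul, ap_inv_ap]) c1,
    fun y hy => ?_⟩
  obtain ⟨x, hx, rfl⟩ := i.surj hy
  rw [e x hx, ← l2 x hx, ap_mul, ap_mul, ap_inv_ap, c2 x hx, l2 _ (ha x hx)]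

theorem rig (c : TC F (T₁ ⊓ T₂) U) (fn : F.IsFullyNormalized U) : Rig F (T₁ ⊓ T₂) p U (KB D₁ D₂ p U) := by
  have := finite_of_le fn.1
  have lV := (sup_cent_le fn.1).trans (normalizerIn_le (S := S))
  have := aut_finite lV
  refine ⟨h.sat, h.sc, c, fn, fun κ k => ?_, fun l l1 l2 => mem_normalizer_of_finite fun κ k => ?_,
    fun W β l1 l2 b1 b2 k => (h.pa (h.upK (h.sat.fc fn) l1 b1 b2 k)).md⟩
  · have : KB D₁ D₂ p U ≤ F.autGroup _ ⊓ modA _ (T₁ ⊓ T₂) ⊓ Stb _ U := (closure_le _).2 fun γ c =>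
      ⟨⟨(h.pa c.1).mor.mem_autGroup, mem_modA.2 (h.pa c.1).md⟩, mem_Stb_of_finite le_sup_left c.2⟩
    exact ⟨(mem_autGroup lV).1 (this k).1.1, mem_modA.1 (this k).1.2, fun x hx => (mem_Stb.1 (this k).2 x).1 hx⟩
  · have s := mem_Stb_of_finite le_sup_left l2
    induction k using closure_induction with
    | mem γ c => exact subset_closure ⟨h.tr (iso_ap lV l1.mem_autGroup) (fun x _ => by
        rw [ap_mul, ap_mul, ap_inv_ap]) c.1, fun x hx => by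
          rw [ap_mul, ap_mul]; exact l2 _ (c.2 _ ((mem_Stb.1 (minv s) x).1 hx))⟩
    | one => simpa using one_mem _
    | mul a b _ _ ha hb => have := mmul ha hb; convert this using 1; group
    | inv a _ ha => have := minv ha; convert this using 1; group

theorem jup (c : TC F (T₁ ⊓ T₂) U) (fn : F.IsFullyNormalized U) : ∀ Y ≤ NI(S, U), F.IsCentric Y → U ≤ Y →
    ∀ β, BB D₁ D₂ p Y β → (∀ x ∈ U, ap β x ∈ U) → ∃ κ, BB D₁ D₂ p (U ⊔ CI(S, U)) κ ∧ ∀ x ∈ U, ap κ x = ap β x := by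
  have := finite_of_le fn.1
  obtain ⟨L, hL⟩ := exists_NS F fn.1
  refine down_ind _ _ fun Y₀ hY₀ ih c₀ l₀ β₀ b₀ u₀ => ?_
  obtain ⟨Y, k, j, fY⟩ := exists_fn L hY₀
  have i := j.sub (ns_sub hL)
  have kU := SC.im_eq (Nm.sc (ns_nm hL fn.1)) j.mor l₀
  have iU : Iso F U U k := ⟨i.mor.restrict l₀, kU⟩
  obtain ⟨τ, hτ⟩ := exists_tr i
  have b := h.tr i (hτ β₀) b₀
  have cY := centric_conj c₀ i.isConj
  have l : U ≤ Y := by rw [← kU, ← i.im_eq]; exact im_mono l₀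
  have u : ∀ x ∈ U, ap (τ β₀) x ∈ U := fun y hy => by
    obtain ⟨x, hx, rfl⟩ := iU.surj hy
    rw [hτ β₀ x (l₀ hx)]; exact iU.mem (u₀ x hx)
  obtain ⟨k', j1, j2, j3⟩ := iU.symm
  refine h.conjV (h.sat.rc' fn) j1 u ?_ fun y hy => by
    rw [← j2 _ (u₀ _ (j1.mem hy)), ← hτ β₀ _ (l₀ (j1.mem hy)), j3 y hy]
  generalize τ β₀ = β at *
  have a := h.pa b
  have eU := (a.mor.restrict l).im_eq_self u
  by_cases hc : CI(S, U) ≤ Y
  · have lV := sup_le l hc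
    obtain ⟨κ, -, k2, -⟩ := exists_res_aut lV a.mor.le a.mor.mem_autGroup (maps_sup_cent (a.mor.restrict lV) eU)
    exact ⟨κ, b.res' lV k2, fun x hx => k2 x (mem_sup_left hx)⟩
  obtain ⟨t, t1, t2, t3⟩ := exists_mem_normalizer_sup h.sat.pg a.mor.le centralizerIn_le
    (fun x hx => norm_inf (le_normalizer (fY.1 hx).1) (cent_norm _ (fY.1 hx).2)) hc
  have lR : CI(S, U) ⊓ NN(Y) ≤ NI(S, U) ⊓ NN(Y) := inf_le_inf_right _ centralizerIn_le_normalizerIn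
  obtain ⟨g, g1, g2⟩ := ns_extend h.sat h.sc fn hL (c.self h.sc.1) fY cY l a.mor a.md u lR fun x hx =>
    ⟨x, lR hx, by simpa using one_mem _, fun y hy => by
      rw [← hx.1.2 y hy, ← hx.1.2 _ (u y hy), mul_inv_cancel_right, mul_inv_cancel_right]⟩
  obtain ⟨γ, c1, c2, c3, -⟩ := exists_pprime_ext le_sup_left g1 (maps_of_sup g1.homOn
    (fun x hx => g2 x hx ▸ mem_sup_left (ap_mem β hx)) fun x hx => mem_sup_right ⟨by
      have := mem_CI_of_mor g1 (l.trans le_sup_left) (mem_sup_right hx) hx.1.2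
      rwa [im_congr fun x hx => g2 x (l hx), eU] at this, by
      have := g1.mem_normalizer le_sup_left (mem_sup_right hx) hx.2
      rwa [im_congr g2, im_ap] at this⟩) g2 a.cop
  obtain ⟨κ, k1, k2⟩ := ih _ (sup_le fY.1 (lR.trans inf_le_left)) (i.card_eq ▸ card_lt_of_lt' (lt_of_le_of_ne le_sup_left
    fun e => t2 (e ▸ mem_sup_right ⟨t1, t3⟩)) g1.le) (centric_mono cY le_sup_left g1.le) (l.trans le_sup_left) γ
    (h.up cY le_sup_left ((mem_autGroup g1.le).1 c1) c2 (b.m1.congr fun x hx => (c3 x hx).symm)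
      (b.m2.congr fun x hx => (c3 x hx).symm)) fun x hx => c3 x (l hx) ▸ u x hx
  exact ⟨κ, k1, fun x hx => (k2 x hx).trans (c3 x (l hx))⟩

theorem jfn {β : MulAut Y} (c : TC F (T₁ ⊓ T₂) U) (fn : F.IsFullyNormalized R) (k : F.IsConj U R)
    (cY : F.IsCentric Y) (l : U ≤ Y) (n : Y ≤ NN(U)) (b : BB D₁ D₂ p Y β) (u : ∀ x ∈ U, ap β x ∈ U) :
    ∃ ψ, Iso F U R ψ ∧ ∃ κ, BB D₁ D₂ p (R ⊔ CI(S, R)) κ ∧ ∀ x ∈ U, ap κ (ψ x) = ψ (ap β x) := by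
  obtain ⟨ψ, g1, rfl⟩ := h.sat.nmap fn k
  have lY : Y ≤ NI(S, U) := le_inf cY.1 n
  have i := Mor.iso' g1 lY
  have iU := Mor.iso' i.mor l
  obtain ⟨τ, hτ⟩ := exists_tr i
  obtain ⟨κ, k1, k2⟩ := h.jup (c.conj h.sc k) fn _ (im_le.2 fun x hx => mem_NI_of_mor i.mor l hx (n hx))
    (centric_conj cY i.isConj) (im_mono l) _ (h.tr i (hτ β) b) fun y hy => by
      obtain ⟨x, hx, rfl⟩ := iU.surj hy
      rw [hτ β x (l hx)]; exact iU.mem (u x hx)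
  exact ⟨ψ, iU, κ, k1, fun x hx => by rw [k2 _ (iU.mem hx), hτ β x (l hx)]⟩

theorem jn : ∀ U ≤ T₁ ⊓ T₂, TC F (T₁ ⊓ T₂) U → ∀ (Y : Subgroup Ω) (β : MulAut Y), F.IsCentric Y → U ≤ Y →
    BB D₁ D₂ p Y β → (∀ x ∈ U, ap β x ∈ U) → ∃ (φ : Ω → Ω) (Y' : Subgroup Ω) (β' : MulAut Y'), Mor F U φ ∧
      F.IsCentric Y' ∧ im U φ ≤ Y' ∧ Y' ≤ NN(im U φ) ∧ BB D₁ D₂ p Y' β' ∧ ∀ x ∈ U, ap β' (φ x) = φ (ap β x) := by
  have := finite_of_le h.sc.1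
  refine down_ind _ _ fun U hU ih c Y β cY l b u => ?_
  have := finite_of_le hU
  rcases (le_inf l hU).eq_or_lt with e | lt
  · refine ⟨_, Y, β, mor_id F (l.trans cY.1), cY, (im_id U).le.trans l, ?_, b, fun _ _ => rfl⟩
    rw [im_id, e]
    exact fun x hx => norm_inf (le_normalizer hx) (SC.norm h.sc (cY.1 hx))
  have lt' := lt_NI_inf h.sat.pg h.sc.1 lt cY.1
  have a := h.pa b
  have lR : NI(Y, U) ⊓ (T₁ ⊓ T₂) ≤ Y := inf_le_left.trans normalizerIn_le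
  have cR := c.mono lt'.le inf_le_right
  have uR : ∀ x ∈ NI(Y, U) ⊓ (T₁ ⊓ T₂), ap β x ∈ NI(Y, U) ⊓ (T₁ ⊓ T₂) := fun x hx =>
    ⟨⟨ap_mem β hx.1.1, by
      have := a.mor.mem_normalizer l hx.1.1 hx.1.2
      rwa [(a.mor.restrict l).im_eq_self u] at this⟩, SC.mem h.sc a.mor hx.1.1 hx.2⟩
  obtain ⟨φ, Y', β', a1, a2, a3, a4, a5, a6⟩ := ih _ inf_le_right (card_lt_of_lt' lt' inf_le_right) cR Y β cY lR b uR
  obtain ⟨R, f, j, fR⟩ := exists_fn F a1.im_le_S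
  obtain ⟨ψ, i, κ, k1, k2⟩ := h.jfn (cR.im h.sc a1) fR j.isConj a2 a3 a4 a5 fun y hy => by
    obtain ⟨x, hx, rfl⟩ := a1.mem_im.1 hy
    rw [a6 x hx]; exact mem_im_of_mem _ (uR x hx)
  have i' := a1.iso.comp i
  refine ⟨_, _, κ, i'.mor.restrict lt'.le, centric_sup_cent (h.sat.fc fR),
    im_le.2 fun x hx => mem_sup_left (i'.mem (lt'.le hx)), sup_le (fun y hy => ?_) fun y hy => ?_, k1, fun x hx => ?_⟩
  · obtain ⟨x, hx, rfl⟩ := i'.surj hy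
    exact i'.mor.mem_normalizer lt'.le hx hx.1.2
  · exact centralizer_le_normalizer _ (centralizer_le (im_le.2 fun x hx => i'.mem (lt'.le hx)) hy.2)
  · rw [k2 _ (mem_im_of_mem _ (lt'.le hx)), a6 x (lt'.le hx)]

theorem j2k (c : TC F (T₁ ⊓ T₂) U) (fn : F.IsFullyNormalized U) (u : ∀ x ∈ U, f x ∈ U) (j : JJ F D₁ D₂ p U f) :
    ∃ κ ∈ KB D₁ D₂ p U, ∀ x ∈ U, ap κ x = f x := by
  obtain ⟨φ, Y, β, a, b, l, d, k⟩ := j
  have u1 : ∀ y ∈ im U φ, ap β y ∈ im U φ := fun y hy => by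
    obtain ⟨x, hx, rfl⟩ := a.mem_im.1 hy
    rw [k x hx]; exact mem_im_of_mem _ (u x hx)
  have c1 := c.im h.sc a
  obtain ⟨χ, Y', β', a1, a2, a3, a4, a5, a6⟩ := h.jn _ c1.1 c1 Y β b l d u1
  have i0 := a.iso.comp a1.iso
  obtain ⟨ψ, i, κ, k1, k2⟩ := h.jfn (c1.im h.sc a1) fn (isConj_symm i0.isConj) a2 a3 a4 a5 fun y hy => by
    obtain ⟨x, hx, rfl⟩ := a1.mem_im.1 hy
    rw [a6 x hx]; exact mem_im_of_mem _ (u1 x hx)
  have i1 := i0.comp i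
  have e : ∀ x ∈ U, ap κ (ψ (χ (φ x))) = ψ (χ (φ (f x))) := fun x hx => by
    rw [k2 _ (i0.mem hx), a6 _ (mem_im_of_mem _ hx), k x hx]
  obtain ⟨m, j1, j2, j3⟩ := i1.symm
  obtain ⟨κ', k3, k4⟩ := h.conjV (b := f) (h.sat.rc' fn) j1 (fun y hy => by
    obtain ⟨x, hx, rfl⟩ := i1.surj hy
    rw [e x hx]; exact i1.mem (u x hx)) ⟨κ, k1, fun _ _ => rfl⟩ fun y hy => by
      obtain ⟨x, hx, rfl⟩ := i1.surj hy
      rw [e x hx, j2 x hx, j2 _ (u x hx)]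
  exact ⟨κ', subset_closure ⟨k3, fun x hx => k4 x hx ▸ u x hx⟩, k4⟩

theorem gh : GH F (T₁ ⊓ T₂) ⊥ p fun P α => PA F (T₁ ⊓ T₂) p P α ∧ JJ F D₁ D₂ p (P ⊓ (T₁ ⊓ T₂)) (ap α) := by
  refine ⟨h.sat, h.sc, cn_bot, bot_le, fun _ _ a => a.1, fun P Q f α β i e a => ⟨a.1.tr h.sc i e, ?_⟩,
    fun P R α β a l1 l2 e => ⟨a.1.res' l1 e, a.2.mono (inf_le_inf_right _ l1) fun x hx => (e x hx.1).symm⟩,
    fun U c fn => (h.rig c.tc fn).loc (fun P α β l1 l2 b k e => ⟨b.res' le_sup_left fun x hx => (e x hx).symm, _, _, β,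
      mor_id F (inf_le_right.trans h.sc.1), centric_mono (centric_sup_cent (h.sat.fc fn)) le_sup_right b.mor.le,
      (im_id _).le.trans (inf_le_left.trans le_sup_left), h.upK (h.sat.fc fn) le_sup_right b.mor b.cop k,
      fun x hx => e x hx.1⟩) fun P α l1 l2 a u => ⟨a.1, h.j2k c.tc fn u (a.2.mono (le_inf l1 c.2.1) fun _ _ => rfl)⟩,
    fun P hP => ?_⟩
  · obtain ⟨φ, Y, γ, a1, a2, a3, a4, a5⟩ := a.2
    have i0 : Iso F (P ⊓ (T₁ ⊓ T₂)) (Q ⊓ (T₁ ⊓ T₂)) f := ⟨i.mor.restrict inf_le_left, by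
      rw [SC.im_inf h.sc i.mor, i.im_eq]⟩
    obtain ⟨f', j1, j2, -⟩ := i0.symm
    refine ⟨_, Y, γ, j1.mor.comp a1 fun x => j1.mem, a2, im_le.2 fun x hx => a3 (mem_im_of_mem _ (j1.mem hx)), a4, fun y hy => ?_⟩
    obtain ⟨x, hx, rfl⟩ := i0.surj hy
    rw [e x hx.1, j2 x hx, j2 _ ⟨ap_mem α hx.1, SC.mem h.sc a.1.mor hx.1 hx.2⟩, a5 x hx]
  · have := aut_finite hP.le
    have key : ∀ {T : Subgroup Ω} {E : FusionSystem T}, Nrm E F p → F.autGroup P ≤ NN(KR P (E.autGroup (P ⊓ T))) :=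
      fun {T E} hE l hl => by
      have := finite_of_le hE.le
      refine mem_normalizer_of_finite fun β hβ => ?_
      obtain ⟨b, b1, b2⟩ := mem_KR.1 hβ
      obtain ⟨l', l1, l2, -⟩ := exists_res_aut (Q := P ⊓ T) inf_le_left hP.le hl fun x hx =>
        ⟨ap_mem _ hx.1, SC.mem hE.sc ((mem_autGroup hP.le).1 hl) hx.1 hx.2⟩
      refine mem_KR.2 ⟨_, hE.sinv.aut_conj hE.sub inf_le_right l1 b1, fun x hx => ?_⟩
      obtain ⟨y, hy, rfl⟩ := (iso_ap (inf_le_left.trans hP.le) l1).surj hx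
      rw [ap_mul, ap_mul, ap_mul, ap_mul, ap_inv_ap, l2 y hy, ap_inv_ap, b2 y hy, l2 _ (ap_mem b hy)]
    have key2 : ∀ {T : Subgroup Ω} {E : FusionSystem T}, ∀ t ∈ T, t ∈ NN(P) → cj P t ∈ KR P (E.autGroup (P ⊓ T)) :=
      fun t a b => (cj_mem_KR inf_le_left b).2 ⟨norm_inf b (le_normalizer a), cj_mem_autGroup _ inf_le_right a⟩
    have key3 : ∀ {T : Subgroup Ω} {E : FusionSystem T} {D : FusionSystem S}, Nrm E F p → GES F E p D →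
        ∀ β, PA F T p P β → β ∈ KR P (E.autGroup (P ⊓ T)) → Mor D P (ap β) := fun hE hD β a b => by
      obtain ⟨γ, b3, b4⟩ := mem_KR.1 b
      exact hD.gen P β (tc_of_cr h.sat hE.sc hP.centric (hP.rad h.sat)) ⟨a.mor, a.cop, a.md,
        ((mem_autGroup inf_le_right).1 b3).congr fun x hx => (b4 x hx).symm⟩
    refine ⟨modA P (T₁ ⊓ T₂) ⊓ (KR P (E₁.autGroup (P ⊓ T₁)) ⊓ KR P (E₂.autGroup (P ⊓ T₂))), fun l hl =>
      norm_inf (modA_norm h.sc hP.le hl) (norm_inf (key h.n1 hl) (key h.n2 hl)), fun t a b =>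
      ⟨cj_mem_modA (hP.le.trans (SC.norm h.sc)) a b, key2 t a.1 b, key2 t a.2 b⟩, fun β b c => ?_⟩
    have m := (mem_autGroup hP.le).1 b.1
    have md := mem_modA.1 b.2.1
    exact ⟨⟨m, c, md⟩, _, P, β, mor_id F (inf_le_left.trans hP.le), hP.centric, (im_id _).le.trans inf_le_left,
      ⟨key3 h.n1 h.g1 β ⟨m, c, fun x hx => (md x hx).1⟩ b.2.2.1,
        key3 h.n2 h.g2 β ⟨m, c, fun x hx => (md x hx).2⟩ b.2.2.2, c⟩, fun _ _ => rfl⟩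

theorem bb {α : MulAut P} (c : TC F (T₁ ⊓ T₂) (P ⊓ (T₁ ⊓ T₂))) (a : PA F (T₁ ⊓ T₂) p P α)
    (j : JJ F D₁ D₂ p (P ⊓ (T₁ ⊓ T₂)) (ap α)) : BB D₁ D₂ p P α := by
  obtain ⟨φ, f1, f2⟩ := h.sat.exists_fn_nmap (c.1.trans h.sc.1)
  have l1 : P ≤ NI(S, P ⊓ (T₁ ⊓ T₂)) := fun x hx =>
    ⟨a.mor.le hx, norm_inf (le_normalizer hx) (SC.norm h.sc (a.mor.le hx))⟩
  have i := Mor.iso' f1 l1
  have e := SC.im_inf h.sc i.mor
  obtain ⟨τ, hτ⟩ := exists_tr i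
  obtain ⟨a', j'⟩ := h.gh.tr _ _ _ _ _ i (hτ α) ⟨a, j⟩
  have c' := c.im h.sc (i.mor.restrict inf_le_left)
  rw [e] at f2 c'
  obtain ⟨β, b1, b2, z, z1, z2⟩ := (h.rig c' f2).ext' inf_le_left (fun x hx => ⟨i.le' hx,
    norm_inf (le_normalizer hx) (SC.norm h.sc (i.le' hx))⟩) a'
    (h.j2k c' f2 (fun x hx => ⟨ap_mem _ hx.1, SC.mem h.sc a'.mor hx.1 hx.2⟩) j')
  have b := h.upK (h.sat.fc f2) le_sup_right b1.mor b1.cop b2
  obtain ⟨φ', j1, j2, j3⟩ := i.symm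
  refine h.tr j1 (α := τ α) (fun y hy => ?_) ⟨((mor_conj D₁ i.le' (i.le' z1.1)).comp b.m1 fun x hx =>
    mem_sup_left (mconj z1.1 hx)).congr fun x hx => (z2 x hx).symm, ((mor_conj D₂ i.le' (i.le' z1.1)).comp b.m2
      fun x hx => mem_sup_left (mconj z1.1 hx)).congr fun x hx => (z2 x hx).symm, a'.cop⟩
  obtain ⟨x, hx, rfl⟩ := i.surj hy
  rw [hτ α x hx, j2 x hx, j2 _ (ap_mem α hx)]

end IH

theorem GES.nrm_of_le {T₀ : Subgroup Ω} {E₀ : FusionSystem T₀} (hD : GES F E p D₁) (hE : Nrm E F p) (sD : Sat D p)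
    (l : D.IsSubsystemOf D₁) (h1 : Nrm E₀ F p) (h2 : PPI E₀ D p) (hT : T₀ ≤ T) : Nrm E₀ E p := by
  have := finite_of_le hE.le
  have := finite_of_le h1.le
  have sc := SC.sub h1.sc (sub_trans l hD.sub) h1.le
  refine (h1.toWNrm.mid ((hD.ppi hE.toWNrm).sub_of h1.sat (sub_trans h2.sub l) hT) hE.sub hE.sat).nrm_of fun α a b _ => ?_
  obtain ⟨β, ⟨b1, b2⟩, b3, b4⟩ := extG_aut' sc le_rfl (extG_mono h2.hyp (mem_extG_hyp
    (sD.rc' (fn_of_normal h1.le (SC.norm h1.sc))) (autGroup_mono h2.sub le_rfl a) b)) b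
  have lW : T₀ ⊔ CI(S, T₀) ≤ S := sup_le h1.le centralizerIn_le
  have l1 : CI(T, T₀) ≤ T₀ ⊔ CI(S, T₀) := (inf_le_inf_right _ hE.le).trans le_sup_right
  exact ⟨_, (hD.adm hE.toInv hE.satF.pg lW (autGroup_mono l lW b1) b3).mE.restrict (le_inf (sup_le le_sup_left l1)
    (sup_le hT centralizerIn_le)), b4, fun c hc => mem_modA.1 b2 c (l1 hc)⟩

theorem GES.adm_up {T₀ : Subgroup Ω} {E₀ : FusionSystem T₀} (hD : GES F E p D) (hE : Nrm E F p) (h1 : Nrm E₀ F p)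
    (h2 : Nrm E₀ E p) (c : TC F T₀ U) (fc : F.IsFullyCentralized U) {α : MulAut U} (a1 : α ∈ E₀.autGroup U)
    (a2 : (orderOf α).Coprime p) {β : MulAut ↥(U ⊔ CI(S, U))} (b : Adm F E₀ p _ β) (e : ∀ x ∈ U, ap β x = ap α x) :
    Mor D (U ⊔ CI(S, U)) (ap β) := by
  have := finite_of_le hE.le
  have lU := c.1.trans h2.le
  obtain ⟨γ, c1, c2⟩ := h2.adm_ext (h2.centric_iff.1 (h1.centric_iff.2 c)) a1 a2
  have lW : U ⊔ CI(T, U) ≤ U ⊔ CI(S, U) := sup_le_sup_left (inf_le_inf_right _ hE.le) _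
  obtain ⟨β', b1, b2⟩ := b.res' lW ((inf_sup_cent_eq c h1.le centralizerIn_le_centralizer).le.trans le_sup_left)
  obtain ⟨z, z1, z2⟩ := h1.uq c le_sup_left (sup_le le_normalizer (centralizerIn_le_normalizerIn.trans
    normalizerIn_le_normalizer)) b1 ⟨c1.mor.sub hE.sub, c1.cop, c1.md, c1.mE⟩
    (fun x hx => by rw [b2 x (mem_sup_left hx), e x hx]; exact ap_mem α hx)
    fun x hx => by rw [b2 x (mem_sup_left hx), e x hx, c2 x hx]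
  have l : (U ⊔ CI(S, U)) ⊓ T ≤ U ⊔ CI(T, U) := fun x hx => by
    obtain ⟨u, hu, c, hc, rfl⟩ := (mem_sup_cent centralizerIn_le_centralizer).1 hx.1
    exact mmul (mem_sup_left hu) (mem_sup_right ⟨by simpa using mmul (minv (lU hu)) hx.2, hc.2⟩)
  exact hD.gen _ β ((hE.centric_iff.1 (centric_sup_cent (hE.satF.fc_sub hE.sc hE.sub lU fc))).mono
    (le_inf lW c1.mor.le) inf_le_right) ⟨b.mor, b.cop, fun x hx => h2.le (b.md x hx),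
    (((mor_conj E c1.mor.le (lU z1.1)).comp c1.mor fun x hx => mconj (mem_sup_left z1.1) hx).congr
      fun x hx => (z2 x hx).symm.trans (b2 x hx)).restrict l⟩

theorem exists_inter (h1 : Nrm E₁ F p) (h2 : Nrm E₂ F p) : ∃ E₀ : FusionSystem (T₁ ⊓ T₂), Nrm E₀ F p ∧ Nrm E₀ E₁ p ∧
    Nrm E₀ E₂ p ∧ ∀ D' : FusionSystem (T₁ ⊓ T₂), Nrm D' F p → Nrm D' E₁ p → Nrm D' E₂ p → D'.IsSubsystemOf E₀ := by
  obtain ⟨D₁, g1⟩ := exists_ges F E₁ p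
  obtain ⟨D₂, g2⟩ := exists_ges F E₂ p
  have h : IH F E₁ E₂ p D₁ D₂ := ⟨h1, h2, g1, g2⟩
  obtain ⟨D, E₀, hD, sD, pp, n⟩ := h.gh.exists_nrm
  have := finite_of_le h.sc.1
  refine ⟨E₀, n, g1.nrm_of_le h1 sD (hD.min S D₁ le_rfl fun P α c a => (h.bb c.tc a.1 a.2).m1) n pp inf_le_left,
    g2.nrm_of_le h2 sD (hD.min S D₂ le_rfl fun P α c a => (h.bb c.tc a.1 a.2).m2) n pp inf_le_right,
    fun D' a b c => a.sat.sub_of le_rfl fun P hP α a1 a2 => ?_⟩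
  obtain ⟨U, φ, i, fn⟩ := exists_fn F (hP.le.trans h.sc.1)
  obtain ⟨τ, hτ⟩ := exists_tr i
  have t := (a.centric_iff.1 hP.centric).conj h.sc i.isConj
  have b1 := (a.sinv.tr h.sc hP.le i hτ).2 a1
  have b2 : (orderOf (τ α)).Coprime p := by rwa [MulEquiv.orderOf_eq]
  obtain ⟨β, c1, c2⟩ := a.adm_ext t b1 b2
  have fc := h.sat.fc fn
  obtain ⟨φ', j1, j2, j3⟩ := i.symm
  refine (mem_autGroup hP.le).1 (pp.aut P hP.le α (hD.pinv h.gh j1 (α := τ α) (fun y hy => ?_)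
    (hD.gen U _ (tz_bot (by rwa [inf_of_le_left t.1])) ⟨⟨((mem_autGroup t.1).1 b1).sub a.sub, b2,
      fun x hx => t.1 (mmul (minv hx) (ap_mem _ hx))⟩, _, _, β, mor_id F (inf_le_left.trans fn.1), centric_sup_cent fc,
      (im_id _).le.trans (inf_le_left.trans le_sup_left), ⟨g1.adm_up h1 a b t fc b1 b2 c1 c2,
        g2.adm_up h2 a c t fc b1 b2 c1 c2, c1.cop⟩, fun x hx => c2 x hx.1⟩).mem_autGroup b2) a2)
  obtain ⟨x, hx, rfl⟩ := i.surj hy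
  rw [hτ α x hx, j2 x hx, j2 _ (ap_mem α hx)]

end CfsgFS
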