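import Cfsg.Agent.FS.Inter

/-! Lifting normal subsystems along central quotients. -/

set_option autoImplicit false
set_option linter.unusedSectionVars false

namespace CfsgFS

open Subgroup Cfsg Cfsg.FusionSystem CfsgH9
open CfsgH2 (resIn)
open scoped commutatorElement

variable {p : ℕ} {Ω Ω' : Type*} [Group Ω] [Group Ω'] {S T : Subgroup Ω} {S' T' : Subgroup Ω'} {F : FusionSystem S}
  {F' : FusionSystem S'} {E' : FusionSystem T'} {θ : Ω → Ω'} {P Q R U W : Subgroup Ω} {f g : Ω → Ω}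

/-- automorphisms inducing a map of `E'` on the image of `R` -/
def LK (E' : FusionSystem T') (θ : Ω → Ω') (P R : Subgroup Ω) : Subgroup (MulAut P) where
  carrier := {α | α ∈ Stb P R ∧ ∃ b ∈ E'.autGroup (im R θ), ∀ x ∈ R, ap b (θ x) = θ (ap α x)}
  one_mem' := ⟨one_mem _, 1, one_mem _, fun x _ => by rw [ap_one, ap_one]⟩
  mul_mem' := fun {α β} ⟨a, b, b1, b2⟩ ⟨a', c, c1, c2⟩ => ⟨mmul a a', _, mmul b1 c1, fun x hx => by
    rw [ap_mul, ap_mul, c2 x hx, b2 _ ((mem_Stb.1 a' x).1 hx)]⟩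
  inv_mem' := fun {α} ⟨a, b, b1, b2⟩ => ⟨minv a, _, minv b1, fun x hx => by
    rw [← ap_ap_inv α x, ← b2 _ ((mem_Stb.1 (minv a) x).1 hx), ap_inv_ap, ap_inv_ap]⟩

theorem mem_LK_of [Finite R] (hθ : HomOn R θ) (l : R ≤ P) {α : MulAut P} (m : ∀ x ∈ R, ap α x ∈ R) {k : Ω' → Ω'}
    (hk : Mor E' (im R θ) k) (e : ∀ x ∈ R, k (θ x) = θ (ap α x)) : α ∈ LK E' θ P R := by
  have := HomOn.fin hθ
  obtain ⟨b, b1, b2⟩ := (hk.iso_self fun y hy => by
    obtain ⟨x, hx, rfl⟩ := hθ.mem_im.1 hy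
    rw [e x hx]; exact mem_im_of_mem _ (m x hx)).exists_aut
  exact ⟨mem_Stb_of_finite l m, b, b1, fun x hx => (b2 _ (mem_im_of_mem _ hx)).trans (e x hx)⟩

theorem LK.congr {α : MulAut P} {β : MulAut Q} (h : α ∈ LK E' θ P R) [Finite R] (l : R ≤ Q)
    (e : ∀ x ∈ R, ap β x = ap α x) : β ∈ LK E' θ Q R :=
  let ⟨a, b, b1, b2⟩ := h
  ⟨mem_Stb_of_finite l fun x hx => e x hx ▸ (mem_Stb.1 a x).1 hx, b, b1, fun x hx => e x hx ▸ b2 x hx⟩

variable [Finite S] [Fact p.Prime]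

theorem rec_ext1 (hT : F.StronglyClosed T) (hr : F.IsReceptive U) {α : MulAut U} (hα : α ∈ F.autGroup U) {t : Ω}
    (h1 : t ∈ T) (h2 : t ∈ NN(U)) (h3 : α * cj U t * α⁻¹ ∈ AS(S, U)) :
    ∃ s ∈ T, s ∈ NN(U) ∧ α * cj U t * α⁻¹ = cj U s := by
  obtain ⟨g, g1, g2⟩ := (iso_ap hr.1 hα).extend hr (R := NK S (AS(S, U).comap (MulAut.conj α).toMonoidHom)) NK_le_NI
    fun a ha => by
      obtain ⟨s, s1, s2⟩ := mem_autInducedBy.1 (show α * cj U a * α⁻¹ ∈ AS(S, U) from (mem_NK.1 ha).2.2)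
      exact ⟨s, s1, fun x hx => by
        rw [← s2 _ (ap_mem α hx), ap_mul, ap_mul, ap_inv_ap, ap_cj (mem_NK.1 ha).2.1 hx]⟩
  have m : t ∈ U ⊔ NK S (AS(S, U).comap (MulAut.conj α).toMonoidHom) := mem_sup_right (mem_NK.2 ⟨hT.1 h1, h2, h3⟩)
  refine ⟨g t, SC.mem hT g1 m h1, ?_, conj_cj h2 fun x hx => ?_⟩
  · have := g1.mem_normalizer le_sup_left m h2
    rwa [im_congr g2, im_ap] at this
  · rw [← g2 _ (conj_mem_of_mem_normalizer h2 hx), g1.map_conj m (mem_sup_left hx), g2 x hx]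

theorem FSurj.fn (h : FSurj F F' θ) (hF : Sat F p) (l : pre S θ ⊥ ≤ U) (fn : F.IsFullyNormalized U) :
    F'.IsFullyNormalized (im U θ) := by
  have := h.fin
  refine ⟨h.im_le fn.1, fun Q' hQ => ?_⟩
  obtain ⟨k, i⟩ := isConj_iff.1 hQ
  obtain ⟨f, j, -⟩ := h.lift_iso i
  rw [pre_im' h.hom fn.1 l] at j
  obtain ⟨φ, f1, f2⟩ := hF.nmap fn (isConj_symm j.isConj)
  obtain ⟨m, m1, m2⟩ := h.map _ _ f1
  rw [im_NI_of_ker h.hom h.surj j.le' ker_le_pre, h.im_pre i.le'] at m1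
  have := card_NI_le m1 (le_normalizerIn i.le') le_rfl
  rwa [← h.im_pre i.le', HomOn.im_im' (h.hom.mono pre_le), im_congr (g := fun x => θ (φ x)) fun x hx =>
    m2 x (le_normalizerIn j.le' hx), ← HomOn.im_im' (f1.homOn.mono (le_normalizerIn j.le')), f2,
    h.im_pre i.le'] at this

structure LH (F : FusionSystem S) (F' : FusionSystem S') (E' : FusionSystem T') (θ : Ω → Ω') (p : ℕ) : Prop where
  sat : Sat F p
  sur : FSurj F F' θ
  cn : F.IsCentral (pre S θ ⊥)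
  nrm : Nrm E' F' p

namespace LH
variable (h : LH F F' E' θ p)
include h

theorem sc : F.StronglyClosed (pre S θ T') := h.sur.sc_pre h.nrm.sc
theorem hom (l : P ≤ S) : HomOn P θ := h.sur.hom.mono l
theorem imT (l : U ≤ pre S θ T') : im U θ ≤ T' := (im_mono l).trans (im_pre_le h.sur.hom)

theorem tc (c : TZ F (pre S θ T') (pre S θ ⊥) U) : TC F' T' (im U θ) := ⟨h.imT c.2.1, fun Q' hQ t' ht => by
  obtain ⟨k, i⟩ := isConj_iff.1 hQ
  obtain ⟨f, j, -⟩ := h.sur.lift_iso i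
  rw [pre_im' h.sur.hom (c.2.1.trans pre_le) c.1] at j
  obtain ⟨t, t1, rfl⟩ := h.sur.ex' h.nrm.le ht.1
  have := finite_of_le j.le'
  refine ((mem_pre h.sur.hom).1 (c.2.2 _ j.isConj ((mem_XZ ker_le_pre).2 ⟨t1, fun u hu => ?_⟩))).2
  rw [inv_mul_mem_ker h.sur.hom (pre_le hu) (mconj (pre_le t1) (pre_le hu)), h.sur.hom.conj (pre_le t1) (pre_le hu),
    ← ht.2 _ ((mem_pre h.sur.hom).1 hu).2, mul_inv_cancel_right]⟩

theorem tr (i : Iso F P Q f) (l : R ≤ P) (lT : R ≤ pre S θ T') {α : MulAut P} {β : MulAut Q}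
    (e : ∀ x ∈ P, ap β (f x) = f (ap α x)) (a : α ∈ LK E' θ P R) : β ∈ LK E' θ Q (im R f) := by
  obtain ⟨s, b, b1, b2⟩ := a
  have iR := Mor.iso' i.mor l
  have := finite_of_le iR.le'
  obtain ⟨k, j, k2⟩ := h.sur.iso iR
  have m := fun x hx => (mem_Stb.1 s x).1 hx
  obtain ⟨g, g1, g2⟩ := h.nrm.sinv _ _ _ k ((mem_autGroup (h.imT lT)).1 b1) j.mor (h.imT lT) le_rfl fun x => ap_mem b
  rw [j.im_eq] at g1
  refine mem_LK_of (h.hom iR.le') (i.im_eq ▸ im_mono l) (fun y hy => ?_) g1 fun y hy => ?_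
  all_goals obtain ⟨x, hx, rfl⟩ := iR.surj hy
  · rw [e x (l hx)]; exact iR.mem (m x hx)
  · rw [← k2 x hx, g2 _ (mem_im_of_mem _ hx), b2 x hx, k2 _ (m x hx), e x (l hx)]

theorem norm (hP : P ≤ S) (l : R ≤ P) (lT : R ≤ pre S θ T') {γ : MulAut P} (c : γ ∈ F.autGroup P)
    (m : ∀ x ∈ R, ap γ x ∈ R) : γ ∈ NN(LK E' θ P R) := by
  have := aut_finite hP
  have := finite_of_le (l.trans hP)
  refine mem_normalizer_of_finite fun α a => ?_
  have := h.tr (iso_ap hP c) l lT (β := γ * α * γ⁻¹) (fun x _ => by rw [ap_mul, ap_mul, ap_inv_ap]) a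
  rwa [(((mem_autGroup hP).1 c).restrict l).im_eq_self m] at this

theorem cj_mem (hP : P ≤ S) (l : R ≤ P) (lT : R ≤ pre S θ T') {t : Ω} (h1 : t ∈ pre S θ T') (h2 : t ∈ NN(P))
    (h3 : t ∈ NN(R)) : cj P t ∈ LK E' θ P R := by
  have := finite_of_le (l.trans hP)
  exact mem_LK_of (h.hom (l.trans hP)) l (fun x hx => by rw [ap_cj h2 (l hx)]; exact conj_mem_of_mem_normalizer h3 hx)
    (mor_conj E' (h.imT lT) ((mem_pre h.sur.hom).1 h1).2) fun x hx => by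
      rw [ap_cj h2 (l hx), h.sur.hom.conj (pre_le h1) (hP (l hx))]

theorem normW (l : pre S θ ⊥ ≤ U) (hU : U ≤ S) : NI(S, U) ≤ NN(pre S θ (im U θ ⊔ CI(S', im U θ))) := fun x hx =>
  ((pre_NI h.sur.hom h.sur.surj (sup_le (h.sur.im_le hU) centralizerIn_le)).le (mem_pre_of hx.1 ⟨h.sur.mem x hx.1,
    sup_cent_norm (S := S') ⟨h.sur.mem x hx.1, HomOn.norm h.sur.hom hU hx.1 hx.2⟩⟩)).2

theorem W_le (l : pre S θ ⊥ ≤ U) (hU : U ≤ S) : pre S θ (im U θ ⊔ CI(S', im U θ)) ≤ NI(S, U) := by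
  have := pre_NI h.sur.hom h.sur.surj (h.sur.im_le hU)
  rw [pre_im' h.sur.hom hU l] at this
  exact this ▸ pre_mono (sup_cent_le (h.sur.im_le hU))

theorem le_W (hU : U ≤ S) : U ⊔ CI(S, U) ≤ pre S θ (im U θ ⊔ CI(S', im U θ)) :=
  sup_le (le_pre hU le_sup_left) fun x hx => mem_pre_of hx.1 (mem_sup_right
    ⟨h.sur.mem x hx.1, HomOn.cent h.sur.hom hU hx.1 hx.2⟩)

theorem ext (c : TZ F (pre S θ T') (pre S θ ⊥) U) (fn : F.IsFullyNormalized U) {α : MulAut U} (a1 : α ∈ F.autGroup U)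
    (a2 : (orderOf α).Coprime p) (a3 : α ∈ LK E' θ U U) : ∃ β ∈ F.autGroup (pre S θ (im U θ ⊔ CI(S', im U θ))),
      (∀ x ∈ pre S θ (im U θ ⊔ CI(S', im U θ)), x⁻¹ * ap β x ∈ U) ∧ ∀ x ∈ U, ap β x = ap α x := by
  have := h.sur.fin
  have := finite_of_le fn.1
  have := aut_finite fn.1
  have hθ := h.sur.hom
  have c' := h.tc c
  have lW := h.W_le c.1 fn.1
  have lU := le_sup_left.trans (h.le_W fn.1)
  obtain ⟨-, b, b1, b2⟩ := a3
  obtain ⟨b', -, b3, b4⟩ := h.sur.aut' fn.1 a1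
  obtain rfl : b' = b := ap_ext fun y hy => by
    obtain ⟨x, hx, rfl⟩ := (h.hom fn.1).mem_im.1 hy
    rw [b2 x hx, b4 x hx]
  obtain ⟨d, d1, d2⟩ := h.nrm.adm_ext c' b1 (a2.coprime_dvd_left b3)
  obtain ⟨β₀, e1, e2⟩ := h.sur.lift_aut d1.mor.le d1.mor.mem_autGroup
  have := aut_finite (lW.trans normalizerIn_le)
  obtain ⟨m, m1, m2⟩ := exists_pprime_part (p := p) β₀ d1.cop
  have e3 := ap_pow_tr e2 m
  rw [m1] at e3
  replace e1 := pow_mem e1 m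
  generalize β₀ ^ m = β at *
  have md : ∀ x ∈ pre S θ (im U θ ⊔ CI(S', im U θ)), x⁻¹ * ap β x ∈ U := fun x hx => by
    have x1 := mmul (minv hx) (ap_mem β hx)
    refine (pre_im' hθ fn.1 c.1).le (mem_pre_of (pre_le x1)
      ((inf_sup_cent_eq c' h.nrm.le centralizerIn_le_centralizer).le ⟨((mem_pre hθ).1 x1).2, ?_⟩))
    rw [hθ.mul (minv (pre_le hx)) (pre_le (ap_mem β hx)), hθ.inv (pre_le hx), ← e3 x hx]
    exact d1.md _ ((mem_pre hθ).1 hx).2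
  obtain ⟨γ, c1, c2, c3⟩ := exists_res_aut lU pre_le e1 fun x hx => by simpa using mmul hx (md x (lU hx))
  have x1 := mmul (minv c1) a1
  have x2 : ∀ x ∈ U, x⁻¹ * ap (γ⁻¹ * α) x ∈ pre S θ ⊥ := fun x hx => by
    rw [inv_mul_mem_ker hθ (fn.1 hx) (fn.1 (ap_mem _ hx))]
    refine ap_injective d ?_
    rw [e3 x (lU hx), e3 _ (lU (ap_mem _ hx)), ← c2 _ (ap_mem _ hx), ap_mul, ap_ap_inv, ← b2 x hx, ← e3 x (lU hx),
      d2 _ (mem_im_of_mem _ hx)]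
  have x3 : ∀ x ∈ U, x ∈ pre S θ ⊥ → ap (γ⁻¹ * α) x = x := fun x => Cn.fix h.cn ((mem_autGroup fn.1).1 x1)
  obtain ⟨s, s1, s2, s3⟩ := mem_autInducedBy'.1 (Syl.opIn_le (h.sat.syl fn)
    (mem_opIn_of_sc h.sat.pg h.sur.sc_ker fn.1 x1 x3 x2))
  have sW : s ∈ pre S θ (im U θ ⊔ CI(S', im U θ)) := mem_pre_of s1 (mem_sup_right ⟨h.sur.mem s s1, fun y hy => by
    obtain ⟨x, hx, rfl⟩ := (h.hom fn.1).mem_im.1 hy
    have := (inv_mul_mem_ker hθ (fn.1 hx) (fn.1 (ap_mem _ hx))).1 (x2 x hx)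
    rw [s3, ap_cj s2 hx, hθ.conj s1 (fn.1 hx)] at this
    exact (eq_mul_inv_iff_mul_eq.1 this)⟩)
  have mβ := (mem_autGroup pre_le).1 e1
  have nI : ∀ δ : MulAut U, δ ∈ NN(Inn U) := fun δ => mem_normalizer_of_finite fun _ => inn_conj
  have := finite_of_le h.cn.1
  obtain ⟨u, u1, u2⟩ := mem_inn.1 (mem_of_comm_mod (nI γ) (nI _) (by
    rw [s3, conj_cj s2 (h := ap β s) fun x hx => by
      rw [c2 _ (conj_mem_of_mem_normalizer s2 hx), mβ.map_conj sW (lU hx), c2 x hx], ← cj_inv s2,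
      ← cj_mul (lW (ap_mem β sW)).2 (minv s2)]
    refine cj_mem_inn ?_
    simpa [mul_assoc] using conj_mem_of_mem_normalizer s2 (md s sW)) (m2.coprime_dvd_left c3)
    (by rwa [mul_inv_cancel_left]) (pel_of_fix (h.sat.pg.to_le h.cn.1) x3 x2))
  have nu := le_normalizer (lU u1)
  refine ⟨β * cj _ u, mmul e1 (cj_mem_autGroup F pre_le (fn.1 u1)), fun x hx => ?_, fun x hx => ?_⟩
  · have := mmul (inv_mul_conj_mem (lW.trans normalizerIn_le_normalizer) u1 hx) (md _ (mconj (lU u1) hx))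
    rwa [mul_assoc, mul_inv_cancel_left, ← ap_cj nu hx, ← ap_mul] at this
  · rw [ap_mul, ap_cj nu (lU hx), ← u2 x hx, ← c2 _ (ap_mem _ hx), ap_mul, ap_ap_inv]

theorem rig (c : TZ F (pre S θ T') (pre S θ ⊥) U) (fn : F.IsFullyNormalized U) : Rig F (pre S θ T') p U
    (F.autGroup _ ⊓ modA _ (pre S θ T') ⊓ LK E' θ _ U) := by
  have := h.sur.fin
  have := finite_of_le fn.1
  have hθ := h.sur.hom
  have lV := (sup_cent_le fn.1).trans (normalizerIn_le (S := S))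
  have nT := SC.norm h.sc
  refine ⟨h.sat, h.sc, c.tc, fn, fun κ k => ⟨(mem_autGroup lV).1 k.1.1, mem_modA.1 k.1.2,
    fun x hx => (mem_Stb.1 k.2.1 x).1 hx⟩, fun l l1 l2 => norm_inf (norm_inf (le_normalizer l1.mem_autGroup)
      (modA_norm h.sc lV l1.mem_autGroup)) (h.norm lV le_sup_left c.2.1 l1.mem_autGroup l2), ?_⟩
  rintro W γ l1 l2 m o ⟨κ, ⟨⟨-, k2⟩, k3⟩, k4⟩ x hx
  have lU := le_sup_left.trans l1
  have gU : ∀ x ∈ U, ap γ x ∈ U := fun x hx => k4 x (mem_sup_left hx) ▸ (mem_Stb.1 k3.1 x).1 hx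
  obtain ⟨α, a1, a2, a3⟩ := exists_res_aut lU m.le m.mem_autGroup gU
  have a4 : α ∈ LK E' θ U U := LK.congr k3 le_rfl fun x hx => (a2 x hx).trans (k4 x (mem_sup_left hx))
  obtain ⟨β, b1, b2, b3⟩ := h.ext c fn a1 (o.coprime_dvd_left a3) a4
  have mβ := (mem_autGroup pre_le).1 b1
  have lW := h.W_le c.1 fn.1
  have lW' := h.le_W fn.1
  have l0 : NI(pre S θ T', U) ≤ NI(S, U) := inf_le_inf_right _ pre_le
  have cc : ∀ y ∈ W, α * cj U y * α⁻¹ = cj U (ap γ y) := fun y hy => conj_cj (l2 hy).2 fun x hx => by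
    rw [a2 _ (conj_mem_of_mem_normalizer (l2 hy).2 hx), m.map_conj hy (lU hx), a2 x hx]
  have pW := h.sat.pg.to_le m.le
  refine mem_of_coprime_mod (R := NI(pre S θ T', U) ⊔ CI(S, U)) pW o (fun y hy k => ?_) hx
    (mem_of_coprime_mod (R := NI(pre S θ T', U) ⊔ pre S θ (im U θ ⊔ CI(S', im U θ))) pW o (fun y hy k => ?_) hx ?_)
  · obtain ⟨t, t1, z, z1, rfl⟩ := (mem_sup_of_le_normalizer fun x hx =>
      norm_inf (le_normalizer (l0 hx).1) (cent_norm _ hx.2)).1 k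
    have zW := l1 (mem_sup_right z1)
    have tW : t ∈ W := by simpa using mmul hy (minv zW)
    have e1 := SC.mem h.sc m tW t1.1
    have e2 := mem_modA.1 k2 z (mem_sup_right z1)
    rw [← k4 z (mem_sup_right z1)] at e2
    have e3 : (t * z)⁻¹ * ap γ (t * z) ∈ pre S θ T' := by
      have := mmul (inv_conj_mem_of_mem_normalizer (nT z1.1) (mmul (minv t1.1) e1)) e2
      rw [m.mul tW zW]; convert this using 1; group
    refine ⟨?_, e3⟩
    simpa only [mul_inv_cancel_left] using mmul k (mem_sup_left ⟨e3, (l2 (mmul (minv hy) (ap_mem γ hy))).2⟩)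
  · suffices k' : y⁻¹ * ap γ y ∈ NI(pre S θ T', U) ⊔ CI(S, U) from
      ⟨by simpa using mmul k (sup_le_sup_left (le_sup_right.trans lW') _ k'), k'⟩
    obtain ⟨t, t1, w, w1, rfl⟩ := (mem_sup_of_le_normalizer (l0.trans (h.normW c.1 fn.1))).1 k
    have nw := (lW w1).2
    have nb := lW (ap_mem β w1)
    have ny := l2 (ap_mem γ hy)
    have e1 : α * cj U w * α⁻¹ = cj U (ap β w) := conj_cj nw fun x hx => by
      rw [← b3 _ (conj_mem_of_mem_normalizer nw hx), mβ.map_conj w1 (lW' (mem_sup_left hx)), b3 x hx]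
    have e2 : α * cj U t * α⁻¹ = cj U (ap γ (t * w) * (ap β w)⁻¹) := by
      rw [cj_mul ny.2 (minv nb.2), cj_inv nb.2, ← e1, ← cc _ hy, cj_mul t1.2 nw]; group
    obtain ⟨s, s1, s2, s3⟩ := rec_ext1 h.sc (h.sat.rc' fn) a1 t1.1 t1.2
      (e2 ▸ cj_mem_autInducedBy (mmul ny.1 (minv nb.1)))
    have e3 : s⁻¹ * (ap γ (t * w) * (ap β w)⁻¹) ∈ CI(S, U) := ⟨mmul (minv (pre_le s1)) (mmul ny.1 (minv nb.1)),
      (cj_eq_cj_iff (mmul ny.2 (minv nb.2)) s2).1 (e2.symm.trans s3)⟩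
    have e4 : w⁻¹ * (t⁻¹ * s) * w ∈ NI(pre S θ T', U) :=
      ⟨inv_conj_mem_of_mem_normalizer (nT (pre_le w1)) (mmul (minv t1.1) s1),
        mmul (mmul (minv nw) (mmul (minv t1.2) s2)) nw⟩
    have e5 := inv_conj_mem_of_mem_normalizer (norm_inf (le_normalizer nb.1) (cent_norm _ nb.2)) e3
    have := mmul (mmul (mem_sup_left e4) (mem_sup_left (le_normalizerIn c.2.1 (b2 w w1))))
      (mem_sup_right e5 : _ ∈ NI(pre S θ T', U) ⊔ CI(S, U))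
    convert this using 1; group
  · have ny := l2 (mmul (minv hx) (ap_mem γ hx))
    obtain ⟨-, b, d1, d2⟩ := mmul (inv_conj_mem_of_mem_normalizer (h.norm fn.1 le_rfl c.2.1
      (cj_mem_autGroup F fn.1 (l2 hx).1) fun x => ap_mem _) a4) (minv a4)
    rw [mul_assoc, mul_assoc, ← mul_assoc α, cc x hx, ← cj_inv (l2 hx).2,
      ← cj_mul (minv (l2 hx).2) (l2 (ap_mem γ hx)).2] at d2
    generalize x⁻¹ * ap γ x = y at *
    have n' := HomOn.norm hθ fn.1 ny.1 ny.2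
    obtain ⟨t', t1, t2, t3⟩ := h.nrm.toWNrm.AS_inf (h.imT c.2.1) (h.sur.fn h.sat c.1 fn) ⟨h.sur.mem y ny.1, n'⟩ (by
      rwa [← eq_cj_of_ap (α := b) fun z hz => by
        obtain ⟨x, hx, rfl⟩ := (h.hom fn.1).mem_im.1 hz
        rw [d2 x hx, ap_cj ny.2 hx, hθ.conj ny.1 (fn.1 hx)]])
    obtain ⟨t, t4, rfl⟩ := h.sur.ex' h.nrm.le t1
    have w1 : t⁻¹ * y ∈ pre S θ (im U θ ⊔ CI(S', im U θ)) := mem_pre_of (mmul (minv (pre_le t4)) ny.1) (by
      rw [hθ.mul (minv (pre_le t4)) ny.1, hθ.inv (pre_le t4)]; exact mem_sup_right t3)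
    have t5 : t ∈ NI(pre S θ T', U) := ⟨t4, by simpa using mmul ny.2 (minv (lW w1).2)⟩
    have := mmul (mem_sup_left t5) (mem_sup_right w1 :
      _ ∈ NI(pre S θ T', U) ⊔ pre S θ (im U θ ⊔ CI(S', im U θ)))
    simpa using this

theorem gh : GH F (pre S θ T') (pre S θ ⊥) p fun P α => PA F (pre S θ T') p P α ∧ α ∈ LK E' θ P (P ⊓ pre S θ T') := by
  have := h.sur.fin
  have := finite_of_le h.sc.1
  have mp : ∀ {P : Subgroup Ω} {α : MulAut P}, Mor F P (ap α) → ∀ x ∈ P ⊓ pre S θ T', ap α x ∈ P ⊓ pre S θ T' :=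
    fun m x hx => ⟨ap_mem _ hx.1, SC.mem h.sc m hx.1 hx.2⟩
  refine ⟨h.sat, h.sc, h.cn, ker_le_pre, fun _ _ a => a.1, fun P Q f α β i e a => ⟨a.1.tr h.sc i e, ?_⟩,
    fun P R α β a l1 l2 e => ⟨a.1.res' l1 e, ?_⟩, fun U c fn => (h.rig c fn).loc (fun P α β l1 l2 b k e => ?_)
      fun P α l1 l2 a u => ⟨a.1, ?_⟩, fun P hP => ⟨modA P (pre S θ T') ⊓ LK E' θ P (P ⊓ pre S θ T'), fun l hl =>
      norm_inf (modA_norm h.sc hP.le hl) (h.norm hP.le inf_le_left inf_le_right hl (mp ((mem_autGroup hP.le).1 hl))),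
      fun t a b => ⟨cj_mem_modA (hP.le.trans (SC.norm h.sc)) a b, h.cj_mem hP.le inf_le_left inf_le_right a b
        (norm_inf b (le_normalizer a))⟩, fun β b c => ⟨⟨(mem_autGroup hP.le).1 b.1, c, mem_modA.1 b.2.1⟩, b.2.2⟩⟩⟩
  · have := h.tr i inf_le_left inf_le_right e a.2
    rwa [SC.im_inf h.sc i.mor, i.im_eq] at this
  · have e1 : R ⊓ pre S θ T' = P ⊓ pre S θ T' := le_antisymm (inf_le_inf_right _ l1) (le_inf l2 inf_le_right)
    have := finite_of_le (inf_le_right : P ⊓ pre S θ T' ≤ _)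
    rw [e1]; exact LK.congr a.2 l2 fun x hx => e x (l2 hx)
  · have a := b.res' le_sup_left fun x hx => (e x hx).symm
    refine ⟨a, ?_⟩
    obtain ⟨κ, ⟨-, s, d, d1, d2⟩, k2⟩ := k
    obtain ⟨γ, c1, c2, c3⟩ := exists_res_aut inf_le_left a.mor.le a.mor.mem_autGroup (mp a.mor)
    have lR := inf_le_left.trans a.mor.le (a := P ⊓ pre S θ T')
    obtain ⟨g, g1, g2, g3⟩ := h.sur.aut' lR c1
    have l3 := le_inf l1 c.2.1
    have e' : ∀ y ∈ im U θ, ap d y = ap g y := fun y hy => by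
      obtain ⟨x, hx, rfl⟩ := (h.hom fn.1).mem_im.1 hy
      rw [d2 x hx, g3 x (l3 hx), c2 x (l3 hx), ← e x (l1 hx), k2 x (mem_sup_left hx)]
    have := finite_of_le lR
    exact ⟨mem_Stb_of_finite inf_le_left (mp a.mor), g, h.nrm.toWNrm.mem_of_coprime (h.imT inf_le_right) g1
      (a.cop.coprime_dvd_left (g2.trans c3)) _ (h.imT c.2.1) (im_mono l3) (h.tc c) (fun y hy => e' y hy ▸ ap_mem d hy)
      (((mem_autGroup (h.imT c.2.1)).1 d1).congr e'), fun x hx => (g3 x hx).trans (by rw [c2 x hx])⟩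
  · have := finite_of_le fn.1
    obtain ⟨γ, c1, c2, c3⟩ := exists_res_aut l1 a.1.mor.le a.1.mor.mem_autGroup u
    obtain ⟨-, d, d1, d2⟩ := a.2
    have l3 := le_inf l1 c.2.1
    have c4 : γ ∈ LK E' θ U U := mem_LK_of (h.hom fn.1) le_rfl (fun x => ap_mem γ)
      (((mem_autGroup (h.imT inf_le_right)).1 d1).restrict (im_mono l3)) fun x hx => by rw [d2 x (l3 hx), c2 x hx]
    obtain ⟨β, b1, b2, b3⟩ := h.ext c fn c1 (a.1.cop.coprime_dvd_left c3) c4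
    have lW' := h.le_W fn.1
    obtain ⟨κ, k1, k2, -⟩ := exists_res_aut lW' pre_le b1 fun x hx => by simpa using mmul hx (mem_sup_left (b2 x (lW' hx)))
    have e : ∀ x ∈ U, ap κ x = ap γ x := fun x hx => (k2 x (mem_sup_left hx)).trans (b3 x hx)
    exact ⟨κ, ⟨⟨k1, mem_modA.2 fun x hx => k2 x hx ▸ c.2.1 (b2 x (lW' hx))⟩, LK.congr c4 le_sup_left e⟩,
      fun x hx => (e x hx).trans (c2 x hx)⟩

theorem exists_lift : ∃ E : FusionSystem (pre S θ T'), Nrm E F p ∧ (S' ≤ T' → FHom E E' θ) := by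
  obtain ⟨D, E, hD, -, pp, k⟩ := h.gh.exists_nrm
  refine ⟨E, k, fun l => ⟨h.hom pre_le, fun x hx => ((mem_pre h.sur.hom).1 hx).2, fun P f hf => ?_⟩⟩
  refine (exists_sub F S le_rfl (fun P f => ∃ g, Mor E' (im P θ) g ∧ ∀ x ∈ P, g (θ x) = θ (f x)) ?_ ?_ ?_ ?_).elim
    fun Y hY => ?_
  rotate_right
  · refine ((hY P f).1 ((hf.sub pp.sub).sub (hD.min S Y le_rfl fun P α _ a => (hY _ _).2
      ⟨a.1.mor, a.1.mor.le, fun x => a.1.mor.mem, ?_⟩))).2.2.2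
    obtain ⟨-, b, b1, b2⟩ := a.2
    have l1 : P ≤ P ⊓ pre S θ T' := le_inf le_rfl (le_pre a.1.mor.le ((h.sur.im_le a.1.mor.le).trans l))
    exact ⟨_, ((mem_autGroup (h.imT inf_le_right)).1 b1).restrict (im_mono l1), fun x hx => b2 x (l1 hx)⟩
  · rintro P f g - ⟨k, a, b⟩ e
    exact ⟨k, a, fun x hx => e x hx ▸ b x hx⟩
  · exact fun P s hP hs => ⟨_, mor_conj E' ((h.sur.im_le hP).trans l) (l (h.sur.mem s hs)),
      fun x hx => (h.sur.hom.conj hs (hP hx)).symm⟩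
  · rintro P Q f g hf - - - - ⟨k, a, b⟩ ⟨k', a', b'⟩ m
    refine ⟨_, a.comp a' fun y hy => ?_, fun x hx => by simp only [b x hx, b' _ (m x hx)]⟩
    obtain ⟨x, hx, rfl⟩ := (h.hom hf.le).mem_im.1 hy
    rw [b x hx]; exact mem_im_of_mem _ (m x hx)
  · rintro P Q f g hf hg - - e e' ⟨k, a, b⟩
    obtain ⟨k', a1, a2⟩ := a.symm
    rw [HomOn.im_im' (h.hom hf.le), im_congr b, ← HomOn.im_im' hf.mor.homOn, hf.im_eq] at a1
    exact ⟨k', a1, fun y hy => by rw [← a2 _ (mem_im_of_mem θ (hg.mem hy)), b _ (hg.mem hy), e' y hy]⟩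

end LH

end CfsgFS
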