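import Cfsg.Agent.FS.Glue

/-! Admissible automorphisms for the product of a normal subsystem with the Sylow subgroup: local theory. -/

set_option autoImplicit false
set_option linter.unusedSectionVars false

namespace CfsgFS

open Subgroup Cfsg Cfsg.FusionSystem CfsgH9
open CfsgH2 (resIn)
open scoped commutatorElement

theorem mem_of_comm_mod {G : Type*} [Group G] {p : ℕ} [Fact p.Prime] {I : Subgroup G} {γ ξ : G} (h1 : γ ∈ NN(I))
    (h2 : ξ ∈ NN(I)) (h : γ * ξ * γ⁻¹ * ξ⁻¹ ∈ I) (o1 : (orderOf γ).Coprime p) (o2 : (orderOf (γ * ξ)).Coprime p)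
    (hξ : Pel p ξ) : ξ ∈ I := by
  have key : ∀ n : ℕ, (γ * ξ) ^ n * (γ ^ n * ξ ^ n)⁻¹ ∈ I := fun n => by
    have c : ∀ n : ℕ, ξ * γ ^ n * ξ⁻¹ * (γ ^ n)⁻¹ ∈ I := fun n => by
      induction n with
      | zero => simp
      | succ n ih =>
        have := mmul (minv h) (conj_mem_of_mem_normalizer h1 ih)
        convert this using 1; rw [pow_succ']; group
    induction n with
    | zero => simp
    | succ n ih =>
      have := mmul (conj_mem_of_mem_normalizer (mmul h1 h2) ih) (conj_mem_of_mem_normalizer h1 (c n))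
      convert this using 1; simp only [pow_succ']; group
  have := key (orderOf γ * orderOf (γ * ξ))
  rw [mul_comm (orderOf γ), pow_mul, pow_orderOf_eq_one, one_pow, mul_comm (orderOf (γ * ξ)), pow_mul γ,
    pow_orderOf_eq_one, one_pow, one_mul, one_mul, inv_mem_iff] at this
  exact hξ.mem_of_pow (ndvd_of_coprime (o1.mul_left o2)) this

variable {p : ℕ} {Ω : Type*} [Group Ω] {S T : Subgroup Ω} {F : FusionSystem S} {E : FusionSystem T}
  {P Q R U W : Subgroup Ω} {f g : Ω → Ω}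

theorem orderOf_dvd_of_ap {α : MulAut P} {β : MulAut Q} (h : P ≤ Q) (e : ∀ x ∈ P, ap β x = ap α x) :
    orderOf α ∣ orderOf β := orderOf_dvd_of_pow_eq_one (ap_ext fun x hx => by
  rw [← ap_pow_eq h e _ x hx, pow_orderOf_eq_one, ap_one, ap_one])

theorem centric_sup_cent [Finite S] (h : F.IsFullyCentralized U) : F.IsCentric (U ⊔ CI(S, U)) :=
  ⟨sup_le h.1 centralizerIn_le, fun Q hQ => by
    obtain ⟨f, i⟩ := isConj_iff.1 hQ
    intro c hc
    have : c ∈ CI(S, im U f) := ⟨hc.1, centralizer_le (i.im_eq ▸ im_mono le_sup_left) hc.2⟩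
    rw [← im_CI_eq h i.mor le_sup_left le_sup_right] at this
    exact i.im_eq ▸ im_mono le_sup_right this⟩

theorem sup_cent_norm : NI(S, U) ≤ NN(U ⊔ CI(S, U)) := fun _ hx =>
  norm_sup hx.2 (norm_inf (le_normalizer hx.1) (cent_norm U hx.2))

theorem sup_cent_le (hU : U ≤ S) : U ⊔ CI(S, U) ≤ NI(S, U) := sup_le (le_normalizerIn hU) centralizerIn_le_normalizerIn

/-- admissible automorphisms -/
structure Adm (F : FusionSystem S) (E : FusionSystem T) (p : ℕ) (P : Subgroup Ω) (α : MulAut P) : Prop where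
  mor : Mor F P (ap α)
  cop : (orderOf α).Coprime p
  md : ∀ x ∈ P, x⁻¹ * ap α x ∈ T
  mE : Mor E (P ⊓ T) (ap α)

theorem Adm.tr (h : Inv E F) {α : MulAut P} {β : MulAut Q} (i : Iso F P Q f) (e : ∀ x ∈ P, ap β (f x) = f (ap α x))
    (a : Adm F E p P α) : Adm F E p Q β := by
  obtain ⟨τ, hτ⟩ := exists_tr i
  obtain rfl := hτ.eq i e
  refine ⟨(mem_autGroup i.le').1 ((hτ.mem_iff i).2 a.mor.mem_autGroup), by rw [MulEquiv.orderOf_eq]; exact a.cop,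
    fun y hy => ?_, h.sinv.mor a.mE (i.mor.restrict inf_le_left) inf_le_right le_rfl (fun x hx =>
      ⟨ap_mem α hx.1, a.mE.mem hx⟩) (by rw [SC.im_inf h.sc i.mor, i.im_eq]) fun x hx => e x hx.1⟩
  obtain ⟨x, hx, rfl⟩ := i.surj hy
  rw [e x hx, ← i.mor.inv hx, ← i.mor.mul (minv hx) (ap_mem α hx)]
  exact SC.mem h.sc i.mor (mmul (minv hx) (ap_mem α hx)) (a.md x hx)

theorem Adm.res [Finite S] [Fact p.Prime] {α : MulAut P} (a : Adm F E p P α) (hR : R ≤ P) (h : ∀ x ∈ R, ap α x ∈ R) :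
    ∃ β : MulAut R, Adm F E p R β ∧ ∀ x ∈ R, ap β x = ap α x := by
  obtain ⟨β, b1, b2, b3⟩ := exists_res_aut hR a.mor.le a.mor.mem_autGroup h
  exact ⟨β, ⟨(mem_autGroup (hR.trans a.mor.le)).1 b1, a.cop.coprime_dvd_left b3, fun x hx => b2 x hx ▸ a.md x (hR hx),
    (a.mE.restrict (inf_le_inf_right _ hR)).congr fun x hx => (b2 x hx.1).symm⟩, b2⟩

variable [Finite S] [Fact p.Prime]

theorem Loc.ext {A : ∀ P : Subgroup Ω, MulAut P → Prop} {M : FusionSystem S} (hM : Loc p A U M) (hP : P ≤ S)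
    {α : MulAut P} (a1 : α ∈ M.autGroup P) (a2 : (orderOf α).Coprime p) :
    ∃ β : MulAut ↥(P ⊔ U), A _ β ∧ ∀ x ∈ P, ap β x = ap α x := by
  obtain ⟨g, g1, g2, g3⟩ := Nm.ext hM.nm ((mem_autGroup hP).1 a1)
  obtain ⟨β, b1, b2, b3, -⟩ := exists_pprime_ext le_sup_left g1 (maps_of_sup g1.homOn
    (fun x hx => g2 x hx ▸ mem_sup_left (ap_mem α hx)) fun x hx => mem_sup_right (g3 ▸ mem_im_of_mem g hx)) g2 a2
  exact ⟨β, hM.adm _ le_sup_right g1.le β b1 b2, b3⟩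

theorem WNrm.AS_inf (h : WNrm E F p) (hU : U ≤ T) (fn : F.IsFullyNormalized U) {a : Ω} (ha : a ∈ NI(S, U))
    (k : cj U a ∈ E.autGroup U) : ∃ t ∈ T, t ∈ NN(U) ∧ t⁻¹ * a ∈ CI(S, U) := by
  have := finite_of_le h.le
  have s := h.sat.syl (h.satF.fn_sub h.sc h.sub hU fn)
  have e := s.eq_of_le (U := AS(S, U) ⊓ E.autGroup U) ((isPGroup_autInducedBy h.satF.pg U).to_inf_left)
    (le_inf (autInducedBy_mono h.le) s.le) inf_le_right
  obtain ⟨t, t1, t2, t3⟩ := mem_autInducedBy'.1 (e.le ⟨cj_mem_autInducedBy ha.1, k⟩)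
  exact ⟨t, t1, t2, mmul (minv (h.le t1)) ha.1, (cj_eq_cj_iff ha.2 t2).1 t3⟩

theorem WNrm.loc_adm (h : WNrm E F p) (hU : TC F T U) (fn : F.IsFullyNormalized U) (l1 : U ⊔ CI(S, U) ≤ W)
    (l2 : W ≤ NI(S, U)) {β : MulAut W} (b1 : Mor F W (ap β)) (b2 : (orderOf β).Coprime p)
    (b3 : ∀ c ∈ CI(S, U), c⁻¹ * ap β c ∈ T) (b4 : ∀ x ∈ U, ap β x ∈ U) (b5 : Mor E U (ap β)) : Adm F E p W β := by
  have lU : U ≤ W := le_sup_left.trans l1
  have lC : CI(S, U) ≤ W := le_sup_right.trans l1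
  have := finite_of_le fn.1
  have nT := SC.norm h.sc
  have md : ∀ x ∈ W, x⁻¹ * ap β x ∈ T := fun x hx => by
    have dec : ∀ y, y ∈ CI(S, U) ⊔ T ↔ ∃ t ∈ T, ∃ c ∈ CI(S, U), y = t * c := fun y =>
      mem_sup_of_le_normalizer' (centralizerIn_le.trans nT)
    refine mem_of_coprime_mod (R := CI(S, U) ⊔ T) (h.satF.pg.to_le b1.le) b2 (fun y hy hy' => ?_) hx ?_
    · obtain ⟨t, ht, c, hc, rfl⟩ := (dec y).1 hy'
      have tW : t ∈ W := by simpa using mmul hy (minv (lC hc))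
      have bt := SC.mem h.sc b1 tW ht
      rw [b1.mul tW (lC hc)]
      refine ⟨mmul (mem_sup_right bt) (by simpa using mmul (mem_sup_left hc) (mem_sup_right (b3 c hc))), ?_⟩
      have := mmul (inv_conj_mem_of_mem_normalizer (nT hc.1) (mmul (minv ht) bt)) (b3 c hc)
      convert this using 1; group
    obtain ⟨b, hb, e⟩ := (b5.iso_self b4).exists_aut
    have n1 := (l2 hx).2
    have n2 := (l2 (ap_mem β hx)).2
    have k : cj U (x⁻¹ * ap β x) ∈ E.autGroup U := by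
      have := mmul (h.sinv.aut_conj h.sub hU.1 (minv (cj_mem_autGroup F fn.1 (l2 hx).1)) hb) (minv hb)
      rw [cj_mul (minv n1) n2, cj_inv n1, ← conj_cj (α := b) (h := ap β x) n1 fun y hy => by
        rw [e _ (conj_mem_of_mem_normalizer n1 hy), b1.map_conj hx (lU hy), e y hy]]
      convert this using 1; group
    obtain ⟨t, t1, -, t3⟩ := h.AS_inf hU.1 fn (l2 (mmul (minv hx) (ap_mem β hx))) k
    exact (dec _).2 ⟨t, t1, _, t3, by group⟩
  obtain ⟨γ, c1, c2, c3⟩ := exists_res_aut (Q := W ⊓ T) inf_le_left b1.le b1.mem_autGroup fun x hx =>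
    ⟨ap_mem β hx.1, SC.mem h.sc b1 hx.1 hx.2⟩
  have lU' : U ≤ W ⊓ T := le_inf lU hU.1
  exact ⟨b1, b2, md, ((mem_autGroup inf_le_right).1 (h.mem_of_coprime inf_le_right c1 (b2.coprime_dvd_left c3) U hU.1 lU'
    hU (fun x hx => c2 x (lU' hx) ▸ b4 x hx) (b5.congr fun x hx => (c2 x (lU' hx)).symm))).congr c2⟩

theorem Nrm.loc_ext (h : Nrm E F p) (hU : TC F T U) (fn : F.IsFullyNormalized U) (l1 : U ≤ P) (l2 : P ≤ NI(S, U))
    {α : MulAut P} (a : Adm F E p P α) (hα : ∀ x ∈ U, ap α x ∈ U) :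
    ∃ β : MulAut ↥(P ⊔ (U ⊔ CI(S, U))), Adm F E p _ β ∧ (∀ x ∈ U, ap β x = ap α x) ∧
      ∀ x ∈ P, (ap β x)⁻¹ * ap α x ∈ U ⊓ CC(U) := by
  have := finite_of_le fn.1
  have hF := h.satF
  have nT := SC.norm h.sc
  obtain ⟨α₀, a0, e0⟩ := a.res l1 hα
  have m0 : Mor E U (ap α₀) := a0.mE.restrict (le_inf le_rfl hU.1)
  obtain ⟨β₀, ⟨b1, b2⟩, b3, b4⟩ := extG_aut' h.sc hU.1 (h.mem_extG U hU.1 hU m0.mem_autGroup) a0.cop
  have lV := sup_cent_le fn.1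
  have lS := lV.trans normalizerIn_le
  have m1 := (mem_autGroup lS).1 b1
  have cV := centric_sup_cent (hF.fc fn)
  obtain ⟨L, hL⟩ := exists_NS F fn.1
  have sL := hF.ns fn hL
  have eU : ∀ x ∈ U, ap β₀ x = ap α x := fun x hx => (b4 x hx).trans (e0 x hx)
  have bL : β₀ ∈ L.autGroup _ := (ns_mor hL m1 le_rfl le_sup_left lV ((m1.restrict le_sup_left).im_eq_self
    fun x hx => eU x hx ▸ hα x hx)).mem_autGroup
  have iT : ∀ x ∈ U ⊔ CI(S, U), x ∈ T → x ∈ U := fun x h1 h2 =>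
    inf_sup_cent hU.1 (hU.self h.le) centralizerIn_le_centralizer h1 h2
  obtain ⟨g, g1, g2⟩ := Iso.extend (iso_ap lS b1) (hF.rc_centric cV) (R := P)
    (fun x hx => ⟨(l2 hx).1, sup_cent_norm (l2 hx)⟩) fun x hx => by
      have n1 := sup_cent_norm (l2 hx)
      have n2 := sup_cent_norm (l2 (ap_mem α hx))
      have kL : β₀ * cj _ x * β₀⁻¹ * (cj _ (ap α x))⁻¹ ∈ L.autGroup (U ⊔ CI(S, U)) :=
        mmul (mconj bL (cj_mem_autGroup L lV (l2 hx))) (minv (cj_mem_autGroup L lV (l2 (ap_mem α hx))))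
      have md : β₀ * cj _ x * β₀⁻¹ * (cj _ (ap α x))⁻¹ ∈ modA (U ⊔ CI(S, U)) T := by
        have c := cj_mem_autGroup F lS (l2 hx).1
        have := mmul (mmul b2 (conj_mem_of_mem_normalizer (modA_norm h.sc lS c) (minv b2)))
          (conj_mem_of_mem_normalizer (modA_norm h.sc lS c) (minv (cj_mem_modA (lS.trans nT) (a.md x hx)
            (mmul (minv n1) n2))))
        rw [cj_mul (minv n1) n2, cj_inv n1] at this
        convert this using 1; group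
      have := Syl.opIn_le (have := aut_finite lS; sL.syl (fn_of_normal lV sup_cent_norm))
        (mem_opIn_of_sc sL.pg (Nm.sc (ns_nm hL fn.1)) lV kL (fun y _ hy => ?_) fun y hy =>
          iT _ (mmul (minv hy) (ap_mem _ hy)) (mem_modA.1 md y hy))
      · obtain ⟨s, s1, s2⟩ := mem_autInducedBy.1 (mmul this (cj_mem_autInducedBy (l2 (ap_mem α hx))))
        refine ⟨s, s1.1, fun y hy => ?_⟩
        rw [← s2 _ (ap_mem _ hy), inv_mul_cancel_right, ap_mul, ap_mul, ap_inv_ap, ap_cj n1 hy]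
      · obtain ⟨u, hu, rfl⟩ := ((a.mor.restrict l1).iso_self fun y hy => hα y hy).surj hy
        have u' := inv_conj_mem_of_mem_normalizer (l2 hx).2 hu
        have : ap (cj (U ⊔ CI(S, U)) (ap α x))⁻¹ (ap α u) = ap β₀ (x⁻¹ * u * x) := by
          rw [← cj_inv n2, ap_cj (minv n2) (mem_sup_left hy), eU _ u', a.mor.mul (mmul (minv hx) (l1 hu)) hx,
            a.mor.mul (minv hx) (l1 hu), a.mor.inv hx, inv_inv]
        rw [ap_mul, ap_mul, ap_mul, this, ap_inv_ap, ap_cj n1 (mem_sup_left u'), ← eU u hu]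
        congr 1; group
  rw [sup_comm] at g1
  have df : ∀ k : Ω → Ω, Mor F (P ⊔ (U ⊔ CI(S, U))) k → (∀ x ∈ U, k x = ap α x) → ∀ x ∈ P,
      (k x)⁻¹ * ap α x ∈ CI(S, U) := fun k k1 k2 x hx => by
    refine ⟨mmul (minv (k1.mem (mem_sup_left hx))) (a.mor.mem hx), fun y hy => ?_⟩
    obtain ⟨u, hu, rfl⟩ := ((a.mor.restrict l1).iso_self fun y hy => hα y hy).surj hy
    have e1 := k1.map_conj (mem_sup_left hx) (mem_sup_left (l1 hu))
    rw [k2 _ (conj_mem_of_mem_normalizer (l2 hx).2 hu), a.mor.map_conj hx (l1 hu), k2 u hu] at e1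
    calc ap α u * ((k x)⁻¹ * ap α x) = (k x)⁻¹ * (k x * ap α u * (k x)⁻¹) * ap α x := by group
      _ = _ := by rw [← e1]; group
  obtain ⟨β, c1, c2, c3, -⟩ := exists_pprime_ext le_sup_right g1 (maps_of_sup g1.homOn (fun x hx => by
    have := mmul (mem_sup_left (ap_mem α hx)) (minv (mem_sup_right (mem_sup_right
      (df g g1 (fun x hx => (g2 x (mem_sup_left hx)).trans (eU x hx)) x hx))) : _ ∈ P ⊔ (U ⊔ CI(S, U)))
    simpa using this) fun x hx => g2 x hx ▸ mem_sup_right (ap_mem _ hx)) g2 b3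
  have m2 := (mem_autGroup g1.le).1 c1
  have e2 : ∀ x ∈ U, ap β x = ap α x := fun x hx => (c3 x (mem_sup_left hx)).trans (eU x hx)
  have a2 := h.loc_adm hU fn le_sup_right (sup_le l2 lV) m2 c2 (fun c hc => c3 c (mem_sup_right hc) ▸
    mem_modA.1 b2 c (mem_sup_right hc)) (fun x hx => e2 x hx ▸ hα x hx)
    (m0.congr fun x hx => by rw [e2 x hx, e0 x hx])
  refine ⟨β, a2, e2, fun x hx => ?_⟩
  have c := df _ m2 e2 x hx
  refine ⟨hU.self h.le ⟨?_, c.2⟩, c.2⟩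
  have := mmul (minv (a2.md x (mem_sup_left hx))) (a.md x hx)
  rwa [mul_inv_rev, inv_inv, mul_assoc, mul_inv_cancel_left] at this

theorem Nrm.loc_rigid (h : Nrm E F p) (hU : TC F T U) (fn : F.IsFullyNormalized U) (l1 : U ≤ P) (l2 : P ≤ NI(S, U))
    {α ξ : MulAut P} (a : Adm F E p P α) (hα : ∀ x ∈ U, ap α x ∈ U) (x1 : Mor F P (ap ξ))
    (x2 : ∀ x ∈ U, ap ξ x = x) (x3 : ∀ x ∈ P, x⁻¹ * ap ξ x ∈ U ⊓ CC(U)) :
    α * ξ * α⁻¹ * ξ⁻¹ ∈ AS(U ⊓ CC(U), P) := by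
  have := finite_of_le fn.1
  have hF := h.satF
  obtain ⟨L, hL⟩ := exists_NS F fn.1
  have sL := hF.ns fn hL
  obtain ⟨k, k1, -, s, s1, s2⟩ := sL.pel_conj l2 (ns_mor hL x1 le_rfl l1 l2 (im_eq_of_eq_self x2)).mem_autGroup
    (pel_of_fix (hF.pg.to_le fn.1) (fun x _ => x2 x) fun x hx => (x3 x hx).1)
  have kU := SC.im_eq (Nm.sc (ns_nm hL fn.1)) k1 l1
  have k0 := k1.sub (ns_sub hL)
  have i := k0.iso
  have iU : Iso F U U k := ⟨k0.restrict l1, kU⟩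
  obtain ⟨τ, hτ⟩ := exists_tr i
  have l3 : U ≤ im P k := kU ▸ im_mono l1
  obtain ⟨β, b1, b2, b3⟩ := h.loc_ext hU fn l3 k1.im_le_S (a.tr h.toInv i (hτ α)) fun y hy => by
    obtain ⟨x, hx, rfl⟩ := iU.surj hy
    rw [hτ α x (l1 hx)]; exact iU.mem (hα x hx)
  have sC : s ∈ CI(S, U) := ⟨s1.1.1, fun y hy => by
    obtain ⟨x, hx, rfl⟩ := iU.surj hy
    have := s2 x (l1 hx)
    rw [x2 x hx] at this
    exact (mul_inv_eq_iff_eq_mul.1 this.symm).symm⟩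
  have sW : s ∈ im P k ⊔ (U ⊔ CI(S, U)) := mem_sup_right (mem_sup_right sC)
  have bU : im U (ap β) = U := (b1.mor.restrict (l3.trans le_sup_left)).im_eq_self fun y hy => by
    obtain ⟨x, hx, rfl⟩ := iU.surj hy
    rw [b2 _ hy, hτ α x (l1 hx)]; exact iU.mem (hα x hx)
  have bC : ap β s ∈ CI(S, U) := by
    have := mem_CI_of_mor b1.mor (l3.trans le_sup_left) sW sC.2
    rwa [bU] at this
  have zC : ap β s * s⁻¹ ∈ CC(U) := mmul bC.2 (minv sC.2)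
  have zU : ap β s * s⁻¹ ∈ U := hU.self h.le ⟨by
    simpa [mul_assoc] using SC.conj h.sc sC.1 (b1.md s sW), zC⟩
  obtain ⟨z, z1, z2⟩ := iU.surj zU
  have z3 : z ∈ CC(U) := fun y hy => k0.inj (l1 (mmul hy z1)) (l1 (mmul z1 hy)) (by
    rw [k0.mul (l1 hy) (l1 z1), k0.mul (l1 z1) (l1 hy), z2]; exact zC _ (iU.mem hy))
  refine mem_autInducedBy.2 ⟨z, ⟨z1, z3⟩, fun y hy => ?_⟩
  obtain ⟨x, hx, rfl⟩ : ∃ x ∈ P, ap ξ (ap α x) = y := ⟨ap α⁻¹ (ap ξ⁻¹ y), ap_mem _ (ap_mem _ hy), by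
    rw [ap_ap_inv, ap_ap_inv]⟩
  rw [ap_mul, ap_inv_ap, ap_mul, ap_inv_ap, ap_mul]
  have ax := ap_mem α hx
  refine k0.inj (ap_mem α (ap_mem ξ hx)) (mconj (l1 z1) hy) ?_
  have ζ := x3 x hx
  have kx := i.mem hx
  have kζ := iU.mem ζ.1
  have w := b3 _ kx
  have e1 : k (ap ξ x) = k x * k (x⁻¹ * ap ξ x) := by rw [← k0.mul hx (l1 ζ.1)]; simp
  have e2 := b1.mor.map_conj sW (mem_sup_left kx)
  rw [← s2 x hx, e1, b1.mor.mul (mem_sup_left kx) (mem_sup_left (l3 kζ))] at e2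
  rw [k0.map_conj (l1 z1) hy, z2, s2 _ ax, ← hτ α _ (ap_mem ξ hx), e1, ← hτ α x hx,
    (homOn_ap _).mul kx (l3 kζ), ← b2 _ kζ]
  have c1 := w.2 _ (bU ▸ mem_im_of_mem (ap β) kζ)
  have c2 := bC.2 _ w.1
  generalize ap (τ α) (k x) = A at *
  generalize ap β (k x) = B at *
  generalize ap β (k (x⁻¹ * ap ξ x)) = C at *
  generalize ap β s = D at *
  calc A * C = B * (B⁻¹ * A * C) := by group
    _ = B * C * (B⁻¹ * A) := by rw [← c1]; group
    _ = D * B * (D⁻¹ * (B⁻¹ * A) * D) * D⁻¹ := by rw [e2]; group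
    _ = D * B * (D⁻¹ * (D * (B⁻¹ * A))) * D⁻¹ := by rw [← c2]; group
    _ = _ := by group

theorem AS_Z_norm (l1 : U ≤ P) {α : MulAut P} (hα : ∀ x ∈ U, ap α x ∈ U) [Finite P] : α ∈ NN(AS(U ⊓ CC(U), P)) := by
  have := finite_of_le l1
  have := finite_mulAut P
  obtain ⟨β, hβ⟩ := exists_res l1 (mem_Stb_of_finite l1 hα)
  refine mem_normalizer_of_finite fun γ hγ => ?_
  obtain ⟨z, z1, z2, rfl⟩ := mem_autInducedBy'.1 hγ
  rw [conj_cj z2 fun x hx => (homOn_ap α).conj (l1 z1.1) hx]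
  exact cj_mem_autInducedBy (hβ z z1.1 ▸ ap_mem_center β z1)

theorem Nrm.loc_uq (h : Nrm E F p) (hU : TC F T U) (fn : F.IsFullyNormalized U) (l1 : U ≤ P) (l2 : P ≤ NI(S, U))
    {α γ : MulAut P} (a : Adm F E p P α) (c : Adm F E p P γ) (hα : ∀ x ∈ U, ap α x ∈ U)
    (e : ∀ x ∈ U, ap γ x = ap α x) : γ⁻¹ * α ∈ AS(U ⊓ CC(U), P) := by
  have := finite_of_le fn.1
  have := finite_of_le a.mor.le
  have hγ : ∀ x ∈ U, ap γ x ∈ U := fun x hx => e x hx ▸ hα x hx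
  have x1 := (mem_autGroup a.mor.le).1 (mmul (minv c.mor.mem_autGroup) a.mor.mem_autGroup)
  have x2 : ∀ x ∈ U, ap (γ⁻¹ * α) x = x := fun x hx => by rw [ap_mul, ← e x hx, ap_inv_ap]
  have x3 : ∀ x ∈ P, x⁻¹ * ap (γ⁻¹ * α) x ∈ U ⊓ CC(U) := fun x hx => by
    have c1 : x⁻¹ * ap (γ⁻¹ * α) x ∈ CC(U) := fun y hy => by
      have e1 := x1.map_conj hx (l1 hy)
      rw [x2 _ (conj_mem_of_mem_normalizer (l2 hx).2 hy), x2 y hy] at e1
      calc y * (x⁻¹ * ap (γ⁻¹ * α) x) = x⁻¹ * (x * y * x⁻¹) * ap (γ⁻¹ * α) x := by group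
        _ = _ := by rw [e1]; group
    exact ⟨hU.self h.le ⟨mem_modA.1 (mmul (minv (mem_modA.2 c.md)) (mem_modA.2 a.md)) x hx, c1⟩, c1⟩
  exact mem_of_comm_mod (AS_Z_norm l1 hγ) (AS_Z_norm l1 fun x hx => (x2 x hx).symm ▸ hx)
    (h.loc_rigid hU fn l1 l2 c hγ x1 x2 x3) c.cop (by rw [mul_inv_cancel_left]; exact a.cop)
    (pel_of_fix (h.satF.pg.to_le fn.1) (fun x _ => x2 x) fun x hx => (x3 x hx).1)

/-- uniqueness of admissible automorphisms -/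
theorem Nrm.uq (h : Nrm E F p) (hU : TC F T U) (l1 : U ≤ P) (l2 : P ≤ NN(U))
    {α γ : MulAut P} (a : Adm F E p P α) (c : Adm F E p P γ) (hα : ∀ x ∈ U, ap α x ∈ U)
    (e : ∀ x ∈ U, ap γ x = ap α x) : ∃ z ∈ U ⊓ CC(U), ∀ x ∈ P, ap α x = ap γ (z * x * z⁻¹) := by
  obtain ⟨φ, f1, f2⟩ := h.satF.exists_fn_nmap (hU.1.trans h.le)
  have l3 : P ≤ NI(S, U) := le_inf a.mor.le l2
  have i := Mor.iso' f1 l3
  have iU := Mor.iso' f1 (l1.trans l3)
  obtain ⟨τ, hτ⟩ := exists_tr i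
  obtain ⟨z, z1, z2⟩ := mem_autInducedBy.1 (h.loc_uq (hU.im h.sc iU.mor) f2 (im_mono l1)
    (im_le.2 fun x hx => mem_NI_of_mor f1 (l1.trans l3) (l3 hx) (l2 hx)) (a.tr h.toInv i (hτ α))
    (c.tr h.toInv i (hτ γ)) (fun y hy => by
      obtain ⟨x, hx, rfl⟩ := iU.surj hy
      rw [hτ α x (l1 hx)]; exact iU.mem (hα x hx)) fun y hy => by
      obtain ⟨x, hx, rfl⟩ := iU.surj hy
      rw [hτ α x (l1 hx), hτ γ x (l1 hx), e x hx])
  obtain ⟨w, w1, rfl⟩ := iU.surj z1.1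
  refine ⟨w, ⟨w1, fun y hy => iU.mor.inj (mmul hy w1) (mmul w1 hy) (by
    rw [iU.mor.mul hy w1, iU.mor.mul w1 hy]; exact z1.2 _ (iU.mem hy))⟩, fun x hx => ?_⟩
  have m := mconj (l1 w1) hx
  refine i.mor.inj (ap_mem α hx) (ap_mem γ m) ?_
  rw [← hτ γ _ m, i.mor.map_conj (l1 w1) hx, ← z2 _ (i.mem hx), ap_mul, ap_ap_inv, hτ α x hx]

theorem Nrm.loc_fn (h : Nrm E F p) (hU : TC F T U) (fn : F.IsFullyNormalized U) :
    ∃ M : FusionSystem NI(S, U), Loc p (Adm F E p) U M := by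
  have := finite_of_le fn.1
  have hF := h.satF
  obtain ⟨L, hL⟩ := exists_NS F fn.1
  have sL := hF.ns fn hL
  have nL := ns_nm hL fn.1
  have lV := sup_cent_le fn.1
  have lS := lV.trans normalizerIn_le
  have := aut_finite lS
  set K₀ : Subgroup (MulAut ↥(U ⊔ CI(S, U))) := (L.autGroup _ ⊓ modA _ T) ⊓ KR _ (E.autGroup U) with hK
  have nK : L.autGroup (U ⊔ CI(S, U)) ≤ NN(K₀) := fun l hl => by
    have m := (mem_autGroup lV).1 hl
    refine norm_inf (norm_inf (le_normalizer hl) (modA_norm h.sc lS (autGroup_mono (ns_sub hL) lV hl)))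
      (mem_normalizer_of_finite fun β hβ => ?_)
    obtain ⟨b, b1, b2⟩ := mem_KR.1 hβ
    obtain ⟨l', l1, l2, -⟩ := exists_res_aut le_sup_left lS (autGroup_mono (ns_sub hL) lV hl) fun x hx =>
      SC.mem (Nm.sc nL) m (mem_sup_left hx) hx
    refine mem_KR.2 ⟨_, h.sinv.aut_conj h.sub hU.1 l1 b1, fun x hx => ?_⟩
    obtain ⟨y, hy, rfl⟩ := (iso_ap fn.1 l1).surj hx
    rw [ap_mul, ap_mul, ap_mul, ap_mul, ap_inv_ap, l2 y hy, ap_inv_ap, b2 y hy, l2 _ (ap_mem b hy)]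
  have aL := autInducedBy_le L lV
  obtain ⟨M, hM⟩ := exists_KN L lV (AS(NI(S, U), _) ⊔ K₀) (NK_eq sup_cent_norm le_sup_left)
  have sM := hM.sat_of_ge sL (fn_of_normal lV sup_cent_norm) le_sup_left
  refine ⟨M, sM, Nm.sub' nL sL.pg sM hM.sub (le_normalizerIn fn.1), fun P l1 l2 α a1 a2 => ?_,
    fun P l1 l2 α a1 a2 => ?_⟩
  · obtain ⟨g, g1, g2, g3⟩ := hM.ext ((mem_autGroup l2).1 a1)
    obtain ⟨β, b1, b2, b3, γ, c1, c2⟩ := exists_pprime_ext le_sup_left g1 (maps_of_sup g1.homOn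
      (fun x hx => g2 x hx ▸ mem_sup_left (ap_mem α hx)) fun x hx => mem_sup_right (g3.mem hx)) g2 a2
    obtain ⟨κ, k1, k2⟩ := mem_KR.1 ((zpowers_le.2 (mem_KR.2 (g3.congr fun x hx => (c1 x (mem_sup_right hx)).symm))) c2)
    obtain ⟨c, c3, κ₀, c4, rfl⟩ := (mem_sup_of_le_normalizer (aL.trans nK)).1 k1
    have k3 : c * κ₀ ∈ K₀ := Pel.mem_of_mul' (pel_of_mem (isPGroup_autInducedBy sL.pg _) (minv c3))
      (nK (aL (minv c3))) (by rwa [inv_mul_cancel_left]) (b2.coprime_dvd_left (orderOf_dvd_of_ap le_sup_right k2))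
    obtain ⟨b, e1, e2⟩ := mem_KR.1 k3.2
    have e3 : ∀ x ∈ U, ap β x = ap b x := fun x hx => (k2 x (mem_sup_left hx)).trans (e2 x hx)
    obtain ⟨α', a3, a4⟩ := (h.loc_adm hU fn le_sup_right g1.le (((mem_autGroup g1.le).1 b1).sub (ns_sub hL)) b2
      (fun c hc => k2 c (mem_sup_right hc) ▸ mem_modA.1 k3.1.2 c (mem_sup_right hc))
      (fun x hx => e3 x hx ▸ ap_mem b hx) (((mem_autGroup hU.1).1 e1).congr fun x hx => (e3 x hx).symm)).res
      le_sup_left fun x hx => b3 x hx ▸ ap_mem α hx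
    rwa [show α' = α from ap_ext fun x hx => (a4 x hx).trans (b3 x hx)] at a3
  · obtain ⟨β, b1, b2, b3⟩ := h.loc_ext hU fn l1 l2 a1 a2
    obtain ⟨γ, c1, c2⟩ := b1.res le_sup_left fun x hx => by
      simpa using mmul (ap_mem α hx) (minv (l1 (b3 x hx).1))
    have bU : im U (ap β) = U := (b1.mor.restrict (l1.trans le_sup_left)).im_eq_self fun y hy => b2 y hy ▸ a2 y hy
    have m := ns_mor hL b1.mor le_rfl (l1.trans le_sup_left) (sup_le l2 lV) bU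
    obtain ⟨κ, k1, k2⟩ := b1.res le_sup_right (maps_sup_cent (b1.mor.restrict le_sup_right) bU)
    obtain ⟨b, e1, e2⟩ := ((b1.mE.restrict (le_inf (l1.trans le_sup_left) hU.1)).iso_self
      fun y hy => b2 y hy ▸ a2 y hy).exists_aut
    have m2 : γ ∈ M.autGroup P := ((hM.mor m le_sup_left le_sup_right l2 ⟨κ, mem_sup_right
      ⟨⟨((m.restrict le_sup_right).congr fun x hx => (k2 x hx).symm).mem_autGroup, mem_modA.2 k1.md⟩,
        mem_KR.2 ⟨b, e1, fun x hx => by rw [k2 x (mem_sup_left hx), e2 x hx]⟩⟩,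
      fun x hx => (k2 x hx).symm⟩).congr fun x hx => (c2 x hx).symm).mem_autGroup
    simpa using mmul m2 (autInducedBy_le M l2 (autInducedBy_mono (inf_le_left.trans (l1.trans l2))
      (h.loc_uq hU fn l1 l2 a1 c1 a2 fun x hx => (c2 x (l1 hx)).trans (b2 x hx))))

theorem Nrm.loc (h : Nrm E F p) (hU : TC F T U) (fn : E.IsFullyNormalized U) :
    ∃ M : FusionSystem NI(S, U), Loc p (Adm F E p) U M := by
  have hF := h.satF
  have := finite_of_le h.le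
  have lU := le_normalizerIn (hU.1.trans h.le)
  obtain ⟨φ, f1, f2⟩ := hF.exists_fn_nmap (hU.1.trans h.le)
  have iU := Mor.iso' f1 lU
  obtain ⟨M, hM⟩ := h.loc_fn (hU.im h.sc iU.mor) f2
  have l1 : im NI(S, U) φ ≤ NI(S, im U φ) := im_le.2 fun x hx => mem_NI_of_mor f1 lU hx hx.2
  have l2 : NI(T, im U φ) ≤ im NI(S, U) φ := by
    have lN : NI(T, U) ≤ NI(S, U) := inf_le_inf_right _ h.le
    obtain ⟨α, a1, g, g1, g2⟩ := h.frat U φ hU.1 iU.mor
    have : Nat.card NI(T, im U φ) ≤ Nat.card NI(T, U) := by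
      rw [im_congr g2, ← g1.im_im, ← (hiso_ap α).im_NI g1.im_le_S, ((hiso_ap α).mono normalizerIn_le).card_eq]
      exact fn.2 _ g1.iso.isConj
    rw [← (f1.restrict lN).im_eq_of_card (Q := NI(T, im U φ)) (fun x hx => ⟨SC.mem h.sc f1 (lN hx) hx.1,
      f1.mem_normalizer lU (lN hx) hx.2⟩) this]
    exact im_mono lN
  obtain ⟨M', s1, s2⟩ := Sat.exists_ppi l1 hM.sat (hyp_le fun P hP α a1 a2 x hx => by
    obtain ⟨β, b1, b2⟩ := hM.ext hP a1 a2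
    exact l2 ⟨b2 x hx ▸ b1.md x (mem_sup_left hx), (hP (mmul (minv hx) (ap_mem α hx))).2⟩)
  obtain ⟨ψ, j1, j2, j3⟩ := (Iso.hiso f1.iso).symm
  have := finite_of_le (l1.trans normalizerIn_le)
  obtain ⟨M'', k⟩ := exists_push M' j1
  obtain ⟨φ', k', -, k3⟩ := k.symm
  replace k' := k'.congr (k := φ) fun x hx => j1.eq (k'.mem x hx) (mem_im_of_mem φ hx) (by rw [k3 x hx, j2 x hx])
  refine ⟨M'', k.toFSurj.sat s1, (k'.nm_iff lU).1 (Nm.sub' hM.nm hM.sat.pg s1 s2.sub (im_mono lU)),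
    fun P l3 l4 α a1 a2 => ?_, fun P l3 l4 α a1 a2 => ?_⟩
  all_goals
    have i := Mor.iso' f1 l4
    obtain ⟨τ, hτ⟩ := exists_tr i
  · obtain ⟨φ'', i1, i2, -⟩ := i.symm
    refine (hM.adm _ (im_mono l3) ((im_mono l4).trans l1) (τ α) (autGroup_mono s2.sub (im_mono l4)
      ((k'.aut_iff hτ l4 rfl).2 a1)) (by rwa [MulEquiv.orderOf_eq])).tr h.toInv i1 fun y hy => ?_
    obtain ⟨x, hx, rfl⟩ := i.surj hy
    rw [hτ α x hx, i2 x hx, i2 _ (ap_mem α hx)]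
  · have a := a1.tr h.toInv i (hτ α)
    refine (k'.aut_iff hτ l4 rfl).1 (s2.aut _ (im_mono l4) _ (hM.mem _ (im_mono l3) ((im_mono l4).trans l1) _ a
      fun y hy => ?_) a.cop)
    obtain ⟨x, hx, rfl⟩ := iU.surj hy
    rw [hτ α x (l3 hx)]; exact iU.mem (a2 x hx)

end CfsgFS
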