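import Cfsg.Agent.FS.Prod1

/-! The product of a normal subsystem with the Sylow subgroup. -/

set_option autoImplicit false
set_option linter.unusedSectionVars false

namespace CfsgFS

open Subgroup Cfsg Cfsg.FusionSystem CfsgH9
open CfsgH2 (resIn)
open scoped commutatorElement

variable {p : ℕ} {Ω : Type*} [Group Ω] {S T : Subgroup Ω} {F D : FusionSystem S} {E : FusionSystem T}
  {P Q R U W : Subgroup Ω} {f g ψ : Ω → Ω}

theorem mem_of_md (h : ∀ x ∈ P, x⁻¹ * f x ∈ T) (hW : P ⊔ T ≤ W) {x : Ω} (hx : x ∈ P) : f x ∈ W := by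
  simpa using mmul (hW (mem_sup_left hx)) (hW (mem_sup_right (h x hx)))

theorem mem_of_md' (h : ∀ x ∈ P, x⁻¹ * f x ∈ T) (hW : im P f ⊔ T ≤ W) {x : Ω} (hx : x ∈ P) : x ∈ W := by
  simpa using mmul (hW (mem_sup_left (mem_im_of_mem f hx))) (minv (hW (mem_sup_right (h x hx))))

/-- morphisms trivial modulo `T` all of whose conjugates lie in `D` -/
structure XM (F : FusionSystem S) (E : FusionSystem T) (D : FusionSystem S) (P : Subgroup Ω) (f : Ω → Ω) : Prop where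
  mor : Mor F P f
  md : ∀ x ∈ P, x⁻¹ * f x ∈ T
  mE : Mor E (P ⊓ T) f
  mD : ∀ P₁ ≤ P, ∀ W ψ g, Mor F W ψ → P₁ ⊔ T ≤ W → (∀ x ∈ P₁, g (ψ x) = ψ (f x)) → Mor D (im P₁ ψ) g

theorem XM.congr (h : XM F E D P f) (e : ∀ x ∈ P, f x = g x) : XM F E D P g :=
  ⟨h.mor.congr e, fun x hx => e x hx ▸ h.md x hx, h.mE.congr fun x hx => e x hx.1,
    fun P₁ l W ψ k a b c => h.mD P₁ l W ψ k a b fun x hx => by rw [c x hx, e x (l hx)]⟩

theorem XM.restrict (h : XM F E D P f) (l : Q ≤ P) : XM F E D Q f :=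
  ⟨h.mor.restrict l, fun x hx => h.md x (l hx), h.mE.restrict (inf_le_inf_right _ l), fun P₁ l' => h.mD P₁ (l'.trans l)⟩

theorem XM.morD (h : XM F E D P f) (hT : T ≤ S) : Mor D P f := by
  have := h.mD P le_rfl S (fun x => x) f (mor_id F le_rfl) (sup_le h.mor.le hT) fun _ _ => rfl
  rwa [im_id] at this

theorem XM.comp (h : XM F E D P f) (h' : XM F E D Q g) (l : ∀ x ∈ P, f x ∈ Q) : XM F E D P fun x => g (f x) := by
  refine ⟨h.mor.comp h'.mor l, fun x hx => by simpa [mul_assoc] using mmul (h.md x hx) (h'.md _ (l x hx)),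
    h.mE.comp h'.mE fun x hx => ⟨l x hx.1, h.mE.mem hx⟩, fun P₁ l₁ W ψ k a b c => ?_⟩
  obtain ⟨ψ', j1, j2⟩ := a.symm
  have m : ∀ x ∈ P₁, f x ∈ W := fun x => mem_of_md (fun x hx => h.md x (l₁ hx)) b
  have b' := le_sup_left.trans b
  have k1 := h.mD P₁ l₁ W ψ (fun y => ψ (f (ψ' y))) a b fun x hx => by simp only [j2 x (b' hx)]
  have k2 := h'.mD (im P₁ f) (im_le.2 fun x hx => l x (l₁ hx)) W ψ (fun y => ψ (g (ψ' y))) a
    (sup_le (im_le.2 m) (le_sup_right.trans b)) fun x hx => by simp only [j2 x (im_le.2 m hx)]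
  refine (k1.comp k2 fun y hy => ?_).congr fun y hy => ?_
  all_goals obtain ⟨x, hx, rfl⟩ := (a.restrict b').mem_im.1 hy
  · simp only [j2 x (b' hx)]; exact mem_im_of_mem _ (mem_im_of_mem _ hx)
  · simp only [j2 x (b' hx), j2 _ (m x hx), c x hx]

theorem XM.symm (hT : F.StronglyClosed T) (h : XM F E D P f) (e : ∀ x ∈ P, g (f x) = x) : XM F E D (im P f) g := by
  obtain ⟨g', g1, g2⟩ := h.mor.symm
  have e' : ∀ y ∈ im P f, g' y = g y := fun y hy => by
    obtain ⟨x, hx, rfl⟩ := h.mor.mem_im.1 hy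
    rw [g2 x hx, e x hx]
  replace g1 := g1.congr e'
  refine ⟨g1, fun y hy => ?_, ?_, fun P₁ l₁ W ψ k a b c => ?_⟩
  · obtain ⟨x, hx, rfl⟩ := h.mor.mem_im.1 hy
    rw [e x hx]; simpa using minv (h.md x hx)
  · obtain ⟨k, k1, k2⟩ := h.mE.symm
    rw [← SC.im_inf hT h.mor]
    refine k1.congr fun y hy => ?_
    obtain ⟨x, hx, rfl⟩ := h.mE.mem_im.1 hy
    rw [k2 x hx, e x hx.1]
  have e2 : ∀ y ∈ P₁, f (g y) = y := fun y hy => by
    obtain ⟨x, hx, rfl⟩ := h.mor.mem_im.1 (l₁ hy)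
    rw [e x hx]
  have l₂ : im P₁ g ≤ P := im_le.2 fun y hy => by
    obtain ⟨x, hx, rfl⟩ := h.mor.mem_im.1 (l₁ hy)
    rwa [e x hx]
  have e3 : im (im P₁ g) f = P₁ := by rw [(g1.restrict l₁).im_im, im_eq_of_eq_self e2]
  have l₃ : im P₁ g ≤ W := fun x => mem_of_md' (fun x hx => h.md x (l₂ hx)) (e3.symm ▸ b)
  obtain ⟨ψ', j1, j2⟩ := a.symm
  obtain ⟨k', k1, k2⟩ := (h.mD _ l₂ W ψ (fun y => ψ (f (ψ' y))) a (sup_le l₃ (le_sup_right.trans b))
    fun x hx => by simp only [j2 x (l₃ hx)]).symm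
  rw [(a.restrict l₃).im_im, im_congr (g := fun x => ψ (f x)) fun x hx => by simp only [j2 x (l₃ hx)],
    ← (h.mor.restrict l₂).im_im, e3] at k1
  refine k1.congr fun y hy => ?_
  obtain ⟨x, hx, rfl⟩ := (a.restrict (le_sup_left.trans b)).mem_im.1 hy
  have := k2 _ (mem_im_of_mem ψ (mem_im_of_mem g hx))
  simp only [j2 _ (l₃ (mem_im_of_mem g hx)), e2 x hx] at this
  rw [this, c x hx]

theorem xm_conj (hE : E.IsSubsystemOf F) (hT : F.StronglyClosed T) (hP : P ≤ S) {t : Ω} (ht : t ∈ T) :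
    XM F E D P fun x => t * x * t⁻¹ :=
  ⟨mor_conj F hP (hT.1 ht), fun _ hx => inv_mul_conj_mem (hP.trans (SC.norm hT)) ht hx, mor_conj E inf_le_right ht,
    fun P₁ _ W ψ k a b c => (mor_conj D (a.restrict (le_sup_left.trans b)).im_le_S
      (a.mem (b (mem_sup_right ht)))).congr fun y hy => by
        obtain ⟨x, hx, rfl⟩ := (a.restrict (le_sup_left.trans b)).mem_im.1 hy
        rw [c x hx, a.map_conj (b (mem_sup_right ht)) (b (mem_sup_left hx))]⟩

theorem xm_id (hE : E.IsSubsystemOf F) (hT : F.StronglyClosed T) (hP : P ≤ S) : XM F E D P fun x => x :=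
  (xm_conj hE hT hP (one_mem T)).congr fun x _ => by simp

variable [Finite S] [Fact p.Prime]

theorem XM.tr (hE : Inv E F) (h : XM F E D P f) (a : Mor F W ψ) (b : P ⊔ T ≤ W) (e : ∀ x ∈ P, g (ψ x) = ψ (f x)) :
    XM F E D (im P ψ) g := by
  have := finite_of_le hE.le
  have b1 := le_sup_left.trans b
  have b2 := le_sup_right.trans b
  have m : ∀ x ∈ P, f x ∈ W := fun x => mem_of_md h.md b
  obtain ⟨k, k1, k2⟩ := mor_conjugate h.mor a b1 m
  refine ⟨k1.congr fun y hy => ?_, fun y hy => ?_, hE.sinv.mor h.mE (a.restrict b2) le_rfl inf_le_right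
    (fun x => h.mE.mem) (SC.im_inf hE.sc (a.restrict b1)) fun x hx => e x hx.1, fun P₁ l₁ W' ψ' k' a' b' c => ?_⟩
  · obtain ⟨x, hx, rfl⟩ := (a.restrict b1).mem_im.1 hy
    rw [k2 x hx, e x hx]
  · obtain ⟨x, hx, rfl⟩ := (a.restrict b1).mem_im.1 hy
    rw [e x hx, ← a.inv (b1 hx), ← a.mul (minv (b1 hx)) (m x hx)]
    exact SC.mem hE.sc a (b2 (h.md x hx)) (h.md x hx)
  have hi := Iso.hiso (Mor.iso' a b1)
  obtain ⟨P₀, l₀, rfl⟩ : ∃ P₀ ≤ P, im P₀ ψ = P₁ := ⟨pre P ψ P₁, pre_le, le_antisymm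
    (im_le.2 fun x hx => ((mem_pre hi.hom).1 hx).2) fun y hy => by
      obtain ⟨x, hx, rfl⟩ := hi.surj (l₁ hy)
      exact mem_im_of_mem _ (mem_pre_of hx hy)⟩
  have l : P₀ ⊔ T ≤ W := sup_le (l₀.trans b1) b2
  rw [(a.restrict (l₀.trans b1)).im_im]
  exact h.mD P₀ l₀ (P₀ ⊔ T) _ k' ((a.restrict l).comp a' (maps_of_sup (a.restrict l).homOn
    (fun x hx => b' (mem_sup_left (mem_im_of_mem _ hx))) fun x hx => b' (mem_sup_right (SC.mem hE.sc a (b2 hx) hx))))
    le_rfl fun x hx => by simp only [c _ (mem_im_of_mem ψ hx), e x (l₀ hx)]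

/-- `D` is generated by the admissible automorphisms -/
structure GES (F : FusionSystem S) (E : FusionSystem T) (p : ℕ) (D : FusionSystem S) : Prop where
  sub : D.IsSubsystemOf F
  gen : ∀ P α, TC F T (P ⊓ T) → Adm F E p P α → Mor D P (ap α)
  min : ∀ (U : Subgroup Ω) (D' : FusionSystem U), S ≤ U → (∀ P α, TC F T (P ⊓ T) → Adm F E p P α → Mor D' P (ap α)) →
    D.IsSubsystemOf D'

theorem exists_ges (F : FusionSystem S) (E : FusionSystem T) (p : ℕ) : ∃ D, GES F E p D := by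
  obtain ⟨D, d1, d2, d3⟩ := exists_gen F le_rfl (fun P f => ∃ α, TC F T (P ⊓ T) ∧ Adm F E p P α ∧ f = ap α)
    (by rintro P _ ⟨α, -, a, rfl⟩; exact ⟨a.mor, a.mor.le, fun x => a.mor.mem⟩)
  exact ⟨D, d1, fun P α a b => d2 P _ ⟨α, a, b, rfl⟩, fun U D' l h => d3 U D' l (by
    rintro P _ ⟨α, a, b, rfl⟩; exact h P α a b)⟩

theorem GES.xm (h : GES F E p D) (hE : Inv E F) {α : MulAut P} (c : TC F T (P ⊓ T)) (a : Adm F E p P α) :
    XM F E D P (ap α) := by
  refine ⟨a.mor, a.md, a.mE, fun P₁ l₁ W ψ k m b e => ?_⟩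
  obtain ⟨β, b1, b2⟩ := a.res (R := P ⊓ W) inf_le_left fun x hx => ⟨ap_mem α hx.1, mem_of_md (P := P ⊓ W)
    (fun x hx => a.md x hx.1) (sup_le inf_le_right (le_sup_right.trans b)) hx⟩
  have i := Mor.iso' m (inf_le_right : P ⊓ W ≤ W)
  obtain ⟨τ, hτ⟩ := exists_tr i
  have l : P₁ ≤ P ⊓ W := le_inf l₁ (le_sup_left.trans b)
  have e1 : P ⊓ W ⊓ T = P ⊓ T := by rw [inf_assoc, inf_of_le_right (le_sup_right.trans b)]
  refine ((h.gen _ _ (by
    rw [← SC.im_inf hE.sc i.mor, e1]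
    exact c.im hE.sc (m.restrict (inf_le_right.trans (le_sup_right.trans b))))
    (b1.tr hE i (hτ β))).restrict (im_mono l)).congr fun y hy => ?_
  obtain ⟨x, hx, rfl⟩ := (i.mor.restrict l).mem_im.1 hy
  rw [hτ β x (l hx), e x hx, b2 x (l hx)]

/-- Frattini factorisation over the whole Sylow subgroup -/
theorem GES.frs (h : GES F E p D) (hE : Inv E F) (hF : Sat F p) (hf : Mor F P f) :
    ∃ d ψ, XM F E D P d ∧ Mor F (P ⊔ T) ψ ∧ ∀ x ∈ P, f x = ψ (d x) := by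
  have := finite_of_le hE.le
  have nT := SC.norm hE.sc
  refine (exists_sub F S le_rfl (fun P f => ∃ d ψ, XM F E D P d ∧ Mor F (P ⊔ T) ψ ∧ ∀ x ∈ P, f x = ψ (d x))
    ?_ ?_ ?_ ?_).elim fun Y hY => ?_
  rotate_right
  · refine ((hY P f).1 (hf.sub (hF.sub_ih le_rfl fun P hP ih α hα => ?_))).2.2.2
    have m := (mem_autGroup hP.le).1 hα
    by_cases hT : T ≤ P
    · exact (hY _ _).2 ⟨m, m.le, fun x => m.mem, _, _, xm_id hE.sub hE.sc m.le, m.restrict (sup_le le_rfl hT),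
        fun _ _ => rfl⟩
    have := aut_finite hP.le
    have c := tc_of_cr hF hE.sc hP.centric (hP.rad hF)
    have nK : F.autGroup P ≤ NN(modA P T ⊓ KR P (E.autGroup (P ⊓ T))) := fun l hl => by
      refine norm_inf (modA_norm hE.sc hP.le hl) (mem_normalizer_of_finite fun β hβ => ?_)
      obtain ⟨b, b1, b2⟩ := mem_KR.1 hβ
      obtain ⟨l', l1, l2, -⟩ := exists_res_aut (Q := P ⊓ T) inf_le_left hP.le hl fun x hx =>
        ⟨ap_mem _ hx.1, SC.mem hE.sc ((mem_autGroup hP.le).1 hl) hx.1 hx.2⟩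
      refine mem_KR.2 ⟨_, hE.sinv.aut_conj hE.sub inf_le_right l1 b1, fun x hx => ?_⟩
      obtain ⟨y, hy, rfl⟩ := (iso_ap (inf_le_left.trans hP.le) l1).surj hx
      rw [ap_mul, ap_mul, ap_mul, ap_mul, ap_inv_ap, l2 y hy, ap_inv_ap, b2 y hy, l2 _ (ap_mem b hy)]
    have s := (hF.syl hP.fn).inf_normal nK
    obtain ⟨κ, k1, g, g1, g2⟩ := frattini_ext (hF.rc' hP.fn) s nK hα
    obtain ⟨t, t1, t2, t3⟩ := exists_mem_normalizer_sup hF.pg hP.le hE.le (hP.le.trans nT) hT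
    have lt : P < P ⊔ NK S (modA P T ⊓ KR P (E.autGroup (P ⊓ T))) := lt_of_le_of_ne le_sup_left fun e => t2 (by
      have n := norm_inf t3 (le_normalizer t1)
      exact e ▸ mem_sup_right (mem_NK.2 ⟨hE.le t1, t3, cj_mem_modA (hP.le.trans nT) t1 t3,
        (cj_mem_KR inf_le_left t3).2 ⟨n, cj_mem_autGroup E inf_le_right t1⟩⟩))
    have k2 : κ ∈ Y.autGroup P := Syl.le_of_coprime s (inf_le_left.trans (autInducedBy_le Y hP.le)) (fun β b1 b2 => by
      have m := (mem_autGroup hP.le).1 b1.1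
      obtain ⟨b, b3, b4⟩ := mem_KR.1 b1.2.2
      exact Mor.mem_autGroup ((hY _ _).2 ⟨m, m.le, fun x => m.mem, _, _, h.xm hE c ⟨m, b2, mem_modA.1 b1.2.1,
        ((mem_autGroup inf_le_right).1 b3).congr fun x hx => (b4 x hx).symm⟩, mor_id F (sup_le m.le hE.le),
        fun _ _ => rfl⟩)) k1
    refine (((ih _ (card_lt_of_lt' lt g1.le) g g1).restrict le_sup_left).comp ((mem_autGroup hP.le).1 k2)
      fun x hx => ?_).congr fun x hx => (g2 x hx).symm
    rw [← ap_inv_ap κ (g x), ← g2 x hx]; exact ap_mem _ (ap_mem _ hx)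
  · rintro P f g - ⟨d, ψ, a, b, c⟩ e
    exact ⟨d, ψ, a, b, fun x hx => e x hx ▸ c x hx⟩
  · exact fun P s hP hs => ⟨_, _, xm_id hE.sub hE.sc hP, mor_conj F (sup_le hP hE.le) hs, fun _ _ => rfl⟩
  · rintro P Q f g hf - - - - ⟨d, ψ, a, b, c⟩ ⟨d', ψ', a', b', c'⟩ l
    obtain ⟨χ, j1, j2, j3⟩ := b.iso.symm
    have m : ∀ x ∈ P, d x ∈ P ⊔ T := fun x => mem_of_md a.md le_rfl
    have l1 : im P f ⊔ T ≤ im (P ⊔ T) ψ := sup_le (im_le.2 fun x hx => c x hx ▸ mem_im_of_mem _ (m x hx))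
      ((SC.im_eq hE.sc b le_sup_right).ge.trans (im_mono le_sup_right))
    have a2 := a'.restrict (im_le.2 l)
    refine ⟨_, _, a.comp (a2.tr hE j1.mor l1 (g := fun y => χ (d' (ψ y))) fun y hy => by
      simp only [j3 y (l1 (mem_sup_left hy))]) fun x hx => ?_, b.comp b' (maps_of_sup b.homOn (fun x hx => ?_)
        fun x hx => mem_sup_right (SC.mem hE.sc b (mem_sup_right hx) hx)), fun x hx => ?_⟩
    · rw [← j2 _ (m x hx), ← c x hx]; exact mem_im_of_mem _ (mem_im_of_mem _ hx)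
    · have := mmul (mem_sup_left (l x hx)) (minv (mem_sup_right (SC.mem hE.sc b (mem_sup_right (a.md x hx))
        (a.md x hx))) : _ ∈ Q ⊔ T)
      rw [c x hx, b.mul (minv (mem_sup_left hx)) (m x hx), b.inv (mem_sup_left hx)] at this
      simpa using this
    · simp only [← c x hx]
      rw [j3 _ (mem_of_md a2.md l1 (mem_im_of_mem f hx)), c' _ (l x hx)]
  · rintro P Q f g hf hg - - e e' ⟨d, ψ, a, b, c⟩
    obtain ⟨χ, j1, j2, j3⟩ := b.iso.symm
    obtain ⟨d', d1, d2⟩ := a.mor.symm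
    have m : ∀ x ∈ P, d x ∈ P ⊔ T := fun x => mem_of_md a.md le_rfl
    have := (a.symm hE.sc d2).tr hE b (sup_le (im_le.2 m) le_sup_right) (g := fun y => ψ (d' (χ y)))
      fun y hy => by simp only [j2 y (im_le.2 m hy)]
    rw [a.mor.im_im, ← im_congr c, hf.im_eq] at this
    refine ⟨_, _, this, j1.mor.restrict (sup_le (fun y hy => ?_)
      ((SC.im_eq hE.sc b le_sup_right).ge.trans (im_mono le_sup_right))), fun y hy => ?_⟩
    all_goals obtain ⟨x, hx, rfl⟩ := hf.surj hy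
    · exact c x hx ▸ mem_im_of_mem _ (m x hx)
    · rw [e x hx, c x hx]; simp only [j2 _ (m x hx), d2 x hx, j2 x (mem_sup_left hx)]

theorem GES.xtr (h : GES F E p D) (hE : Inv E F) (hF : Sat F p) (a : XM F E D P f) (m : Mor F Q ψ) (l : P ≤ Q)
    (l' : ∀ x ∈ P, f x ∈ Q) (e : ∀ x ∈ P, g (ψ x) = ψ (f x)) : XM F E D (im P ψ) g := by
  obtain ⟨d, χ, a1, a2, a3⟩ := h.frs hE hF m
  obtain ⟨d', d1, d2⟩ := (a1.mor.restrict l).symm
  have a4 := (((a1.restrict l).symm hE.sc d2).comp a fun y hy => by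
    obtain ⟨x, hx, rfl⟩ := (a1.mor.restrict l).mem_im.1 hy
    rwa [d2 x hx]).comp a1 fun y hy => by
    obtain ⟨x, hx, rfl⟩ := (a1.mor.restrict l).mem_im.1 hy
    rw [d2 x hx]; exact l' x hx
  have := a4.tr hE a2 (sup_le (im_le.2 fun x hx => mem_of_md a1.md le_rfl (l hx)) le_sup_right) (g := g) fun y hy => by
    obtain ⟨x, hx, rfl⟩ := (a1.mor.restrict l).mem_im.1 hy
    rw [d2 x hx, ← a3 x (l hx), ← a3 _ (l' x hx), e x hx]
  rwa [(a1.mor.restrict l).im_im, ← im_congr fun x hx => a3 x (l hx)] at this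

theorem GES.dec (h : GES F E p D) (hE : Inv E F) (hf : Mor D P f) :
    ∃ s ∈ S, XM F E D P fun x => s⁻¹ * f x * s := by
  refine (exists_sub F S le_rfl (fun P f => ∃ s ∈ S, XM F E D P fun x => s⁻¹ * f x * s)
    ?_ ?_ ?_ ?_).elim fun Y hY => ?_
  rotate_right
  · exact ((hY P f).1 (hf.sub (h.min S Y le_rfl fun P α c a => (hY _ _).2 ⟨a.mor, a.mor.le, fun x => a.mor.mem,
      1, one_mem _, (h.xm hE c a).congr fun x _ => by simp⟩))).2.2.2
  · rintro P f g - ⟨s, a, b⟩ e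
    exact ⟨s, a, b.congr fun x hx => by rw [e x hx]⟩
  · exact fun P s hP hs => ⟨s, hs, (xm_id hE.sub hE.sc hP).congr fun x _ => by group⟩
  · rintro P Q f g - hg - - - ⟨s, a, b⟩ ⟨t, a', b'⟩ l
    refine ⟨t * s, mmul a' a, (b.comp (b'.tr hE (mor_conj F le_rfl (minv a)) (sup_le hg.le hE.le)
      (g := fun y => s⁻¹ * (t⁻¹ * g (s * y * s⁻¹) * t) * s) fun x _ => by group) fun x hx => by
        simpa using mem_im_of_mem (fun x => s⁻¹ * x * s⁻¹⁻¹) (l x hx)).congr fun x _ => by group⟩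
  · rintro P Q f g hf hg - - e e' ⟨s, a, b⟩
    have := (b.symm hE.sc (g := fun y => g (s * y * s⁻¹)) fun x hx => by simp [mul_assoc, e x hx]).tr hE
      (mor_conj F le_rfl a) (sup_le b.mor.im_le_S hE.le) (g := fun y => s * g y * s⁻¹) fun _ _ => rfl
    rw [b.mor.im_im, im_congr (g := f) fun x _ => by group, hf.im_eq] at this
    exact ⟨s⁻¹, minv a, this.congr fun x _ => by group⟩

theorem GES.xm_of (h : GES F E p D) (hE : Inv E F) (hS : IsPGroup p S) (hP : P ≤ S) {α : MulAut P}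
    (hα : α ∈ D.autGroup P) (ho : (orderOf α).Coprime p) : XM F E D P (ap α) := by
  obtain ⟨s, a, b⟩ := h.dec hE ((mem_autGroup hP).1 hα)
  have key : ∀ n : ℕ, XM F E D P fun x => (s ^ n)⁻¹ * ap (α ^ n) x * s ^ n := fun n => by
    induction n with
    | zero => exact (xm_id hE.sub hE.sc hP).congr fun x _ => by simp [ap_one]
    | succ n ih =>
      exact (ih.comp (b.tr hE (mor_conj F le_rfl (minv (pow_mem a n))) (sup_le hP hE.le)
        (g := fun y => (s ^ n)⁻¹ * (s⁻¹ * ap α (s ^ n * y * (s ^ n)⁻¹) * s) * s ^ n) fun x _ => by group) fun x hx => by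
          simpa using mem_im_of_mem (fun x => (s ^ n)⁻¹ * x * (s ^ n)⁻¹⁻¹) (ap_mem (α ^ n) hx)).congr fun x _ => by
        rw [pow_succ' α, ap_mul, pow_succ' s]; group
  obtain ⟨k, hk⟩ := pow_eq_one_of_isPGroup hS a
  let B : Subgroup (MulAut P) :=
    { carrier := {β | XM F E D P (ap β)}
      one_mem' := (xm_id hE.sub hE.sc hP).congr fun x _ => (ap_one x).symm
      mul_mem' := fun h1 h2 => (XM.comp h2 h1 fun x => ap_mem _).congr fun x _ => (ap_mul _ _ x).symm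
      inv_mem' := fun {β} h1 => by
        have := XM.symm hE.sc h1 (g := ap β⁻¹) fun x _ => ap_inv_ap β x
        rwa [im_ap] at this }
  exact mem_of_pow_p (K := B) (ndvd_of_coprime ho) (by rw [pow_orderOf_eq_one]; exact one_mem _)
    (k := k) ((key (p ^ k)).congr fun x _ => by simp [hk])

theorem GES.adm (h : GES F E p D) (hE : Inv E F) (hS : IsPGroup p S) (hP : P ≤ S) {α : MulAut P}
    (hα : α ∈ D.autGroup P) (ho : (orderOf α).Coprime p) : Adm F E p P α :=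
  have a := h.xm_of hE hS hP hα ho
  ⟨a.mor, ho, a.md, a.mE⟩

theorem GES.pinv (h : GES F E p D) (hE : Inv E F) (hF : Sat F p) {α : MulAut P} {β : MulAut Q} (i : Iso F P Q f)
    (e : ∀ x ∈ P, ap β (f x) = f (ap α x)) (hα : α ∈ D.autGroup P) (ho : (orderOf α).Coprime p) :
    β ∈ D.autGroup Q := by
  have := (h.xtr hE hF (h.xm_of hE hF.pg i.le hα ho) i.mor le_rfl (fun x => ap_mem α) e).morD hE.le
  rw [i.im_eq] at this
  exact this.mem_autGroup

theorem GES.sat (h : GES F E p D) (hE : Nrm E F p) : Sat D p := by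
  have hF := hE.satF
  have := finite_of_le hE.le
  have sc := SC.sub hE.sc h.sub hE.le
  refine (glue_main (F := D) (𝒞 := TC F T) (Adm := Adm F E p) hF.pg ⟨sc, fun U U' a b => a.conj hE.sc ?_,
    fun U U' => TC.mono, fun P _ c α a => (h.gen P α c a).mem_autGroup, fun Y hY => le_iff_sub.2
      (h.min S Y le_rfl fun P α c a => hY P a.mor.le c α a), fun P Q f α β i => Adm.tr hE.toInv (i.sub h.sub)⟩
    (tc_top hE.sc) E.IsFullyNormalized (fun U hU => ?_) (fun U _ => hE.loc) fun Q hQ _ fn c => ?_).1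
  · obtain ⟨f, i⟩ := isConj_iff.1 b
    exact (i.sub h.sub).isConj
  · obtain ⟨φ, f1, f2⟩ := hF.exists_fn_nmap (hU.trans hE.le)
    obtain ⟨d, ψ, a1, a2, a3⟩ := h.frs hE.toInv hF f1
    have l := le_normalizerIn (hU.trans hE.le)
    obtain ⟨α, b1, b2⟩ := ((a2.restrict le_sup_right).iso_self fun x hx =>
      SC.mem hE.sc a2 (mem_sup_right hx) hx).exists_aut
    have m := a1.mE.restrict (le_inf l hU)
    refine ⟨d, a1.morD hE.le, ((hE.fiso b1).fn_iff m.im_le_S).1 ?_⟩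
    rw [m.im_im, im_congr (g := φ) fun x hx => by rw [b2 _ (m.mem hx), a3 x (l hx)]]
    exact hF.fn_sub hE.sc hE.sub (im_le.2 fun x hx => SC.mem hE.sc f1 (l hx) (hU hx)) f2
  · have nT := SC.norm hE.sc
    have nU : Q ≤ NN(Q ⊓ T) := fun x hx => norm_inf (le_normalizer hx) (nT (hQ hx))
    obtain ⟨x, x1, x2, x3⟩ := exists_mem_normalizer_sup hF.pg hQ (Q := CI(T, Q ⊓ T)) (centralizerIn_le.trans hE.le)
      (fun x hx => norm_inf (nT (hQ hx)) (cent_norm _ (nU hx))) fun l => c (hE.centric_iff.1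
        (hE.sat.centric (hE.sat.fc fn) (le_inf l centralizerIn_le)))
    refine ⟨x, ⟨hE.le x1.1, x3⟩, x2, mem_opIn_of_sc hF.pg sc hQ (cj_mem_autGroup D hQ (hE.le x1.1))
      (fun y a b => ?_) fun y a => ?_⟩
    · rw [ap_cj x3 a, ← x1.2 y ⟨a, b⟩, mul_inv_cancel_right]
    · rw [ap_cj x3 a]; exact inv_mul_conj_mem (hQ.trans nT) x1.1 a

theorem GES.ppi (h : GES F E p D) (hE : WNrm E F p) : PPI E D p := by
  have := finite_of_le hE.le
  refine ⟨hE.sat.sub_of hE.le fun P hP α a b => ?_, hyp_le fun P hP α a b => (h.adm hE.toInv hE.satF.pg hP a b).md,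
    fun P hP α a b => ((h.adm hE.toInv hE.satF.pg (hP.trans hE.le) a b).mE.restrict (le_inf le_rfl hP)).mem_autGroup⟩
  have m := (mem_autGroup hP.le).1 a
  exact h.gen P α (by rw [inf_of_le_left hP.le]; exact hE.centric_iff.1 hP.centric)
    ⟨m.sub hE.sub, b, fun x hx => hP.le (mmul (minv hx) (ap_mem α hx)), m.restrict inf_le_left⟩

theorem extG_sub (h : D.IsSubsystemOf F) : extG D T U ≤ extG F T U := fun _ a l =>
  let ⟨g, g1, g2⟩ := a l; ⟨g, g1.sub h, g2⟩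

theorem Inv.ap_hyp (h : Inv E F) {α : MulAut T} (hα : α ∈ F.autGroup T) {x : Ω} (hx : x ∈ hyp(E, p)) :
    ap α x ∈ hyp(E, p) := (h.fiso hα).toFHom.im_hyp (mem_im_of_mem _ hx)

/-- `O^p` of a normal subsystem is normal -/
theorem Nrm.res {E₀ : FusionSystem hyp(E, p)} (h : Nrm E F p) (h1 : Sat E₀ p) (h2 : PPI E₀ E p) : Nrm E₀ F p := by
  have := finite_of_le h.le
  have := finite_of_le (hyp_le_S (F := E) (p := p))
  have n := h2.nrm h.sat h1 hyp_norm
  have sc := h.sc_of n.sc fun α a x => h.ap_hyp a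
  have sub := sub_trans h2.sub h.sub
  obtain ⟨D, hD⟩ := exists_ges F E p
  have sD := hD.sat h
  refine WNrm.nrm_of ⟨⟨sub, sc, fun P f hf α hα => inv_of_pprime h1 sub hα (fun P hP β b1 b2 γ _ c2 e => ?_) hf,
    fun P f hP hf => ?_⟩, h1.sat, h.satF⟩ fun α a b => ?_
  · have l := im_ap_le hP α
    refine h2.aut _ l γ (h.sinv.mor ((mem_autGroup (hP.trans h2.le)).1 (autGroup_mono h2.sub hP b1))
      ((mem_autGroup sc.1).1 hα) h2.le hP (fun x hx => hP (ap_mem β hx)) rfl e).mem_autGroup c2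
  · obtain ⟨α, a1, g, g1, g2⟩ := h.frat P f (hP.trans h2.le) hf
    obtain ⟨β, b1, k, k1, k2⟩ := n.frat P g hP g1
    obtain ⟨α', c1, c2, -⟩ := exists_res_aut h2.le h.le a1 fun x => h.ap_hyp a1
    exact ⟨α' * β, mmul c1 (autGroup_mono h.sub h2.le b1), k, k1, fun x hx => by
      rw [g2 x hx, k2 x hx, ap_mul, c2 _ (ap_mem _ (k1.mem hx))]⟩
  · have pp := hD.ppi h.toWNrm
    exact extG_sub hD.sub (extG_mono (pp.hyp_eq sD).ge (mem_extG_hyp (sD.rc' (fn_of_normal sc.1 (SC.norm sc)))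
      (autGroup_mono (sub_trans h2.sub pp.sub) le_rfl a) b))

theorem GES.le_of (h : GES F E p D) (hE : Inv E F) {D' : FusionSystem R} (h1 : Sat D' p) (h2 : D'.IsSubsystemOf F)
    (h3 : Nrm E D' p) (h4 : PPI E D' p) : D'.IsSubsystemOf D := by
  have := finite_of_le (subsystem_le h2)
  refine h1.sub_of (subsystem_le h2) fun P hP α a b => ?_
  have m := (mem_autGroup hP.le).1 a
  obtain ⟨β, b1, b2, b3⟩ := exists_res_aut (Q := P ⊓ T) inf_le_left hP.le a fun x hx =>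
    ⟨ap_mem α hx.1, SC.mem h3.sc m hx.1 hx.2⟩
  exact h.gen P α (hE.centric_iff.1 (h3.centric_iff.2 (tc_of_cr h1 h3.sc hP.centric (hP.rad h1))))
    ⟨m.sub h2, b, fun x hx => h4.hyp (mem_hyp hP.le a b hx), ((mem_autGroup inf_le_right).1
      (h4.aut _ inf_le_right β b1 (b.coprime_dvd_left b3))).congr b2⟩

theorem ppi_eq_of_le {D' : FusionSystem S} (h1 : Sat D p) (h2 : Sat D' p) (l : D'.IsSubsystemOf D) (h3 : PPI E D p)
    (h4 : E.IsSubsystemOf D') (hE : Sat E p) (hn : S ≤ NN(T)) : D.IsSubsystemOf D' := by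
  have n := h3.nrm h1 hE hn
  refine h1.sub_ih le_rfl fun P hP ih α a => bgh_main (A := P ⊓ T) h1 h2 l inf_le_left
    (fun x hx => norm_inf (le_normalizer hx) (hn (hP.le hx))) (fun f hf => ?_) ih (fun γ c1 c2 c3 => ?_)
    ((mem_autGroup hP.le).1 a)
  · obtain ⟨β, b1, g, g1, g2⟩ := n.frat _ f inf_le_right hf
    have := aut_finite h3.le
    exact ((g1.sub h4).comp ((mem_autGroup h3.le).1 (Syl.le_of_coprime (h1.syl (fn_of_normal h3.le hn))
      (autInducedBy_le D' h3.le) (fun γ c1 c2 => autGroup_mono h4 le_rfl (h3.aut T le_rfl γ c1 c2)) b1))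
      fun x => g1.mem).congr fun x hx => (g2 x hx).symm
  · have := finite_of_le h3.le
    obtain ⟨k, hk⟩ := pel_iff.1 (pel_of_fix (h1.pg.to_le h3.le) (fun x a b => c3 x ⟨a, b⟩)
      fun x hx => h3.hyp (mem_hyp hP.le c1 c2 hx))
    rw [← orderOf_eq_one_iff]
    exact (Nat.coprime_self _).1 (by have := c2.pow_right k; rwa [← hk] at this)

end CfsgFS
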