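import Cfsg.Agent.FS.Res3

/-! Fusion systems on `p`-groups with an abelian subgroup of index `p`. -/

set_option autoImplicit false
set_option linter.unusedSectionVars false

namespace CfsgFS

open Subgroup Cfsg Cfsg.FusionSystem CfsgH9
open CfsgH2 (centMod mem_centMod)
open scoped commutatorElement

universe u

scoped notation "Z₂(" X ")" => Subgroup.upperCentralSeries X 2

section grp
variable {X : Type*} [Group X] {p : ℕ} {A B U P : Subgroup X} {a x y : X}

theorem mem_z2 : a ∈ Z₂(X) ↔ ∀ y, a * y * a⁻¹ * y⁻¹ ∈ center X := by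
  rw [Subgroup.mem_upperCentralSeries_succ_iff, Subgroup.upperCentralSeries_one]; rfl

theorem comm_one_of_commute (h : Commute a y) : a * y * a⁻¹ * y⁻¹ = 1 := by rw [h.eq]; group

theorem center_le_z2 : center X ≤ Z₂(X) := fun _ ha =>
  mem_z2.2 fun y => by rw [comm_one_of_commute (mem_center_iff.1 ha y).symm]; exact one_mem _

theorem center_le_cc : center X ≤ CC(P) := center_le_centralizer _

theorem cc_top : CC((⊤ : Subgroup X)) = center X := by rw [coe_top, centralizer_univ]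

structure AI (p : ℕ) {X : Type*} [Group X] (A : Subgroup X) : Prop where
  pg : IsPGroup p X
  ab : A ≤ CC(A)
  idx : A.index = p
  na : center X ≠ ⊤

namespace AI
variable [Finite X] [hp : Fact p.Prime] (h : AI p A)
include h

theorem pgT : IsPGroup p (⊤ : Subgroup X) := h.pg.to_subgroup _
theorem ri : A.relIndex ⊤ = p := by rw [relIndex_top_right, h.idx]
theorem normal : A.Normal := normal_of_le (CfsgH2.le_normalizer_of_relIndex_prime h.pgT le_top h.ri)
theorem sup (hx : x ∉ A) : A ⊔ zpowers x = ⊤ := CfsgH2.sup_zpowers_eq_of_relIndex_prime h.ri le_top trivial hx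
theorem ex : ∃ x, x ∉ A := by
  by_contra! k
  exact hp.out.one_lt.ne' (h.idx.symm.trans (index_eq_one.2 (eq_top_iff.2 fun x _ => k x)))

theorem mem_center (ha : a ∈ A) (hx : x ∉ A) (c : Commute a x) : a ∈ center X := by
  have : a ∈ CC(A ⊔ zpowers x) := cent_sup (h.ab ha) (cent_zpowers_iff.2 c)
  rwa [h.sup hx, cc_top] at this

theorem center_le : center X ≤ A := fun x hx => by
  by_contra k
  exact h.na (top_le_iff.1 (h.sup k ▸ sup_le (fun a ha => h.mem_center ha k (mem_center_iff.1 hx a)) (zpowers_le.2 hx)))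

theorem rel (hx : x ∈ B) (hxA : x ∉ A) : (B ⊓ A).relIndex B = p := by
  haveI := h.normal
  rw [inf_comm, inf_relIndex_right]
  exact ((Nat.dvd_prime hp.out).1 (h.idx ▸ relIndex_dvd_index_of_normal A B)).resolve_left fun e =>
    hxA (relIndex_eq_one.1 e hx)

theorem card_inf (hx : x ∈ B) (hxA : x ∉ A) : Nat.card B = Nat.card ↥(B ⊓ A) * p := by
  rw [← h.rel hx hxA, CfsgH2.card_mul_relIndex inf_le_left]

theorem inf_sup (hx : x ∈ B) (hxA : x ∉ A) : (B ⊓ A) ⊔ zpowers x = B :=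
  CfsgH2.sup_zpowers_eq_of_relIndex_prime (h.rel hx hxA) inf_le_left hx fun k => hxA k.2

theorem ab' (hU : U ≤ A) : U ≤ CC(U) := hU.trans (h.ab.trans (centralizer_le hU))

theorem comm_eq (hU : U ≤ A) (hn : U.Normal) (hx : x ∉ A) : ⁅U, ⊤⁆ = ⁅U, zpowers x⁆ := by
  rw [← h.sup hx, commutator_sup_eq (h.ab' hU) (le_norm hn) (le_norm hn),
    commutator_eq_bot_iff_le_centralizer.2 (hU.trans h.ab), bot_sup_eq]

theorem inf_cent (hU : U ≤ A) (hx : x ∉ A) : U ⊓ CC(zpowers x) = U ⊓ center X :=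
  le_antisymm (fun _ k => ⟨k.1, h.mem_center (hU k.1) hx (cent_zpowers_iff.1 k.2)⟩) (inf_le_inf_left _ center_le_cc)

theorem card_comm (hU : U ≤ A) (hn : U.Normal) : Nat.card U = Nat.card ↥(U ⊓ center X) * Nat.card ↥(⁅U, ⊤⁆ : Subgroup X) := by
  obtain ⟨x, hx⟩ := h.ex
  rw [h.comm_eq hU hn hx, ← h.inf_cent hU hx]
  exact card_eq_mul_commutator (h.ab' hU) (le_norm (B := ⊤) hn trivial)

theorem der : commutator X = ⁅A, ⊤⁆ := by
  obtain ⟨x, hx⟩ := h.ex
  haveI := h.normal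
  exact le_antisymm (CfsgH2.commutator_le_of_sup_zpowers (h.sup hx) (le_norm inferInstance) le_rfl)
    (commutator_mono le_top le_rfl)

theorem der_le : commutator X ≤ A := by
  haveI := h.normal
  rw [h.der]; exact commutator_le_left _ _

theorem mem_der (hx : x ∉ A) (hy : y ∈ commutator X) : ∃ a ∈ A, x * a * x⁻¹ * a⁻¹ = y := by
  have n : x ∈ NN(A) := le_norm (B := ⊤) h.normal trivial
  have e : (commHom h.ab n).range = ⁅A, zpowers x⁆ := eq_of_le_of_card_ge (range_commHom_le h.ab n)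
    (Nat.eq_of_mul_eq_mul_left Nat.card_pos ((card_eq_mul_commutator h.ab n).symm.trans (card_eq_commHom h.ab n))).le
  rw [h.der, h.comm_eq le_rfl h.normal hx, ← e] at hy
  obtain ⟨a, rfl⟩ := hy
  exact ⟨a, a.2, rfl⟩

theorem card_A : Nat.card A = Nat.card (center X) * Nat.card (commutator X) := by
  rw [h.der, h.card_comm le_rfl h.normal, inf_eq_right.2 h.center_le]

theorem mem_z2' (ha : a ∈ A) (hx : x ∉ A) (e : x * a * x⁻¹ * a⁻¹ ∈ center X) : a ∈ Z₂(X) := by
  have : A ⊔ zpowers x ≤ centMod (center X) {a} := sup_le (fun b hb => mem_centMod.2 ⟨le_norm (B := ⊤) inferInstance trivial,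
    by rintro _ rfl; rw [comm_one_of_commute (comm_of_le h.ab hb ha)]; exact one_mem _⟩)
    (zpowers_le.2 (mem_centMod.2 ⟨le_norm (B := ⊤) inferInstance trivial, by rintro _ rfl; exact e⟩))
  exact mem_z2.2 fun y => CfsgH2.comm_mem_symm ((mem_centMod.1 (this (h.sup hx ▸ mem_top y))).2 a rfl)

theorem card_z2 : Nat.card ↥(Z₂(X) ⊓ A) = Nat.card (center X) * Nat.card ↥(center X ⊓ commutator X) := by
  obtain ⟨x, hx⟩ := h.ex
  rw [h.card_comm inf_le_right (inf_normal inferInstance h.normal), inf_eq_right.2 (le_inf center_le_z2 h.center_le)]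
  congr 3
  refine le_antisymm (le_inf (commutator_le.2 fun a ha y _ => mem_z2.1 ha.1 y) (commutator_mono le_top le_rfl)) fun y hy => ?_
  obtain ⟨a, ha, rfl⟩ := h.mem_der hx hy.2
  exact (commutator_comm _ _).le (commutator_mem_commutator (mem_top x) ⟨h.mem_z2' ha hx hy.1, ha⟩)

theorem lcs_card (hZ : Nat.card ↥(center X ⊓ commutator X) ≤ p) (i : ℕ) :
    Nat.card (commutator X) ≤ Nat.card ((⊤ : Subgroup X).lowerCentralSeries (i + 1)) * p ^ i := by
  induction i with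
  | zero => rw [pow_zero, mul_one]; exact le_rfl
  | succ i ih =>
    have l : (⊤ : Subgroup X).lowerCentralSeries (i + 1) ≤ commutator X :=
      Subgroup.lowerCentralSeries_antitone ⊤ (Nat.le_add_left 1 i)
    rw [h.card_comm (l.trans h.der_le) inferInstance] at ih
    refine ih.trans ?_
    rw [Subgroup.lowerCentralSeries_succ _ (i + 1), pow_succ', mul_comm (Nat.card _), mul_assoc]
    exact Nat.mul_le_mul_left _ (Nat.mul_le_mul_right _
      ((card_le_of_le (le_inf inf_le_right (inf_le_left.trans l))).trans hZ))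

theorem z2_le (hu : ∀ B : Subgroup X, B ≤ CC(B) → B.index = p → B = A)
    (hc : Nat.card ↥(Z₂(X) ⊓ A) = Nat.card (center X) * p) : Z₂(X) ≤ A := fun y hy => by
  by_contra k
  have e : Z₂(X) ⊓ A = A := inf_eq_right.2 fun a ha => h.mem_z2' ha k (mem_z2.1 hy a)
  rw [e] at hc
  have m : y ∈ center X ⊔ zpowers y := mem_sup_right (mem_zpowers y)
  have e2 : (center X ⊔ zpowers y) ⊓ A = center X := le_antisymm (fun a ha => h.mem_center ha.2 k
    (cent_zpowers_iff.1 ((sup_le center_le_cc (zpowers_le.2 (cent_zpowers_iff.2 (Commute.refl y))) : _ ≤ CC(zpowers y)) ha.1)))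
    (le_inf le_sup_left h.center_le)
  refine k (hu _ (CfsgH2.isMulCommutative_iff_le_centralizer.1 (CfsgH2.isMulCommutative_sup_zpowers inferInstance
    (le_centralizer_iff.1 (center_le_cc (P := ⊤)) (mem_top y)))) ?_ ▸ m)
  have := card_mul_index (center X ⊔ zpowers y)
  rw [h.card_inf m k, e2, ← hc, ← card_mul_index A, h.idx] at this
  exact Nat.eq_of_mul_eq_mul_left Nat.card_pos this

end AI
end grp

section
variable {Ω : Type u} [Group Ω] {S : Subgroup Ω} {F : FusionSystem S} {E P Q R U V Z : Subgroup Ω} {p : ℕ}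
  [Finite S] [hp : Fact p.Prime]

theorem Loc.relIndex {G : Type*} [Group G] {θ : Ω → G} {π : G →* F.autGroup R} (h : Loc F p R θ π) (h1 : U ≤ V)
    (h2 : V ≤ NI(S, R)) : (im U θ).relIndex (im V θ) = U.relIndex V := by
  haveI := finite_of_le ((h1.trans h2).trans normalizerIn_le)
  have := CfsgH2.card_mul_relIndex (im_mono h1 : im U θ ≤ im V θ)
  rw [h.card h2, h.card (h1.trans h2), ← CfsgH2.card_mul_relIndex h1] at this
  exact Nat.eq_of_mul_eq_mul_left Nat.card_pos this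

theorem Loc.cent_le {G : Type*} [Group G] {θ : Ω → G} {π : G →* F.autGroup R} (h : Loc F p R θ π) (h1 : U ≤ NI(S, R))
    (h2 : V ≤ NI(S, R)) (k : V ≤ CC(U)) : im V θ ≤ CC(im U θ) :=
  im_le.2 fun _ hx => (h.hiso.cent_iff h1 (h2 hx)).2 (k hx)

theorem Sat.ess_key (hF : Sat F p) (hE : F.IsEssential p E) (hU : U ≤ E) (hi : ∀ α ∈ F.autGroup E, ∀ x ∈ U, ap α x ∈ U)
    {a : Ω} (ha : a ∈ NI(S, E)) (h1 : Tq E U a) (h2 : a ∈ CC(U)) : a ∈ E := by
  obtain ⟨G, _, _, θ, π, l, k⟩ := hF.exists_ec hE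
  exact (l.mem_iff l.leN ha).1 (k.key2 k.nr (l.normal hU hi) inferInstance (im_mono hU) ctl_self (mem_im_of_mem θ ha)
    (l.tq ha l.leN h1) (tq_of_cent ((l.hiso.cent_iff (hU.trans l.leN) ha).2 h2)))

theorem Sat.ess_idxA (hF : Sat F p) (hE : F.IsEssential p E) (hZ : Z ≤ E) (h2 : NI(S, E) ≤ CC(Z))
    (hc : Nat.card E ≤ Nat.card Z * p) : E.relIndex NI(S, E) = p := by
  obtain ⟨G, _, _, θ, π, l, k⟩ := hF.exists_ec hE
  rw [← l.relIndex l.leN le_rfl]
  exact k.idxA (im_mono hZ) (l.cent_le (hZ.trans l.leN) le_rfl h2) (by rwa [l.card l.leN, l.card (hZ.trans l.leN)])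

theorem Sat.ess_idxB (hF : Sat F p) (hE : F.IsEssential p E) (hZ : Z ≤ E) (hi : ∀ α ∈ F.autGroup E, ∀ x ∈ Z, ap α x ∈ Z)
    (h2 : NI(S, E) ≤ CC(Z)) (hc : Nat.card E ≤ Nat.card Z * p ^ 2) : E.relIndex NI(S, E) = p := by
  obtain ⟨G, _, _, θ, π, l, k⟩ := hF.exists_ec hE
  rw [← l.relIndex l.leN le_rfl]
  exact k.idxB (l.normal hZ hi) (im_mono hZ) (l.cent_le (hZ.trans l.leN) le_rfl h2)
    (by rwa [l.card l.leN, l.card (hZ.trans l.leN)])

end

section top
variable {X : Type u} [Group X] [Finite X] {F : FusionSystem (⊤ : Subgroup X)} {A E P Q R U V : Subgroup X} {p : ℕ}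
  [hp : Fact p.Prime]

theorem ess_cc (hP : F.IsEssential p P) : CC(P) ≤ P := fun _ hx => centric_le hP.1 ⟨trivial, hx⟩

theorem ess_center (hP : F.IsEssential p P) : center X ≤ P := center_le_cc.trans (ess_cc hP)

theorem AI.ess (h : AI p A) (hF : Sat F p) (hP : F.IsEssential p P) :
    P.relIndex NI(⊤, P) = p ∧ (P = A ∨ ∃ x, x ∉ A ∧
      ((P = center X ⊔ zpowers x ∧ P ≤ CC(P) ∧ Nat.card P = Nat.card (center X) * p ∧
        Nat.card ↥(Z₂(X) ⊓ A) = Nat.card (center X) * p) ∨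
      (P = Z₂(X) ⊔ zpowers x ∧ P ⊓ CC(P) = center X ∧ Z₂(X) ≤ A ∧
        Nat.card ↥(Z₂(X) ⊓ A) = Nat.card (center X) * p))) := by
  by_cases hA : P = A
  · refine ⟨?_, Or.inl hA⟩
    rw [hA, show NI(⊤, A) = ⊤ from top_le_iff.1 (le_inf le_rfl (le_norm h.normal)), h.ri]
  have hZ := ess_center hP
  obtain ⟨x, hx, hxA⟩ : ∃ x ∈ P, x ∉ A := by
    by_contra! k
    exact hA (le_antisymm k (h.ab.trans ((centralizer_le k).trans (ess_cc hP))))
  have lt := lt_NI h.pgT (hF.ess_lt hP)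
  obtain ⟨a, ha, haP⟩ : ∃ a ∈ NI(⊤, P) ⊓ A, a ∉ P := by
    by_contra! k
    exact lt.not_ge (h.inf_sup (lt.le hx) hxA ▸ sup_le k (zpowers_le.2 hx))
  obtain ⟨α, hα, y, hy, hy'⟩ : ∃ α ∈ F.autGroup P, ∃ y ∈ P ⊓ A, ap α y ∉ P ⊓ A := by
    by_contra! k
    refine haP (hF.ess_key hP inf_le_left k ha.1 (fun z hz => ⟨mmul (CfsgH2.conj_mem_of_mem_normalizer ha.1.2 hz) (minv hz), ?_⟩)
      (h.ab.trans (centralizer_le inf_le_right) ha.2))
    simpa [mul_assoc] using mmul ha.2 (h.normal.conj_mem _ (minv ha.2) z)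
  have hm := (mem_autGroup le_top).1 hα
  have i1 := Iso.hiso (Mor.iso' hm (inf_le_left : P ⊓ A ≤ P))
  have yA : ap α y ∉ A := fun k => hy' ⟨ap_mem α hy.1, k⟩
  have c1 : Nat.card ↥(P ⊓ A) ≤ Nat.card (center X) * p := by
    rw [← i1.card_eq, h.card_inf (mem_im_of_mem _ hy) yA]
    exact Nat.mul_le_mul_right _ (card_le_of_le fun z hz => h.mem_center hz.2 yA
      (comm_of_le (i1.comm_iff.2 (h.ab' inf_le_right)) hz.1 (mem_im_of_mem _ hy)))
  have cP := h.card_inf hx hxA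
  have zl : center X ≤ P ⊓ A := le_inf hZ h.center_le
  by_cases ab : P ≤ CC(P)
  · have e : P ⊓ A = center X := le_antisymm (fun z hz => h.mem_center hz.2 hxA (comm_of_le ab hz.1 hx)) zl
    rw [e] at cP
    have ix := hF.ess_idxA hP hZ (le_centralizer_iff.1 center_le_cc) cP.le
    refine ⟨ix, Or.inr ⟨x, hxA, Or.inl ⟨by rw [← e, h.inf_sup hx hxA], ab, cP, ?_⟩⟩⟩
    have e2 : Z₂(X) ⊓ A = NI(⊤, P) ⊓ A := by
      refine le_antisymm (fun b hb => ⟨⟨trivial, mem_normalizer_of_finite fun z hz => ?_⟩, hb.2⟩) fun b hb =>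
        ⟨h.mem_z2' hb.2 hxA (e ▸ ⟨CfsgH2.comm_mem_symm (mmul (CfsgH2.conj_mem_of_mem_normalizer hb.1.2 hx) (minv hx)),
          mmul (h.normal.conj_mem _ hb.2 x) (minv hb.2)⟩), hb.2⟩
      simpa using mmul (hZ (mem_z2.1 hb.1 z)) hz
    have := CfsgH2.card_mul_relIndex lt.le
    rw [ix, h.card_inf (lt.le hx) hxA, ← e2, cP] at this
    exact (Nat.eq_of_mul_eq_mul_right hp.out.pos this).symm
  · have e : P ⊓ CC(P) = center X := by
      refine le_antisymm (fun z hz => ?_) (le_inf hZ center_le_cc)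
      by_cases k : z ∈ A
      · exact h.mem_center k hxA (hz.2 x hx).symm
      · refine absurd (CfsgH2.isMulCommutative_iff_le_centralizer.1 ?_) ab
        rw [← h.inf_sup hz.1 k]
        exact CfsgH2.isMulCommutative_sup_zpowers (CfsgH2.isMulCommutative_iff_le_centralizer.2 (h.ab' inf_le_right))
          (centralizer_le inf_le_left hz.2)
    have hi : ∀ α ∈ F.autGroup P, ∀ x ∈ center X, ap α x ∈ center X := fun α _ x hx => e ▸ ap_mem_center α (e ▸ hx)
    have c2 : Nat.card P ≤ Nat.card (center X) * p ^ 2 := by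
      rw [cP, sq, ← mul_assoc]; exact Nat.mul_le_mul_right _ c1
    have ix := hF.ess_idxB hP hZ hi (le_centralizer_iff.1 center_le_cc) c2
    have l1 : Z₂(X) ≤ P := fun b hb => hF.ess_key hP hZ hi
      ⟨trivial, mem_normalizer_of_finite fun z hz => by simpa using mmul (hZ (mem_z2.1 hb z)) hz⟩
      (fun z _ => mem_z2.1 hb z) (le_centralizer_iff.1 (center_le_cc (P := ⊤)) (mem_top b))
    have cm := CfsgH2.commutator_le_of_card_sq (h.pg.to_subgroup P) hZ (le_norm inferInstance) c2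
    have l2 : P ⊓ A ≤ Z₂(X) := fun b hb => h.mem_z2' hb.2 hxA (cm (commutator_mem_commutator hx hb.1))
    have e3 : Z₂(X) = P ⊓ A := by
      refine (CfsgH2.eq_or_eq_of_relIndex_prime (h.rel hx hxA) l2 l1).resolve_right fun k => ?_
      refine (hF.ess_lt hP).not_ge ?_
      rw [← h.sup hxA]
      exact sup_le (fun b hb => l1 (h.mem_z2' hb hxA (mem_z2.1 (k ▸ hx) b))) (zpowers_le.2 hx)
    refine ⟨ix, Or.inr ⟨x, hxA, Or.inr ⟨by rw [e3, h.inf_sup hx hxA], e, e3 ▸ inf_le_right, ?_⟩⟩⟩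
    rw [e3, inf_assoc, inf_idem, ← CfsgH2.card_mul_relIndex zl, relIndex_eq_prime (U := center X) (h.pg.to_subgroup _) ?_
      inf_le_right (relIndex_le_of_card zl c1)]
    refine fun k => ab (CfsgH2.isMulCommutative_iff_le_centralizer.1 (CfsgH2.isMulCommutative_of_sup_zpowers
      (h.inf_sup hx hxA) (k.trans center_le_cc)))

end top

end CfsgFS
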