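import Cfsg.Agent.FS.Res4

/-! Abelian essential subgroups of order `p |Z(S)|`. -/

set_option autoImplicit false
set_option linter.unusedSectionVars false

namespace CfsgFS

open Subgroup Cfsg Cfsg.FusionSystem CfsgH9
open CfsgH2 (centMod mem_centMod)
open scoped commutatorElement

universe u

section
variable {Ω : Type u} [Group Ω] {S : Subgroup Ω} {F : FusionSystem S} {E P Q R U V W Z M : Subgroup Ω} {p : ℕ} {x y z : Ω}

theorem HomOn.im_zpowers {Ω' : Type*} [Group Ω'] {θ : Ω → Ω'} (h : HomOn P θ) (hx : x ∈ P) :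
    im (zpowers x) θ = zpowers (θ x) :=
  le_antisymm (im_le.2 fun _ ⟨i, e⟩ => ⟨i, by rw [← e]; exact (h.zpow hx i).symm⟩) (zpowers_le.2 (mem_im_of_mem θ (mem_zpowers x)))

theorem mor_der {X X' : Type*} [Group X] [Group X'] {f : X → X'} (h : HomOn ⊤ f) {x : X} (hx : x ∈ commutator X) :
    f x ∈ commutator X' :=
  commutator_mono le_top le_top (HomOn.comm h (le_refl ⊤) (le_refl ⊤) ▸ mem_im_of_mem f hx)

theorem inv_mul_mem_two {G : Type*} [Group G] [Finite G] {A B : Subgroup G} (h1 : B ≤ A) (h : Nat.card A ≤ Nat.card B * 2)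
    {a b : G} (ha : a ∈ A) (hb : b ∈ A) (e : a ∈ B ↔ b ∈ B) : a⁻¹ * b ∈ B := by
  haveI : Fact (Nat.Prime 2) := ⟨Nat.prime_two⟩
  have k := relIndex_le_of_card h1 h
  have k0 : B.relIndex A ≠ 0 := index_ne_zero_of_finite
  by_cases k1 : B.relIndex A = 1
  · exact relIndex_eq_one.1 k1 (mmul (minv ha) hb)
  · exact mem_subgroupOf.1 ((mul_mem_iff_of_index_two (H := B.subgroupOf A) (by change B.relIndex A = 2; omega)
      (a := ⟨a, ha⟩⁻¹) (b := ⟨b, hb⟩)).2 (by simpa [mem_subgroupOf] using e))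

theorem step_two {G : Type*} [Group G] [Finite G] {A B P : Subgroup G} {α : MulAut P} (h1 : B ≤ A) (h2 : A ≤ P)
    (h : Nat.card A ≤ Nat.card B * 2) (i1 : ∀ x ∈ A, ap α x ∈ A) (i2 : ∀ x ∈ B, ap α x ∈ B) {a : G} (ha : a ∈ A) :
    a⁻¹ * ap α a ∈ B :=
  inv_mul_mem_two h1 h ha (i1 a ha) (mem_Stb.1 (mem_Stb_of_finite (h1.trans h2) i2) a)

def coreA (F : FusionSystem S) (P Z : Subgroup Ω) : Subgroup Ω where
  carrier := {x | x ∈ P ∧ ∀ α ∈ F.autGroup P, ap α x ∈ Z}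
  one_mem' := ⟨one_mem _, fun α _ => by rw [(homOn_ap α).one]; exact one_mem _⟩
  mul_mem' := fun ⟨a, b⟩ ⟨c, d⟩ => ⟨mmul a c, fun α h => by rw [(homOn_ap α).mul a c]; exact mmul (b α h) (d α h)⟩
  inv_mem' := fun ⟨a, b⟩ => ⟨minv a, fun α h => by rw [(homOn_ap α).inv a]; exact minv (b α h)⟩

theorem coreA_le : coreA F P Z ≤ Z := fun x h => by simpa [ap_one] using h.2 1 (one_mem _)

structure FSpl (F : FusionSystem S) (p : ℕ) (P Z W V : Subgroup Ω) (z y : Ω) : Prop where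
  oz : orderOf z = p
  comm : ⁅P, NI(S, P)⁆ = zpowers z
  iW : ∀ α ∈ F.autGroup P, ∀ x ∈ W, ap α x ∈ W
  iV : ∀ α ∈ F.autGroup P, ∀ x ∈ V, ap α x ∈ V
  hV : zpowers z ⊔ zpowers y = V
  yP : y ∈ P
  yp : y ^ p = 1
  yZ : y ∉ Z
  hZ : W ⊔ zpowers z = Z
  zW : z ∉ W
  hP : W ⊔ V = P
  frat : ∀ α ∈ F.autGroup P, ∃ f, Mor F NI(S, P) f ∧ ∀ x ∈ W, f x = ap α x
  inv : ∃ β ∈ F.autGroup P, (∀ x ∈ W, ap β x = x) ∧ ∀ v ∈ V, ap β v = v⁻¹

variable [Finite S] [hp : Fact p.Prime]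

theorem Sat.hyp_le_of_fr (hF : Sat F p) (hn : S ≤ NN(M))
    (h : ∀ P, Fr F p P → ∀ α ∈ F.autGroup P, (orderOf α).Coprime p → ∀ x ∈ P, x⁻¹ * ap α x ∈ M) : hyp(F, p) ≤ M := by
  refine ConjMod.hyp_le (fun P f hf => ?_) hF.pg hn
  refine hF.ind (fun P f => ∃ s ∈ S, ∀ x ∈ P, (s * x * s⁻¹)⁻¹ * f x ∈ M) ?_ ?_ ?_ ?_ ?_ hf
  · rintro P f g - ⟨s, hs, h⟩ e
    exact ⟨s, hs, fun x hx => e x hx ▸ h x hx⟩
  · exact fun P s _ hs => ⟨s, hs, fun x _ => by rw [inv_mul_cancel]; exact one_mem _⟩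
  · rintro P Q f g - - ⟨s, hs, h⟩ ⟨t, ht, k⟩ e
    refine ⟨t * s, mmul ht hs, fun x hx => ?_⟩
    convert mmul (CfsgH2.conj_mem_of_mem_normalizer (hn ht) (h x hx)) (k _ (e x hx)) using 1; group
  · rintro P Q f g hf - e - ⟨s, hs, h⟩
    refine ⟨s⁻¹, minv hs, fun y hy => ?_⟩
    obtain ⟨x, hx, rfl⟩ := hf.surj hy
    rw [e x hx]
    convert minv (CfsgH2.conj_mem_of_mem_normalizer (hn (minv hs)) (h x hx)) using 1; group
  · exact fun P hP α hα ho => ⟨1, one_mem _, fun x hx => by simpa using h P hP α hα ho x hx⟩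

theorem Sat.ess_spl [Finite Ω] (hF : Sat F p) (hE : F.IsEssential p P) (ab : P ≤ CC(P)) (hZ : Z ≤ P)
    (h2 : NI(S, P) ≤ CC(Z)) (hc : Nat.card P = Nat.card Z * p) : ∃ W V z y, FSpl F p P Z W V z y := by
  obtain ⟨G, _, _, θ, π, l, k⟩ := hF.exists_ec hE
  have zN := hZ.trans l.leN
  have e : P ⊓ CC(NI(S, P)) = Z := (CfsgH2.eq_or_eq_of_relIndex_prime (CfsgH2.relIndex_eq_of_card hZ hc)
    (le_inf hZ (le_centralizer_iff.1 h2)) inf_le_left).resolve_right fun e => (lt_NI hF.pg (hF.ess_lt hE)).not_ge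
      fun x hx => centric_le hE.1 ⟨hx.1, le_centralizer_iff.1 (inf_eq_left.1 e) hx⟩
  have e' : im P θ ⊓ CC(im NI(S, P) θ) = im Z θ := by
    refine le_antisymm (fun g hg => ?_) (le_inf (im_mono hZ) (le_centralizer_iff.1 (l.cent_le zN le_rfl h2)))
    obtain ⟨x, hx, rfl⟩ := (l.mem_im l.leN).1 hg.1
    exact mem_im_of_mem θ (e ▸ ⟨hx, (l.hiso.cent_iff le_rfl (l.leN hx)).1 hg.2⟩)
  obtain ⟨W, V, z, y, s⟩ := k.split (l.isoR.comm_iff.2 ab) (by rw [e', l.card l.leN, l.card zN, hc])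
  have wR : W ≤ im P θ := s.hR ▸ le_sup_left
  have vR : V ≤ im P θ := s.hR ▸ le_sup_right
  obtain ⟨z, hz, rfl⟩ := (l.mem_im l.leN).1 (vR (s.hV ▸ mem_sup_left (mem_zpowers z)))
  obtain ⟨y, hy, rfl⟩ := (l.mem_im l.leN).1 s.yR
  have hP := l.isoR.hom
  have iW : im (pre P θ W) θ = W := im_pre hP wR
  have iV : im (pre P θ V) θ = V := im_pre hP vR
  have inj : ∀ {A B : Subgroup Ω}, A ≤ P → B ≤ P → im A θ = im B θ → A = B := fun a b => (l.isoR.im_inj a b).1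
  have sup : ∀ {A B : Subgroup Ω}, A ≤ P → B ≤ P → im (A ⊔ B) θ = im A θ ⊔ im B θ := fun a b =>
    (hP.mono (sup_le a b)).im_sup
  have zp := zpowers_le.2 hz
  have yp := zpowers_le.2 hy
  refine ⟨pre P θ W, pre P θ V, z, y, ?_, ?_, fun α hα x hx => l.inv_of_normal pre_le (iW.symm ▸ s.nW) hα hx,
    fun α hα x hx => l.inv_of_normal pre_le (iV.symm ▸ s.nV) hα hx, inj (sup_le zp yp) pre_le ?_, hy,
    l.isoR.inj _ (pow_mem hy p) (by rw [hP.pow hy, s.yp]), fun q => s.yT (e'.ge (mem_im_of_mem θ q)).2,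
    inj (sup_le pre_le zp) hZ ?_, fun q => s.zW ((mem_pre hP).1 q).2, inj (sup_le pre_le pre_le) le_rfl ?_, fun α hα => ?_, ?_⟩
  · rw [← Nat.card_zpowers, ← l.card (zp.trans l.leN), HomOn.im_zpowers hP hz, Nat.card_zpowers, s.oz]
  · refine inj (CfsgH2.commutator_le_left_of_normalizer inf_le_right) zp ?_
    rw [HomOn.comm l.hom l.leN le_rfl, s.comm, HomOn.im_zpowers hP hz]
  · rw [sup zp yp, HomOn.im_zpowers hP hz, HomOn.im_zpowers hP hy, s.hV, iV]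
  · rw [sup pre_le zp, HomOn.im_zpowers hP hz, iW, s.hZ, e']
  · rw [sup pre_le pre_le, iW, iV, s.hR]
  · obtain ⟨g, hg⟩ := l.surj ⟨α, hα⟩
    obtain ⟨c, c1, c2⟩ := s.frat g
    obtain ⟨f, f1, f2⟩ := l.mor _ le_rfl (c⁻¹ * g) fun x hx => CfsgH2.conj_mem_of_mem_normalizer c2 (mem_im_of_mem θ hx)
    refine ⟨f, f1, fun x hx => ?_⟩
    have x1 : x ∈ P := pre_le hx
    refine l.hiso.eq (f2 x (l.leN x1)).1 (l.leN (ap_mem α x1)) ?_
    have := l.act g x x1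
    rw [hg] at this
    have q := minv c1 _ (s.nW.conj_mem _ ((mem_pre hP).1 hx).2 g)
    rw [(f2 x (l.leN x1)).2, ← this]
    calc _ = c⁻¹ * (g * θ x * g⁻¹) * c := by group
      _ = _ := by rw [← q]; group
  · obtain ⟨c, -, c1, c2⟩ := s.inv
    refine ⟨π c, (π c).2, fun x hx => ?_, fun x hx => ?_⟩
    · have x1 : x ∈ P := pre_le hx
      refine l.isoR.eq (ap_mem _ x1) x1 ?_
      rw [← l.act c x x1, ← c1 _ ((mem_pre hP).1 hx).2, mul_inv_cancel_right]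
    · have x1 : x ∈ P := pre_le hx
      refine l.isoR.eq (ap_mem _ x1) (minv x1) ?_
      rw [← l.act c x x1, c2 _ ((mem_pre hP).1 hx).2, hP.inv x1]

theorem exists_top (hF : Sat F p) : ∃ E : FusionSystem (⊤ : Subgroup S), Sat E p ∧
    (∀ P, F.IsEssential p P → E.IsEssential p (P.subgroupOf S)) ∧
    (∀ P, E.IsEssential p P → F.IsEssential p (P.map S.subtype)) ∧ E.core.map S.subtype = F.core ∧
    hyp(E, p).map S.subtype = hyp(F, p) ∧ FIso E F S.subtype := by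
  have h : HIso S ⊤ (ext (MonoidHom.id S)) := ⟨homOn_ext _, fun x hx e => by
    rw [ext_of_mem _ hx] at e; exact congrArg Subtype.val e, by rw [im_ext]; exact MonoidHom.range_eq_top.2 fun x => ⟨x, rfl⟩⟩
  obtain ⟨E, hE⟩ := exists_push F h
  obtain ⟨θ, h1, h2, -⟩ := hE.symm
  have h3 : FIso E F S.subtype := h1.congr fun y _ => by have := h2 y y.2; rwa [ext_coe] at this
  have sE := hE.toFSurj.sat hF
  refine ⟨E, sE, fun P hP => ?_, fun P hP => im_hom S.subtype P ▸ h3.essential hP, im_hom S.subtype _ ▸ h3.core,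
    im_hom S.subtype _ ▸ h3.toFSurj.im_hyp sE, h3⟩
  have l : P ≤ S := (hF.ess_lt hP).le
  convert hE.essential hP
  exact le_antisymm (fun x hx => by simpa [ext_coe] using mem_im_of_mem (ext (MonoidHom.id S)) (mem_subgroupOf.1 hx))
    (im_le.2 fun x hx => by rw [ext_of_mem _ (l hx)]; exact hx)

end

section top
variable {X : Type u} [Group X] [Finite X] {F : FusionSystem (⊤ : Subgroup X)} {A E P Q R U V W : Subgroup X} {p : ℕ}
  [hp : Fact p.Prime] {x y z : X}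

theorem ap_center (α : MulAut (⊤ : Subgroup X)) (hx : x ∈ center X) : ap α x ∈ center X :=
  cc_top.le (ap_mem_center α ⟨trivial, center_le_cc hx⟩).2

theorem Sat.cop_center (hF : Sat F p) {α : MulAut (center X)} (hα : α ∈ F.autGroup (center X)) : (orderOf α).Coprime p := by
  have s := hF.syl (fn_of_normal (P := center X) le_top (le_norm inferInstance))
  have e : AS((⊤ : Subgroup X), center X) = ⊥ := le_bot_iff.1 fun α hα => by
    obtain ⟨s, -, s2⟩ := mem_autInducedBy.1 hα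
    exact mem_bot.2 (ap_ext fun x hx => by rw [s2 x hx, mem_center_iff.1 hx s, mul_inv_cancel_right, ap_one])
  rw [e] at s
  have := s.ndvd
  rw [relIndex_bot_left] at this
  exact ((Nat.Prime.coprime_iff_not_dvd hp.out).2 fun d => this (d.trans (orderOf_dvd_natCard _ hα))).symm

theorem Sat.aut_center_der (hF : Sat F p) {α : MulAut (center X)} (hα : α ∈ F.autGroup (center X))
    (hx : x ∈ center X ⊓ commutator X) : ap α x ∈ center X ⊓ commutator X := by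
  obtain ⟨f, f1, f2⟩ := Iso.extend_C (iso_ap le_top hα)
    (hF.rc (fc_of_central le_top (le_centralizer_iff.1 center_le_cc)))
  rw [show center X ⊔ CI(⊤, center X) = ⊤ from top_le_iff.1 (le_sup_of_le_right (le_inf le_rfl
    (le_centralizer_iff.1 center_le_cc)))] at f1
  exact ⟨ap_mem α hx.1, f2 x hx.1 ▸ mor_der f1.homOn hx.2⟩

/-- inverts `Z ∩ S'` and is trivial on the quotient -/
def InvZ (β : MulAut (center X)) : Prop :=
  (∀ x ∈ center X ⊓ commutator X, ap β x = x⁻¹) ∧ ∀ x ∈ center X, x⁻¹ * ap β x ∈ center X ⊓ commutator X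

theorem Sat.invZ_unique (hF : Sat F p) {β γ : MulAut (center X)} (hβ : β ∈ F.autGroup (center X))
    (hγ : γ ∈ F.autGroup (center X)) (h1 : InvZ β) (h2 : InvZ γ) : β = γ := by
  have k : ∀ u ∈ center X ⊓ commutator X, ap (β⁻¹ * γ) u = u := fun u hu => by
    rw [ap_mul, h2.1 u hu, ← h1.1 u hu, ap_inv_ap]
  refine inv_mul_eq_one.1 (ap_ext fun x hx => ?_)
  rw [ap_one]
  refine fix_of_coprime (hF.pg.to_le le_top) (hF.cop_center (mmul (minv hβ) hγ)) hx (k _ ?_)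
  have := hF.aut_center_der (minv hβ) (mmul (minv (h1.2 x hx)) (h2.2 x hx))
  rwa [mul_inv_rev, inv_inv, mul_assoc, mul_inv_cancel_left, (homOn_ap _).mul (minv (ap_mem β hx)) (ap_mem γ hx),
    (homOn_ap _).inv (ap_mem β hx), ap_inv_ap, ← ap_mul] at this

theorem Sat.invZ_conj (hF : Sat F p) {α β : MulAut (center X)} (hα : α ∈ F.autGroup (center X)) (h : InvZ β) :
    InvZ (α * β * α⁻¹) := by
  refine ⟨fun x hx => ?_, fun x hx => ?_⟩
  · rw [ap_mul, ap_mul, h.1 _ (hF.aut_center_der (minv hα) hx), (homOn_ap _).inv (ap_mem _ hx.1), ap_ap_inv]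
  · have := hF.aut_center_der hα (h.2 _ (ap_mem α⁻¹ hx))
    rwa [(homOn_ap _).mul (minv (ap_mem _ hx)) (ap_mem _ (ap_mem _ hx)), (homOn_ap _).inv (ap_mem _ hx), ap_ap_inv,
      ← ap_mul, ← ap_mul] at this

namespace FSpl
variable (s : FSpl F p P (center X) W V z y)
include s

theorem wZ : W ≤ center X := s.hZ ▸ le_sup_left
theorem zZ : z ∈ center X := s.hZ ▸ mem_sup_right (mem_zpowers z)
theorem zV : zpowers z ≤ V := s.hV ▸ le_sup_left
theorem yV : y ∈ V := s.hV ▸ mem_sup_right (mem_zpowers y)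
theorem zP : center X ≤ P := s.hP ▸ s.hZ ▸ sup_le_sup_left s.zV _
theorem z_der : z ∈ commutator X := commutator_mono le_top le_top (s.comm ▸ mem_zpowers z)
theorem nW : W.Normal := normal_of_le (le_centralizer_iff.1 (s.wZ.trans center_le_cc) |>.trans (centralizer_le_normalizer _))
theorem decomp (hx : x ∈ center X) : ∃ w ∈ W, ∃ i : ℤ, w * z ^ i = x :=
  (CfsgH2.mem_sup_zpowers (le_norm (B := ⊤) s.nW trivial)).1 (s.hZ.symm ▸ hx)
theorem zp : z ^ p = 1 := s.oz ▸ pow_orderOf_eq_one z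
theorem cardZ : Nat.card (center X) = Nat.card W * p := by
  rw [← s.hZ, CfsgH2.card_sup_zpowers (le_norm (B := ⊤) s.nW trivial) s.zW (s.zp ▸ one_mem _)]
theorem eqP : center X ⊔ zpowers y = P := by rw [← s.hP, ← s.hV, ← s.hZ, sup_assoc]
theorem z0 (h0 : Nat.card ↥(center X ⊓ commutator X) ≤ p) : zpowers z = center X ⊓ commutator X :=
  eq_of_le_of_card_ge (zpowers_le.2 ⟨s.zZ, s.z_der⟩) (by rwa [Nat.card_zpowers, s.oz])

theorem exists_invZ (hp2 : p ≠ 2) (h0 : Nat.card ↥(center X ⊓ commutator X) ≤ p) :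
    ∃ β ∈ F.autGroup (center X), InvZ β ∧ ∀ x, x ∈ W ↔ x ∈ center X ∧ ap β x = x := by
  obtain ⟨β, b1, b2, b3⟩ := s.inv
  have k : ∀ w ∈ W, ∀ i : ℤ, ap β (w * z ^ i) = w * (z ^ i)⁻¹ := fun w hw i => by
    rw [(homOn_ap β).mul (s.zP (s.wZ hw)) (s.zP (zpow_mem s.zZ i)), b2 w hw, b3 _ (s.zV ⟨i, rfl⟩)]
  obtain ⟨γ, c1, c2, -⟩ := exists_res_aut s.zP le_top b1 fun x hx => by
    obtain ⟨w, hw, i, rfl⟩ := s.decomp hx
    rw [k w hw]; exact mmul (s.wZ hw) (minv (zpow_mem s.zZ i))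
  refine ⟨γ, c1, ⟨fun x hx => ?_, fun x hx => ?_⟩, fun x => ⟨fun hx => ⟨s.wZ hx, by rw [c2 x (s.wZ hx), b2 x hx]⟩, ?_⟩⟩
  · rw [c2 x hx.1, b3 x (s.zV (s.z0 h0 ▸ hx))]
  · obtain ⟨w, hw, i, rfl⟩ := s.decomp hx
    rw [c2 _ hx, k w hw, ← s.z0 h0, mul_inv_rev, mul_assoc, inv_mul_cancel_left]
    exact mmul (minv ⟨i, rfl⟩) (minv ⟨i, rfl⟩)
  · rintro ⟨hx, e⟩
    obtain ⟨w, hw, i, rfl⟩ := s.decomp hx
    rw [c2 _ hx, k w hw, mul_right_inj] at e
    rw [eq_one_of_inv hp2 (v := z ^ i) (by rw [← zpow_natCast, ← zpow_mul, mul_comm, zpow_mul, zpow_natCast, s.zp, one_zpow])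
      e.symm, mul_one]
    exact hw

theorem eq_coreA (hF : Sat F p) (hP : F.IsEssential p P) : coreA F P (center X) = W := by
  refine (CfsgH2.eq_or_eq_of_relIndex_prime (CfsgH2.relIndex_eq_of_card s.wZ s.cardZ)
    (K := coreA F P (center X)) (fun x hx => ⟨s.zP (s.wZ hx), fun α hα => s.wZ (s.iW α hα x hx)⟩) coreA_le).resolve_right fun e => ?_
  refine (lt_NI hF.pg (hF.ess_lt hP)).not_ge fun a ha => hF.ess_key hP s.zP (fun α hα x hx => (e.ge hx).2 α hα) ha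
    (tq_of_comm' (s.comm.le.trans (zpowers_le.2 s.zZ)) ha) (le_centralizer_iff.1 (center_le_cc (P := ⊤)) (mem_top a))

end FSpl

theorem Sat.spl (hF : Sat F p) (hP : F.IsEssential p P) (ab : P ≤ CC(P)) (hc : Nat.card P = Nat.card (center X) * p) :
    ∃ W V z y, FSpl F p P (center X) W V z y :=
  hF.ess_spl hP ab (ess_center hP) (le_centralizer_iff.1 center_le_cc) hc

theorem Sat.center_le_der (hF : Sat F p) (hp2 : p ≠ 2) (hc : F.core = ⊥) (hZ : center X ≠ ⊥)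
    (h0 : Nat.card ↥(center X ⊓ commutator X) ≤ p)
    (hE : ∀ P, F.IsEssential p P → (∀ α ∈ F.autGroup P, ∀ x ∈ center X, ap α x ∈ center X) ∨
      (P ≤ CC(P) ∧ Nat.card P = Nat.card (center X) * p)) :
    center X ≤ commutator X ∧ ∃ P, F.IsEssential p P ∧ ¬ ∀ α ∈ F.autGroup P, ∀ x ∈ center X, ap α x ∈ center X := by
  obtain ⟨P, hP, nP⟩ : ∃ P, F.IsEssential p P ∧ ¬ ∀ α ∈ F.autGroup P, ∀ x ∈ center X, ap α x ∈ center X := by
    by_contra! k
    refine hZ (le_bot_iff.1 (hc ▸ Nm.le_core (hF.nm_of fun P hP => ?_)))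
    rcases hP with rfl | hP
    · exact ⟨le_top, fun α _ x hx => ap_center α hx⟩
    · exact ⟨ess_center hP, k P hP⟩
  refine ⟨?_, P, hP, nP⟩
  obtain ⟨ab, cP⟩ := (hE P hP).resolve_left nP
  obtain ⟨W, V, z, y, s⟩ := hF.spl hP ab cP
  obtain ⟨β, b1, b2, b3⟩ := s.exists_invZ hp2 h0
  have key : ∀ Q, center X ≤ Q → (∀ α ∈ F.autGroup Q, ∀ x ∈ center X, ap α x ∈ center X) →
      W ≤ Q ∧ ∀ α ∈ F.autGroup Q, ∀ x ∈ W, ap α x ∈ W := fun Q h1 h2 => ⟨s.wZ.trans h1, fun α hα x hx => by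
    obtain ⟨γ, c1, c2, -⟩ := exists_res_aut h1 le_top hα (h2 α hα)
    rw [← c2 x (s.wZ hx), b3]
    refine ⟨ap_mem _ (s.wZ hx), ?_⟩
    rw [← hF.invZ_unique (mconj c1 b1) b1 (hF.invZ_conj c1 b2) b2, ap_mul, ap_mul, ap_inv_ap, ((b3 x).1 hx).2]⟩
  have : W = ⊥ := le_bot_iff.1 (hc ▸ Nm.le_core (hF.nm_of fun Q hQ => by
    rcases hQ with rfl | hQ
    · exact key _ le_top fun α _ x hx => ap_center α hx
    · rcases hE Q hQ with k | ⟨k1, k2⟩
      · exact key _ (ess_center hQ) k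
      · obtain ⟨W', V', z', y', s'⟩ := hF.spl hQ k1 k2
        obtain ⟨β', d1, d2, d3⟩ := s'.exists_invZ hp2 h0
        have : W = W' := Subgroup.ext fun x => by rw [b3, d3, hF.invZ_unique b1 d1 b2 d2]
        rw [this]
        exact ⟨s'.wZ.trans s'.zP, s'.iW⟩))
  rw [← s.hZ, this, bot_sup_eq]
  exact zpowers_le.2 s.z_der

end top

end CfsgFS
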