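import Cfsg.Agent.FS.Res5

/-! Fusion systems on `p`-groups with an abelian subgroup of index `p`: the main statements. -/

set_option autoImplicit false
set_option linter.unusedSectionVars false

namespace CfsgFS

open Subgroup Cfsg Cfsg.FusionSystem CfsgH9
open CfsgH2 (centMod mem_centMod)
open scoped commutatorElement

universe u

section top
variable {X : Type u} [Group X] [Finite X] {F : FusionSystem (⊤ : Subgroup X)} {A E P Q R U V W : Subgroup X} {p : ℕ}
  [hp : Fact p.Prime] {x y z : X}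

theorem AI.card_z0 (h : AI p A) (hc : Nat.card ↥(Z₂(X) ⊓ A) = Nat.card (center X) * p) :
    Nat.card ↥(center X ⊓ commutator X) = p :=
  Nat.eq_of_mul_eq_mul_left Nat.card_pos (h.card_z2.symm.trans hc)

theorem AI.card_top (h : AI p A) : Nat.card X = Nat.card (center X) * (Nat.card (commutator X) * p) := by
  rw [← card_mul_index A, h.idx, h.card_A, mul_assoc]

theorem AI.ess_ne (h : AI p A) (hF : Sat F p) (hu : ∀ B : Subgroup X, B ≤ CC(B) → B.index = p → B = A)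
    (hP : F.IsEssential p P) (hA : P ≠ A) : Z₂(X) ≤ A ∧ Nat.card ↥(center X ⊓ commutator X) = p ∧
      (center X ⊔ commutator X).relIndex A = p ∧ (center X).relIndex Z₂(X) = p ∧
      ∀ m : ℕ, (center X).index = p ^ m → 3 ≤ m → ¬ (⊤ : Subgroup X).lowerCentralSeries (m - 2) ≤ center X := by
  obtain ⟨x, hx, k⟩ := (h.ess hF hP).2.resolve_left hA
  have c : Nat.card ↥(Z₂(X) ⊓ A) = Nat.card (center X) * p := k.elim (·.2.2.2) (·.2.2.2)
  have l := h.z2_le hu c
  have c0 := h.card_z0 c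
  refine ⟨l, c0, CfsgH2.relIndex_eq_of_card (sup_le h.center_le h.der_le) ?_,
    CfsgH2.relIndex_eq_of_card center_le_z2 (by rwa [inf_eq_left.2 l] at c), fun m hm h3 k => ?_⟩
  · rw [h.card_A, ← CfsgH1.card_sup_of_le_normalizer (le_norm inferInstance), c0]
  · obtain ⟨i, rfl⟩ : ∃ i, m = i + 3 := ⟨m - 3, by omega⟩
    have e := card_mul_index (center X)
    rw [h.card_top, hm, pow_succ] at e
    have e' := Nat.eq_of_mul_eq_mul_right hp.out.pos (Nat.eq_of_mul_eq_mul_left Nat.card_pos e)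
    have := (h.lcs_card c0.le i).trans (Nat.mul_le_mul_right _ ((card_le_of_le (le_inf k
      (Subgroup.lowerCentralSeries_antitone ⊤ (Nat.le_add_left 1 i)))).trans c0.le))
    rw [← e', ← pow_succ'] at this
    have := (Nat.pow_le_pow_iff_right hp.out.one_lt).1 this
    omega

theorem Sat.exists_ess (hF : Sat F p) (hc : F.core = ⊥) [Nontrivial X] : ∃ P, F.IsEssential p P := by
  by_contra! k
  exact top_ne_bot (le_bot_iff.1 (hc ▸ Nm.le_core (hF.nm_top k)))

theorem center_ne_bot' (h : IsPGroup p X) [Nontrivial X] : center X ≠ ⊥ :=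
  (nontrivial_iff_ne_bot _).1 h.center_nontrivial

theorem AI.nontrivial (h : AI p A) : Nontrivial X := by
  by_contra k
  rw [not_nontrivial_iff_subsingleton] at k
  exact h.na (Subsingleton.elim _ _)

theorem AI.not_ess (h : AI p A) (hF : Sat F p) (hp2 : p ≠ 2) (hc : F.core = ⊥) (hA : ¬ F.IsEssential p A) :
    (∃ x, x ∉ A ∧ F.IsEssential p (center X ⊔ zpowers x)) ∧ center X ≤ commutator X ∧
      ∀ n : ℕ, Nat.card X = p ^ n → 3 ≤ n → (⊤ : Subgroup X).lowerCentralSeries (n - 2) ≠ ⊥ := by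
  haveI := h.nontrivial
  have k := fun P (hP : F.IsEssential p P) => (h.ess hF hP).2.resolve_left fun e => hA (e ▸ hP)
  obtain ⟨P, hP⟩ := hF.exists_ess hc
  obtain ⟨x, -, k0⟩ := k P hP
  have c0 := h.card_z0 (k0.elim (·.2.2.2) (·.2.2.2))
  have kB : ∀ P : Subgroup X, P ⊓ CC(P) = center X → ∀ α ∈ F.autGroup P, ∀ x ∈ center X, ap α x ∈ center X :=
    fun P e α _ x hx => e ▸ ap_mem_center α (e ▸ hx)
  obtain ⟨l, Q, hQ, nQ⟩ := hF.center_le_der hp2 hc (center_ne_bot' h.pg) c0.le fun P hP => by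
    obtain ⟨x, -, a | a⟩ := k P hP
    · exact .inr ⟨a.2.1, a.2.2.1⟩
    · exact .inl (kB P a.2.1)
  refine ⟨?_, l, fun n hn h3 e => ?_⟩
  · obtain ⟨x, hx, a | a⟩ := k Q hQ
    · exact ⟨x, hx, a.1 ▸ hQ⟩
    · exact absurd (kB Q a.2.1) nQ
  · obtain ⟨i, rfl⟩ : ∃ i, n = i + 3 := ⟨n - 3, by omega⟩
    have := h.lcs_card c0.le i
    rw [inf_eq_left.2 l] at c0
    rw [h.card_top, c0, pow_succ', pow_succ] at hn
    rw [show i + 3 - 2 = i + 1 from rfl] at e
    rw [e, Nat.eq_of_mul_eq_mul_right hp.out.pos (Nat.eq_of_mul_eq_mul_left hp.out.pos hn), card_bot, one_mul] at this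
    have := (Nat.pow_le_pow_iff_right hp.out.one_lt).1 this
    omega

theorem Sat.two_ess (hF : Sat F p) (hc : F.core = ⊥) (hP : F.IsEssential p P) : ∃ Q, F.IsEssential p Q ∧ Q ≠ P := by
  by_contra! k
  have : P = ⊥ := le_bot_iff.1 (hc ▸ Nm.le_core (hF.nm_of fun Q hQ => by
    rcases hQ with rfl | hQ
    · exact ⟨le_top, fun α hα x hx => k _ ((Inv.fiso (inv_refl F) hα).essential hP) ▸ mem_im_of_mem _ hx⟩
    · obtain rfl := k Q hQ
      exact ⟨le_rfl, fun α _ x hx => ap_mem α hx⟩))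
  exact (hF.ess_lt hP).not_ge ((le_centralizer_iff.1 (this ▸ bot_le)).trans (ess_cc hP))

theorem Sat.ai_of_ess (hF : Sat F p) (hZ : (center X).index ≤ p ^ 2) (hP : F.IsEssential p P) :
    AI p P ∧ Nat.card P = Nat.card (center X) * p := by
  have pg : IsPGroup p X := hF.pg.of_equiv topEquiv
  have lt := hF.ess_lt hP
  have l := ess_center hP
  have n : ¬ P ≤ center X := fun k => lt.not_ge ((le_centralizer_iff.1 (k.trans center_le_cc)).trans (ess_cc hP))
  obtain ⟨a, ha⟩ := (pg.to_subgroup P).index ((center X).subgroupOf P)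
  obtain ⟨b, hb⟩ := pg.index P
  have e := relIndex_mul_index l
  change (center X).relIndex P = _ at ha
  have a0 : a ≠ 0 := by rintro rfl; exact n (relIndex_eq_one.1 ha)
  have b0 : b ≠ 0 := by rintro rfl; exact lt.ne (index_eq_one.1 hb)
  rw [← e, ha, hb, ← pow_add] at hZ
  have := (Nat.pow_le_pow_iff_right hp.out.one_lt).1 hZ
  obtain rfl : a = 1 := by omega
  obtain rfl : b = 1 := by omega
  rw [pow_one] at ha hb
  have c : Nat.card P = Nat.card (center X) * p := by rw [← ha, CfsgH2.card_mul_relIndex l]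
  obtain ⟨y, -, hy⟩ := CfsgH2.exists_sup_zpowers_eq (pg.to_subgroup P) l c.le
  exact ⟨⟨pg, CfsgH2.isMulCommutative_iff_le_centralizer.1 (CfsgH2.isMulCommutative_of_sup_zpowers hy center_le_cc), hb,
    fun k => n (k ▸ le_top)⟩, c⟩

theorem NI_top (h : P.Normal) : NI(⊤, P) = ⊤ := top_le_iff.1 (le_inf le_rfl (le_norm h))

theorem coreA_nm (hF : Sat F p) (hP : F.IsEssential p P)
    (h : ∀ P, F.IsEssential p P → P.Normal ∧ P ≤ CC(P) ∧ Nat.card P = Nat.card (center X) * p) :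
    F.IsNormal (⨅ Q, ⨅ _ : F.IsEssential p Q, coreA F Q (center X)) := by
  have l : (⨅ Q, ⨅ _ : F.IsEssential p Q, coreA F Q (center X)) ≤ center X := (iInf₂_le P hP).trans coreA_le
  have key : ∀ β ∈ F.autGroup ⊤, ∀ x ∈ (⨅ Q, ⨅ _ : F.IsEssential p Q, coreA F Q (center X)),
      ap β x ∈ (⨅ Q, ⨅ _ : F.IsEssential p Q, coreA F Q (center X)) := fun β hβ x hx => by
    refine mem_iInf.2 fun Q => mem_iInf.2 fun hQ => ?_
    have m := ess_center hQ (ap_center β (l hx))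
    refine ⟨m, fun α hα => ?_⟩
    have i := Inv.fiso (inv_refl F) (minv hβ)
    obtain ⟨α', a1, a2⟩ := i.toFSurj.toFHom.aut le_top rfl hα
    have := (mem_iInf.1 (mem_iInf.1 hx _) (i.essential hQ)).2 α' a1
    rw [← ap_inv_ap β x, a2 _ m] at this
    simpa [ap_ap_inv] using ap_center β this
  refine hF.nm_of fun Q hQ => ?_
  rcases hQ with rfl | hQ
  · exact ⟨le_top, key⟩
  refine ⟨l.trans (ess_center hQ), fun α hα x hx => ?_⟩
  obtain ⟨n, ab, c⟩ := h Q hQ
  obtain ⟨W, V, z, y, s⟩ := hF.spl hQ ab c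
  obtain ⟨f, f1, f2⟩ := s.frat α hα
  rw [NI_top n] at f1
  obtain ⟨β, b1, b2⟩ := (f1.iso_self fun _ _ => trivial).exists_aut
  rw [← f2 x (s.eq_coreA hF hQ ▸ mem_iInf.1 (mem_iInf.1 hx Q) hQ), ← b2 x trivial]
  exact key β b1 x hx

theorem dihedral_of_center {F : FusionSystem (⊤ : Subgroup X)} (hF : Sat F 2) (hc : F.core = ⊥) (hh : hyp(F, 2) = ⊤)
    (hZ : (center X).index ≤ 2 ^ 2) [Nontrivial X] : Nonempty (X ≃* DihedralGroup 4) := by
  obtain ⟨P, hP⟩ := hF.exists_ess hc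
  obtain ⟨Q, hQ, nQ⟩ := hF.two_ess hc hP
  have ai := fun P (hP : F.IsEssential 2 P) => hF.ai_of_ess hZ hP
  have spl := fun P (hP : F.IsEssential 2 P) => hF.spl hP (ai P hP).1.ab (ai P hP).2
  obtain ⟨W, V, z, v, s⟩ := spl P hP
  obtain ⟨W', V', z', v', s'⟩ := spl Q hQ
  obtain ⟨a, ca⟩ := ai P hP
  obtain ⟨a', ca'⟩ := ai Q hQ
  have d : ∀ {P W V : Subgroup X} {z y : X}, F.IsEssential 2 P → FSpl F 2 P (center X) W V z y → commutator X = zpowers z :=
    fun hP s => by rw [(ai _ hP).1.der, ← s.comm, NI_top (ai _ hP).1.normal]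
  have cd : Nat.card (commutator X) = 2 := by rw [d hP s, Nat.card_zpowers, s.oz]
  have eqP : ∀ {P R W V : Subgroup X} {z y : X}, F.IsEssential 2 P → F.IsEssential 2 R → FSpl F 2 R (center X) W V z y →
      y ∈ P → R = P := fun hP hR s hy => eq_of_le_of_card_ge (s.eqP ▸ sup_le (ess_center hP) (zpowers_le.2 hy))
        (by rw [(ai _ hP).2, (ai _ hR).2])
  have n1 : v' ∉ P := fun k => nQ (eqP hP hQ s' k)
  have n2 : v ∉ Q := fun k => nQ (eqP hQ hP s k).symm
  have uniq : ∀ {a b : X}, a ∈ commutator X → b ∈ commutator X → a ≠ 1 → b ≠ 1 → a = b := fun ha hb h1 h2 =>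
    inv_mul_eq_one.1 (inv_mul_mem_two (B := ⊥) bot_le (by simp [cd]) ha hb (by simp [h1, h2]))
  have z1 : z ≠ 1 := fun k => s.zW (k ▸ one_mem _)
  have iv : ∀ {y : X}, y ^ 2 = 1 → y⁻¹ = y := fun k => inv_eq_of_mul_eq_one_right (by rw [← sq, k])
  have sq1 : (v * v') ^ 2 = z := by
    have : (v * v') ^ 2 = v * v' * v⁻¹ * v'⁻¹ := by rw [iv s.yp, iv s'.yp, sq, ← mul_assoc]
    rw [this]
    refine uniq (commutator_mem_commutator (mem_top _) (mem_top _)) s.z_der (fun k => s.yZ (a.mem_center s.yP n1 ?_)) z1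
    exact commutatorElement_eq_one_iff_commute.1 k
  have all : ∀ R, F.IsEssential 2 R → R = P ∨ R = Q := fun R hR => by
    obtain ⟨W₃, V₃, z₃, u, t⟩ := spl R hR
    by_contra! k
    have m1 : (v * v')⁻¹ * u ∈ P := (mul_mem_iff_of_index_two a.idx).2 (by
      simp only [inv_mem_iff, mul_mem_cancel_left s.yP, n1, false_iff]; exact fun q => k.1 (eqP hP hR t q))
    have m2 : (v * v')⁻¹ * u ∈ Q := (mul_mem_iff_of_index_two a'.idx).2 (by
      simp only [inv_mem_iff, mul_mem_cancel_right s'.yP, n2, false_iff]; exact fun q => k.2 (eqP hQ hR t q))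
    have m := a.mem_center m1 n1 (comm_of_le a'.ab m2 s'.yP)
    obtain ⟨w, hw, i, e⟩ := s.decomp m
    have e1 := t.yp
    have c1 : Commute (v * v') (w * z ^ i) := mem_center_iff.1 (e ▸ m) _
    have c2 : Commute w (z ^ i) := mem_center_iff.1 (zpow_mem s.zZ i) _
    rw [← mul_inv_cancel_left (v * v') u, ← e, c1.mul_pow, c2.mul_pow, sq1, ← zpow_natCast (z ^ i), ← zpow_mul, mul_comm i,
      zpow_mul, zpow_natCast, s.zp, one_zpow, mul_one] at e1
    exact s.zW (eq_inv_of_mul_eq_one_left e1 ▸ minv (pow_mem hw 2))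
  have i0 : W ⊓ W' = ⊥ := le_bot_iff.1 (hc ▸ le_trans (le_iInf₂ fun R hR => by
    rcases all R hR with rfl | rfl
    · exact s.eq_coreA hF hR ▸ inf_le_left
    · exact s'.eq_coreA hF hR ▸ inf_le_right) (Nm.le_core (coreA_nm hF hP fun R hR =>
      ⟨(ai R hR).1.normal, (ai R hR).1.ab, (ai R hR).2⟩)))
  have cW : Nat.card W ≤ 2 ∧ Nat.card W' ≤ 2 := by
    have := CfsgH1.card_sup_of_le_normalizer (K := W) (A := W') (le_norm s.nW)
    rw [i0, card_bot, mul_one] at this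
    have h1 := this ▸ card_le_of_le (sup_le s.wZ s'.wZ)
    have h2 := h1
    rw [s'.cardZ, mul_comm (Nat.card W')] at h1
    rw [s.cardZ] at h2
    exact ⟨Nat.le_of_mul_le_mul_right h1 Nat.card_pos, Nat.le_of_mul_le_mul_left h2 Nat.card_pos⟩
  have o2 : ∀ {y : X}, y ^ 2 = 1 → y ∉ center X → orderOf y = 2 := fun k1 k2 =>
    orderOf_eq_prime k1 fun q => k2 (q ▸ one_mem _)
  let M := closure ({v, v'} : Set X)
  have vM : v ∈ M := subset_closure (by simp)
  have vM' : v' ∈ M := subset_closure (by simp)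
  have zM : z ∈ M := sq1 ▸ pow_mem (mmul vM vM') 2
  have dM : commutator X ≤ M := d hP s ▸ zpowers_le.2 zM
  have kM : ∀ {P W V : Subgroup X} {z y : X}, F.IsEssential 2 P → FSpl F 2 P (center X) W V z y → y ∈ M → Nat.card W ≤ 2 →
      ∀ α ∈ F.autGroup P, ∀ x ∈ P, x⁻¹ * ap α x ∈ M := @fun P W V z y hP s hy c α hα x hx => by
    haveI := s.nW
    have l1 : W ≤ P := s.wZ.trans s.zP
    have l2 : V ≤ P := s.hP ▸ le_sup_right
    obtain ⟨w, hw, u, hu, rfl⟩ := mem_sup_of_normal_left.1 (s.hP.symm ▸ hx)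
    have := step_two (B := ⊥) bot_le l1 (by simpa using c) (s.iW α hα) (fun x hx => by
      rw [mem_bot.1 hx, (homOn_ap α).one]; exact one_mem _) hw
    rw [(homOn_ap α).mul (l1 hw) (l2 hu), ← inv_mul_eq_one.1 (mem_bot.1 this), mul_inv_rev, mul_assoc, inv_mul_cancel_left]
    exact (s.hV ▸ sup_le (zpowers_le.2 (dM s.z_der)) (zpowers_le.2 hy) : V ≤ M) (mmul (minv hu) (s.iV α hα u hu))
  have hM : hyp(F, 2) ≤ M := hF.hyp_le_of_fr (le_norm (Normal.of_commutator_le X dM)) fun R hR α hα ho => by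
    rcases hR with rfl | hR
    · have i := Inv.fiso (inv_refl F) hα
      have pP : ∀ x ∈ P, ap (α * α) x ∈ P := fun x hx => by
        rw [ap_mul]
        rcases all _ (i.essential hP) with e | e
        · exact e.le (mem_im_of_mem _ (e.le (mem_im_of_mem _ hx)))
        · rcases all _ (i.essential hQ) with e' | e'
          · exact e'.le (mem_im_of_mem _ (e.le (mem_im_of_mem _ hx)))
          · exact absurd ((i.hiso.im_inj le_top le_top).1 (e'.trans e.symm)) nQ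
      have ho' : (orderOf (α * α)).Coprime 2 := ho.coprime_dvd_left (by rw [← sq]; exact orderOf_pow_dvd 2)
      have pD : ∀ x ∈ commutator X, ap (α * α) x ∈ commutator X := fun x hx => mor_der (homOn_ap _) hx
      have pZ : ∀ x ∈ center X, ap (α * α) x ∈ center X := fun x hx => ap_center _ hx
      have st : ∀ {A B : Subgroup X}, B ≤ A → Nat.card A ≤ Nat.card B * 2 → (∀ x ∈ A, ap (α * α) x ∈ A) →
          (∀ x ∈ B, ap (α * α) x = x) → ∀ x ∈ A, ap (α * α) x = x := fun h1 h2 h3 h4 x hx =>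
        fix_of_coprime hF.pg ho' trivial (h4 _ (step_two h1 le_top h2 h3 (fun y hy => (h4 y hy).symm ▸ hy) hx))
      have f1 := st (B := ⊥) bot_le (by simp [cd]) pD fun x hx => by rw [mem_bot.1 hx, (homOn_ap _).one]
      have f2 := st (d hP s ▸ zpowers_le.2 s.zZ) (by rw [s.cardZ, cd]; exact Nat.mul_le_mul_right _ cW.1) pZ f1
      have f3 := st s.zP ca.le pP f2
      have f4 := st (A := ⊤) le_top (by rw [card_top, ← card_mul_index P, a.idx]) (fun _ _ => trivial) f3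
      have : α * α = 1 := ap_ext fun x hx => by rw [f4 x hx, ap_one]
      have : α = 1 := orderOf_eq_one_iff.1 (ho.eq_one_of_dvd (orderOf_dvd_of_pow_eq_one (by rw [sq, this])))
      intro x _
      rw [this, ap_one, inv_mul_cancel]; exact one_mem _
    · rcases all R hR with rfl | rfl
      · exact kM hR s vM cW.1 α hα
      · exact kM hR s' vM' cW.2 α hα
  obtain ⟨e⟩ := (CfsgH2.idx2_invol (o2 s.yp s.yZ) (o2 s'.yp s'.yZ) fun k => n1 (k ▸ s.yP)).dihedral (n := 4)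
    (orderOf_eq_prime_pow (p := 2) (n := 1) (by rwa [pow_one, sq1]) (by
      rw [show 2 ^ (1 + 1) = 2 * 2 from rfl, pow_mul, sq1, s.zp]))
  exact ⟨(topEquiv.symm.trans (MulEquiv.subgroupCongr (top_le_iff.1 (hh ▸ hM)).symm)).trans e⟩

theorem Sat.es_of_center (hF : Sat F p) (hc : F.core = ⊥) (hh : hyp(F, p) = ⊤) (hZ : (center X).index ≤ p ^ 2)
    [Nontrivial X] : IsExtraspecial p X ∧ Nat.card X = p ^ 3 ∧ (p ≠ 2 → Monoid.exponent X = p) ∧
      (p = 2 → Nonempty (X ≃* DihedralGroup 4)) := by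
  obtain ⟨P, hP⟩ := hF.exists_ess hc
  obtain ⟨a, ca⟩ := hF.ai_of_ess hZ hP
  have cd : Nat.card (commutator X) = p := Nat.eq_of_mul_eq_mul_left Nat.card_pos (a.card_A.symm.trans ca)
  have k : Nat.card X = p ^ 3 ∧ (p ≠ 2 → Monoid.exponent X = p) ∧ (p = 2 → Nonempty (X ≃* DihedralGroup 4)) := by
    by_cases hp2 : p = 2
    · subst hp2
      obtain ⟨e⟩ := dihedral_of_center hF hc hh hZ
      exact ⟨by rw [Nat.card_congr e.toEquiv, DihedralGroup.nat_card]; rfl, fun k => absurd rfl k, fun _ => ⟨e⟩⟩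
    have l := (hF.center_le_der hp2 hc (center_ne_bot' a.pg) ((card_le_of_le inf_le_right).trans cd.le) fun P hP =>
      .inr ⟨(hF.ai_of_ess hZ hP).1.ab, (hF.ai_of_ess hZ hP).2⟩).1
    obtain ⟨W, V, z, y, s⟩ := hF.spl hP a.ab ca
    have e := s.z0 ((card_le_of_le inf_le_right).trans cd.le)
    rw [inf_eq_left.2 l] at e
    have c : Nat.card X = p ^ 3 := by rw [a.card_top, cd, ← e, Nat.card_zpowers, s.oz]; ring
    refine ⟨c, fun _ => ?_, fun k => absurd k hp2⟩
    obtain ⟨Q, hQ, nQ⟩ := hF.two_ess hc hP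
    obtain ⟨a', ca'⟩ := hF.ai_of_ess hZ hQ
    obtain ⟨W', V', z', y', s'⟩ := hF.spl hQ a'.ab ca'
    have n1 : y' ∉ P := fun k => nQ (eq_of_le_of_card_ge (s'.eqP ▸ sup_le (ess_center hP) (zpowers_le.2 k)) (by rw [ca, ca']))
    have t : ⊤ ≤ omegaOne p (⊤ : Subgroup X) := by
      conv_lhs => rw [← a.sup n1, ← s.eqP, ← e]
      exact sup_le (sup_le (zpowers_le.2 (CfsgH2.mem_omegaOne trivial s.zp)) (zpowers_le.2 (CfsgH2.mem_omegaOne trivial s.yp)))
        (zpowers_le.2 (CfsgH2.mem_omegaOne trivial s'.yp))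
    exact (Monoid.exponent_eq_prime_iff hp.out).2 fun g hg => orderOf_eq_prime (CfsgH2.omegaOne_exponent_of_class ⊤ a.pgT
      (.inl ⟨hp2, CfsgH2.class_two_of_card_le a.pgT (by rw [card_top, c])⟩) g (t trivial)) hg
  obtain ⟨z, z1, z2⟩ := es_of_cube (R := (⊤ : Subgroup X)) (by rw [card_top, k.1]) fun q => a.na (top_le_iff.1 (q.trans cc_top.le))
  exact ⟨z1.isExtraspecial_top z2, k⟩

end top

section
variable {Ω : Type u} [Group Ω] {S : Subgroup Ω} {F : FusionSystem S} {A P : Subgroup Ω} {p : ℕ}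

theorem map_center [Finite S] : (center S).map S.subtype = S ⊓ CC(S) := by
  refine le_antisymm ?_ fun x hx => ⟨⟨x, hx.1⟩, (mem_zc hx.1).1 hx, rfl⟩
  rintro _ ⟨x, hx, rfl⟩
  exact (mem_zc x.2).2 hx

theorem comm_sub (hA : A ≤ S) : A.subgroupOf S ≤ CC(A.subgroupOf S) ↔ IsMulCommutative A :=
  Iff.trans (b := A ≤ CC(A)) ⟨fun h x hx y hy => congrArg Subtype.val (h (x := ⟨x, hA hx⟩) hx ⟨y, hA hy⟩ hy),
    fun h _ hx _ hy => Subtype.ext (h (mem_subgroupOf.1 hx) _ hy)⟩ CfsgH2.isMulCommutative_iff_le_centralizer.symm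

variable [Finite S] [hp : Fact p.Prime]

theorem ai_of (hS : IsPGroup p S) (hna : ¬ IsMulCommutative S)
    (hA : A ≤ S ∧ IsMulCommutative A ∧ (A.subgroupOf S).index = p) : AI p (A.subgroupOf S) :=
  ⟨hS, (comm_sub hA.1).2 hA.2.1, hA.2.2, fun k => hna (center_eq_top_iff.1 k)⟩

theorem uniq_of (h : ∀ B : Subgroup Ω, B ≤ S → IsMulCommutative B → (B.subgroupOf S).index = p → B = A) :
    ∀ B : Subgroup S, B ≤ CC(B) → B.index = p → B = A.subgroupOf S := fun B h1 h2 => by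
  have e : (B.map S.subtype).subgroupOf S = B := comap_map_eq_self_of_injective S.subtype_injective B
  rw [← h (B.map S.subtype) (map_subtype_le B) ((comm_sub (map_subtype_le B)).1 (e.symm ▸ h1)) (e.symm ▸ h2), e]

theorem Sat.ai_ess (hF : Sat F p) (hna : ¬ IsMulCommutative S)
    (hA : A ≤ S ∧ IsMulCommutative A ∧ (A.subgroupOf S).index = p) (hP : F.IsEssential p P) :
    (P = A ∨ (∃ x ∈ S, x ∉ A ∧ P = (S ⊓ CC(S)) ⊔ zpowers x) ∨ (Z₂(S).map S.subtype ≤ A ∧
      ∃ x ∈ S, x ∉ A ∧ P = Z₂(S).map S.subtype ⊔ zpowers x)) ∧ (P.subgroupOf (S ⊓ NN(P))).index = p := by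
  obtain ⟨E, sE, e1, -, -, -, i⟩ := exists_top hF
  have l := (hF.ess_lt hP).le
  have m : (P.subgroupOf S).map S.subtype = P := map_subgroupOf_eq_of_le l
  obtain ⟨k1, k2⟩ := (ai_of hF.pg hna hA).ess sE (e1 P hP)
  refine ⟨?_, ?_⟩
  · rcases k2 with k | ⟨x, hx, k | k⟩
    · exact .inl (by rw [← m, k, map_subgroupOf_eq_of_le hA.1])
    · exact .inr (.inl ⟨x, x.2, hx, by rw [← m, k.1, Subgroup.map_sup, map_center, MonoidHom.map_zpowers]; rfl⟩)
    · exact .inr (.inr ⟨map_le_iff_le_comap.2 k.2.2.1, x, x.2, hx, by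
        rw [← m, k.1, Subgroup.map_sup, MonoidHom.map_zpowers]; rfl⟩)
  · rw [← relIndex_map_map_of_injective _ _ S.subtype_injective, ← im_hom _ NI(_, _), i.hiso.im_NI le_top, im_hom, m] at k1
    exact k1

theorem Sat.ai_ess_ne (hF : Sat F p) (hna : ¬ IsMulCommutative S)
    (hA : A ≤ S ∧ IsMulCommutative A ∧ (A.subgroupOf S).index = p)
    (hu : ∀ B : Subgroup Ω, B ≤ S → IsMulCommutative B → (B.subgroupOf S).index = p → B = A)
    (hP : F.IsEssential p P) (hPA : P ≠ A) :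
    Z₂(S).map S.subtype ≤ A ∧ Nat.card ↥((S ⊓ CC(S)) ⊓ (commutator S).map S.subtype) = p ∧
      (((S ⊓ CC(S)) ⊔ (commutator S).map S.subtype).subgroupOf A).index = p ∧
      ((S ⊓ CC(S)).subgroupOf (Z₂(S).map S.subtype)).index = p ∧
      ∀ m : ℕ, ((S ⊓ CC(S)).subgroupOf S).index = p ^ m → 3 ≤ m → ¬ S.lowerCentralSeries (m - 2) ≤ S ⊓ CC(S) := by
  obtain ⟨E, sE, e1, -⟩ := exists_top hF
  have l := (hF.ess_lt hP).le
  obtain ⟨k1, k2, k3, k4, k5⟩ := (ai_of hF.pg hna hA).ess_ne sE (uniq_of hu) (e1 P hP) fun k =>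
    hPA (by rw [← map_subgroupOf_eq_of_le l, k, map_subgroupOf_eq_of_le hA.1])
  rw [← map_center]
  refine ⟨map_le_iff_le_comap.2 k1, ?_, ?_, ?_, fun m hm h3 k => k5 m ?_ h3 ?_⟩
  · rw [← map_inf _ _ _ S.subtype_injective, card_map_of_injective S.subtype_injective, k2]
  · rw [← relIndex_map_map_of_injective _ _ S.subtype_injective, map_subgroupOf_eq_of_le hA.1, Subgroup.map_sup] at k3
    exact k3
  · rw [← relIndex_map_map_of_injective _ _ S.subtype_injective] at k4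
    exact k4
  · rwa [subgroupOf, comap_map_eq_self_of_injective S.subtype_injective] at hm
  · rwa [← top_subtype_lowerCentralSeries, map_le_map_iff_of_injective S.subtype_injective] at k

theorem Sat.ai_not_ess (hF : Sat F p) (hp2 : p ≠ 2) (hna : ¬ IsMulCommutative S)
    (hA : A ≤ S ∧ IsMulCommutative A ∧ (A.subgroupOf S).index = p) (hc : F.core = ⊥) (hAe : ¬ F.IsEssential p A) :
    (∃ x ∈ S, x ∉ A ∧ F.IsEssential p ((S ⊓ CC(S)) ⊔ zpowers x)) ∧ S ⊓ CC(S) ≤ (commutator S).map S.subtype ∧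
      ∀ n : ℕ, Nat.card S = p ^ n → 3 ≤ n → S.lowerCentralSeries (n - 2) ≠ ⊥ := by
  obtain ⟨E, sE, -, e2, e3, -⟩ := exists_top hF
  obtain ⟨⟨x, hx, k1⟩, k2, k3⟩ := (ai_of hF.pg hna hA).not_ess sE hp2
    ((map_eq_bot_iff_of_injective _ S.subtype_injective).1 (e3.trans hc)) fun k =>
      hAe (map_subgroupOf_eq_of_le hA.1 ▸ e2 _ k)
  rw [← map_center]
  refine ⟨⟨x, x.2, hx, ?_⟩, map_mono k2, fun n hn h3 k => k3 n hn h3 ?_⟩
  · have := e2 _ k1
    rwa [Subgroup.map_sup, MonoidHom.map_zpowers] at this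
  · rwa [← top_subtype_lowerCentralSeries, map_eq_bot_iff_of_injective _ S.subtype_injective] at k

theorem Sat.es_of_center' (hF : Sat F p) (h1 : S ≠ ⊥) (hc : F.core = ⊥) (hh : hyp(F, p) = S)
    (hZ : (center S).index ≤ p ^ 2) : IsExtraspecial p S ∧ Nat.card S = p ^ 3 ∧ (p ≠ 2 → Monoid.exponent S = p) ∧
      (p = 2 → Nonempty (S ≃* DihedralGroup 4)) := by
  obtain ⟨E, sE, -, -, e3, e4, -⟩ := exists_top hF
  haveI := (nontrivial_iff_ne_bot S).2 h1
  exact sE.es_of_center ((map_eq_bot_iff_of_injective _ S.subtype_injective).1 (e3.trans hc))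
    (map_injective S.subtype_injective (by rw [e4, hh, ← MonoidHom.range_eq_map, range_subtype])) hZ

end

end CfsgFS
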