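import Cfsg.Agent.FS.Res6

/-! Fusion systems on a Sylow `p`-subgroup of `SL₃(q)`. -/

set_option autoImplicit false
set_option linter.unusedSectionVars false

namespace CfsgFS

open Subgroup Cfsg Cfsg.FusionSystem CfsgH9
open CfsgH2 (centMod mem_centMod)
open scoped commutatorElement MatrixGroups

universe u

structure Heis (X : Type*) [Group X] : Prop where
  der : ∀ x y : X, x * y * x⁻¹ * y⁻¹ ∈ center X
  ab : ∀ x y z : X, x ∉ center X → Commute x y → Commute x z → Commute y z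
  ex : ∀ b ∉ center X, ∀ o ∈ center X, ∃ t, t * b * t⁻¹ * b⁻¹ = o

section
variable {X K : Type*} [Group X] [Field K]

theorem heis_of (a b c : X → K) (ha : ∀ x y, a (x * y) = a x + a y) (hb : ∀ x y, b (x * y) = b x + b y)
    (hc : ∀ x y, c (x * y) = c x + c y + a x * b y) (inj : ∀ x y, a x = a y → b x = b y → c x = c y → x = y)
    (surj : ∀ r s t, ∃ x, a x = r ∧ b x = s ∧ c x = t) : Heis X := by
  have com : ∀ x y, Commute x y ↔ a x * b y = a y * b x := fun x y => ⟨fun h => by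
    have := congrArg c h.eq
    rw [hc, hc] at this
    linear_combination this, fun h => inj _ _ (by rw [ha, ha, add_comm]) (by rw [hb, hb, add_comm])
      (by rw [hc, hc]; linear_combination h)⟩
  have cen : ∀ x, x ∈ center X ↔ a x = 0 ∧ b x = 0 := fun x => ⟨fun h => by
    obtain ⟨y, y1, y2, -⟩ := surj 0 1 0
    obtain ⟨z, z1, z2, -⟩ := surj 1 0 0
    have h1 := (com _ _).1 (mem_center_iff.1 h y)
    have h2 := (com _ _).1 (mem_center_iff.1 h z)
    rw [y1, y2] at h1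
    rw [z1, z2] at h2
    exact ⟨by linear_combination -h1, by linear_combination h2⟩,
    fun h => mem_center_iff.2 fun y => (com _ _).2 (by rw [h.1, h.2]; ring)⟩
  have e : ∀ x y : X, x * y * x⁻¹ * y⁻¹ * (y * x) = x * y := fun x y => by group
  refine ⟨fun x y => (cen _).2 ⟨?_, ?_⟩, fun x y z h h1 h2 => ?_, fun x h o ho => ?_⟩
  · have := congrArg a (e x y)
    rw [ha _ (y * x), ha y x, ha x y] at this
    linear_combination this
  · have := congrArg b (e x y)
    rw [hb _ (y * x), hb y x, hb x y] at this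
    linear_combination this
  · rw [cen, not_and_or] at h
    rw [com] at *
    rcases h with h | h
    · exact mul_left_cancel₀ h (by linear_combination a y * h2 - a z * h1)
    · exact mul_left_cancel₀ h (by linear_combination b y * h2 - b z * h1)
  · rw [cen] at h ho
    obtain ⟨t, ht⟩ : ∃ t, a t * b x - a x * b t = c o := by
      rcases not_and_or.1 h with h | h
      · obtain ⟨t, t1, t2, -⟩ := surj 0 (-c o / a x) 0
        exact ⟨t, by rw [t1, t2]; field_simp; ring⟩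
      · obtain ⟨t, t1, t2, -⟩ := surj (c o / b x) 0 0
        exact ⟨t, by rw [t1, t2]; field_simp; ring⟩
    refine ⟨t, mul_right_cancel (b := x * t) ((e t x).trans (inj _ _ ?_ ?_ ?_))⟩
    · simp only [ha, ho.1]; ring
    · simp only [hb, ho.2]; ring
    · simp only [hc, hb, ho.1]; linear_combination ht

def u3 (a b c : K) : SL(3, K) := ⟨!![1, a, c; 0, 1, b; 0, 0, 1], by simp [Matrix.det_fin_three]⟩

theorem u3_mul (a b c a' b' c' : K) : u3 a b c * u3 a' b' c' = u3 (a + a') (b + b') (c + c' + a * b') := by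
  refine Subtype.ext ?_
  rw [Matrix.SpecialLinearGroup.coe_mul]
  ext i j
  fin_cases i <;> fin_cases j <;> simp [u3, Matrix.mul_apply, Fin.sum_univ_three] <;> ring

theorem u3_zero : u3 (0 : K) 0 0 = 1 := by
  ext i j
  fin_cases i <;> fin_cases j <;> simp [u3]

def U3 (K : Type*) [Field K] : Subgroup SL(3, K) where
  carrier := {g | ∃ a b c, u3 a b c = g}
  one_mem' := ⟨0, 0, 0, u3_zero⟩
  mul_mem' := by rintro _ _ ⟨a, b, c, rfl⟩ ⟨a', b', c', rfl⟩; exact ⟨_, _, _, (u3_mul ..).symm⟩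
  inv_mem' := by
    rintro _ ⟨a, b, c, rfl⟩
    exact ⟨-a, -b, a * b - c, eq_inv_of_mul_eq_one_left (by rw [u3_mul, ← u3_zero]; congr 1 <;> ring)⟩

theorem heis_U3 (e : X ≃* U3 K) : Heis X := by
  have k : ∀ x, (e x).1 = u3 ((e x).1.1 0 1) ((e x).1.1 1 2) ((e x).1.1 0 2) := fun x => by
    obtain ⟨a, b, c, h⟩ := (e x).2
    rw [← h]; rfl
  refine heis_of (fun x => (e x).1.1 0 1) (fun x => (e x).1.1 1 2) (fun x => (e x).1.1 0 2) (fun x y => ?_) (fun x y => ?_)
    (fun x y => ?_) (fun x y h1 h2 h3 => e.injective (Subtype.ext (by rw [k x, k y]; congr))) fun r s t =>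
    ⟨e.symm ⟨u3 r s t, r, s, t, rfl⟩, by simp [u3]⟩
  all_goals (beta_reduce; rw [map_mul, coe_mul, k x, k y, u3_mul]; rfl)

theorem heis_sylow {p : ℕ} [hp : Fact p.Prime] [Fintype K] [CharP K p] (T : Sylow p SL(3, K))
    (e : X ≃* (T : Subgroup SL(3, K))) : Heis X := by
  classical
  obtain ⟨n, -, hn⟩ := FiniteField.card K p
  have c : Nat.card (U3 K) = Fintype.card K ^ 3 := by
    rw [← Nat.card_congr (Equiv.ofBijective (fun v : K × K × K => (⟨u3 v.1 v.2.1 v.2.2, _, _, _, rfl⟩ : U3 K))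
      ⟨fun v w h => ?_, fun ⟨_, a, b, c, h⟩ => ⟨(a, b, c), Subtype.ext h⟩⟩)]
    · simp [pow_succ, mul_assoc]
    · exact Prod.ext (congrArg (fun g : U3 K => g.1.1 0 1) h) (Prod.ext (congrArg (fun g : U3 K => g.1.1 1 2) h)
        (congrArg (fun g : U3 K => g.1.1 0 2) h))
  have d := card_dvd_of_injective (Matrix.SpecialLinearGroup.toGL (n := Fin 3) (R := K)) Matrix.SpecialLinearGroup.toGL_injective
  have h1 : 1 < Fintype.card K := Fintype.one_lt_card
  have g : Nat.card (GL (Fin 3) K) = Fintype.card K ^ 3 * ((Fintype.card K ^ 3 - 1) * ((Fintype.card K ^ 2 - 1) *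
      (Fintype.card K ^ 1 - 1))) := by
    rw [Matrix.card_GL_field, Fin.prod_univ_three]
    generalize Fintype.card K = q at *
    have a1 : q ^ 1 ≤ q ^ 3 := Nat.pow_le_pow_right h1.le (by norm_num)
    have a2 : q ^ 2 ≤ q ^ 3 := Nat.pow_le_pow_right h1.le (by norm_num)
    have b1 : 1 ≤ q ^ 1 := Nat.one_le_pow _ _ (by omega)
    have b2 : 1 ≤ q ^ 2 := Nat.one_le_pow _ _ (by omega)
    have b3 : 1 ≤ q ^ 3 := Nat.one_le_pow _ _ (by omega)
    simp only [Fin.val_zero, Fin.val_one, Fin.val_two, pow_zero]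
    zify [a1, a2, b1, b2, b3, h1.le]; ring
  rw [← card_mul_index (U3 K), c, g] at d
  have d' := Nat.dvd_of_mul_dvd_mul_left (pow_pos (by omega) 3) d
  have nd : ∀ i, ¬ p ∣ Fintype.card K ^ (i + 1) - 1 := fun i k => hp.out.one_lt.ne' (Nat.dvd_one.1
    ((Nat.dvd_sub_iff_right (Nat.one_le_pow _ _ (by omega)) (dvd_pow (hn ▸ dvd_pow_self p n.ne_zero) (by omega))).1 k))
  have pg : IsPGroup p (U3 K) := .of_card (n := n * 3) (by rw [c, hn, pow_mul])
  exact heis_U3 (e.trans (Sylow.equiv T (pg.toSylow fun k => by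
    rcases (Nat.Prime.dvd_mul hp.out).1 (k.trans d') with k | k
    · exact nd 2 k
    · exact ((Nat.Prime.dvd_mul hp.out).1 k).elim (nd 1) (nd 0))))

end

section top
variable {X : Type u} [Group X] [Finite X] {F : FusionSystem (⊤ : Subgroup X)} {E P Q : Subgroup X} {p : ℕ}
  [hp : Fact p.Prime] {x : X}

theorem Heis.normal (h : Heis X) (hP : center X ≤ P) : P.Normal :=
  ⟨fun x hx g => by simpa using mmul (hP (h.der g x)) hx⟩

theorem Heis.not_inv (h : Heis X) (hF : Sat F p) (hP : F.IsEssential p P) :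
    ¬ ∀ α ∈ F.autGroup P, ∀ x ∈ center X, ap α x ∈ center X := fun k => (hF.ess_lt hP).not_ge fun a _ =>
  hF.ess_key hP (ess_center hP) k ⟨trivial, le_norm (B := ⊤) (h.normal (ess_center hP)) trivial⟩ (fun x _ => h.der a x)
    (le_centralizer_iff.1 (center_le_cc (P := ⊤)) (mem_top a))

theorem Heis.ess_ab (h : Heis X) (hF : Sat F p) (hP : F.IsEssential p P) : P ≤ CC(P) := by
  by_contra k
  have e : P ⊓ CC(P) = center X := le_antisymm (fun x hx => by
    by_contra q
    exact k fun y hy z hz => (h.ab x z y q (hx.2 z hz).symm (hx.2 y hy).symm).eq) (le_inf (ess_center hP) center_le_cc)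
  exact h.not_inv hF hP fun α _ x hx => e ▸ ap_mem_center α (e ▸ hx)

theorem Heis.ess_eq (h : Heis X) (hF : Sat F p) (hP : F.IsEssential p P) (hx : x ∈ P) (h1 : x ∉ center X) :
    P = CC(zpowers x) := le_antisymm ((h.ess_ab hF hP).trans (centralizer_le (zpowers_le.2 hx))) fun y hy =>
  ess_cc hP fun z hz => (h.ab x z y h1 (comm_of_le (h.ess_ab hF hP) hx hz) (cent_zpowers_iff.1 hy).symm).eq

theorem Heis.constrained (h : Heis X) (hF : Sat F p) (hc : F.core ≠ ⊥) : ∃ Q, F.IsNormal Q ∧ F.IsCentric Q := by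
  by_cases h0 : ∃ P, F.IsEssential p P
  swap
  · exact ⟨⊤, hF.nm_top (not_exists.1 h0), centric_top⟩
  obtain ⟨P, hP⟩ := h0
  by_cases h1 : ∀ Q, F.IsEssential p Q → Q = P
  · refine ⟨P, hF.nm_of fun Q hQ => ?_, hP.1⟩
    rcases hQ with rfl | hQ
    · exact ⟨le_top, fun α hα x hx => h1 _ ((Inv.fiso (inv_refl F) hα).essential hP) ▸ mem_im_of_mem _ hx⟩
    · obtain rfl := h1 Q hQ
      exact ⟨le_rfl, fun α _ x hx => ap_mem α hx⟩
  push Not at h1
  obtain ⟨Q, hQ, nQ⟩ := h1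
  have l1 := Nm.le_of_cr hF.pg (nm_core F) hP.1 (hF.ess_rad hP)
  have l2 := Nm.le_of_cr hF.pg (nm_core F) hQ.1 (hF.ess_rad hQ)
  have l : F.core ≤ center X := fun x hx => by
    by_contra k
    exact nQ ((h.ess_eq hF hQ (l2 hx) k).trans (h.ess_eq hF hP (l1 hx) k).symm)
  obtain ⟨⟨o, ho⟩, o1⟩ := ne_bot_iff_exists_ne_one.1 hc
  have := h.not_inv hF hP
  push Not at this
  obtain ⟨α, hα, z, hz, nz⟩ := this
  obtain ⟨t, ht⟩ := h.ex _ nz o (l ho)
  obtain ⟨G, _, _, θ, π, L, k⟩ := hF.exists_ec hP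
  have N : ∀ x, x ∈ NI(⊤, P) := fun x => ⟨trivial, le_norm (B := ⊤) (h.normal (ess_center hP)) trivial⟩
  have hm : ∀ x y, θ (x * y) = θ x * θ y := fun x y => L.hom.mul (N x) (N y)
  have hi : ∀ x, θ x⁻¹ = (θ x)⁻¹ := fun x => L.hom.inv (N x)
  obtain ⟨g, hg⟩ := L.surj ⟨α, hα⟩
  have e := L.act g z (ess_center hP hz)
  rw [hg] at e
  have n : (im F.core θ).Normal := L.normal l1 fun β hβ x hx => SC.mem (Nm.sc (nm_core F)) ((mem_autGroup le_top).1 hβ) (l1 hx) hx
  have c : CfsgH2.cj g (im NI(⊤, P) θ) ≤ CC(zpowers (θ (ap α z))) := fun y hy => by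
    obtain ⟨x, -, q⟩ := (L.mem_im le_rfl).1 (CfsgH2.mem_cj.1 hy)
    have : Commute (θ x) (θ z) := by rw [Commute, SemiconjBy, ← hm, ← hm, mem_center_iff.1 hz x]
    have := commute_conj (k := g) this
    rw [q] at this
    exact cent_zpowers_iff.2 (by simpa [mul_assoc, ← e] using this)
  have s := (syl_cj k.syl g).mono (B := centMod (im F.core θ) {θ (ap α z)}) (fun y hy => mem_centMod.2
    ⟨le_norm (B := ⊤) n trivial, by
      rintro _ rfl; rw [comm_one_of_commute (cent_zpowers_iff.1 (c hy))]; exact one_mem _⟩) le_top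
  have m : θ t ∈ centMod (im F.core θ) {θ (ap α z)} := mem_centMod.2 ⟨le_norm (B := ⊤) n trivial, by
    rintro _ rfl; rw [← hi, ← hi, ← hm, ← hm, ← hm, ht]; exact mem_im_of_mem θ ho⟩
  obtain ⟨w, w1, w2⟩ := s.conj (k.pgT.to_le (zpowers_le.2 (mem_im_of_mem θ (N t)))) (zpowers_le.2 m)
  have c1 := commute_conj (k := w⁻¹) (cent_zpowers_iff.1 (c (w2 _ (mem_zpowers _))))
  obtain ⟨o', o2, o3⟩ := (L.mem_im (l1.trans L.leN)).1 ((mem_centMod.1 (minv w1)).2 _ rfl)
  have c2 : Commute (θ t) (θ o') := by rw [Commute, SemiconjBy, ← hm, ← hm, mem_center_iff.1 (l o2) t]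
  rw [← eq_mul_inv_iff_mul_eq.1 o3, show w⁻¹ * (w * θ t * w⁻¹) * w⁻¹⁻¹ = θ t by group] at c1
  have c3 := comm_one_of_commute (c2.inv_right.mul_right c1)
  rw [inv_mul_cancel_left, ← hi, ← hi, ← hm, ← hm, ← hm, ht] at c3
  exact absurd (Subtype.ext (L.hiso.inj o (N o) c3)) o1

end top

theorem Sat.core_of_heis {Ω : Type u} [Group Ω] {S : Subgroup Ω} {F : FusionSystem S} {p : ℕ} [Finite S] [Fact p.Prime]
    (hF : Sat F p) (h : Heis S) (hex : F.IsExotic p) : F.core = ⊥ := by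
  by_contra k
  obtain ⟨E, sE, -, -, e3, -, i⟩ := exists_top hF
  obtain ⟨Q, q1, q2⟩ := h.constrained sE fun q => k (by rw [← e3, q, Subgroup.map_bot])
  obtain ⟨G, _, θ, m⟩ := exists_model hF ((i.nm_iff le_top).2 q1) (i.centric q2)
  exact hex.2 ⟨G, inferInstance, m.model.1, _, m.model.2.1, m.model.2.2.1⟩

end CfsgFS
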