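import Cfsg.Agent.FS.Cent

/-! Abstract local theory for gluing constructions. -/

set_option autoImplicit false
set_option linter.unusedSectionVars false

namespace CfsgFS

open Subgroup Cfsg Cfsg.FusionSystem CfsgH9
open CfsgH2 (resIn)
open scoped commutatorElement

variable {p : ℕ} {Ω : Type*} [Group Ω] {S T : Subgroup Ω} {F : FusionSystem S}
  {P Q R U W Y : Subgroup Ω} {f g : Ω → Ω}

/-- `p'`-automorphisms trivial modulo `T` -/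
structure PA (F : FusionSystem S) (T : Subgroup Ω) (p : ℕ) (P : Subgroup Ω) (α : MulAut P) : Prop where
  mor : Mor F P (ap α)
  cop : (orderOf α).Coprime p
  md : ∀ x ∈ P, x⁻¹ * ap α x ∈ T

theorem PA.tr (h : F.StronglyClosed T) {α : MulAut P} {β : MulAut Q} (i : Iso F P Q f)
    (e : ∀ x ∈ P, ap β (f x) = f (ap α x)) (a : PA F T p P α) : PA F T p Q β := by
  obtain ⟨τ, hτ⟩ := exists_tr i
  obtain rfl := hτ.eq i e
  refine ⟨(mem_autGroup i.le').1 ((hτ.mem_iff i).2 a.mor.mem_autGroup), by rw [MulEquiv.orderOf_eq]; exact a.cop,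
    fun y hy => ?_⟩
  obtain ⟨x, hx, rfl⟩ := i.surj hy
  rw [e x hx, ← i.mor.inv hx, ← i.mor.mul (minv hx) (ap_mem α hx)]
  exact SC.mem h i.mor (mmul (minv hx) (ap_mem α hx)) (a.md x hx)

variable [Finite S] [Fact p.Prime]

theorem PA.res {α : MulAut P} (a : PA F T p P α) (hR : R ≤ P) (h : ∀ x ∈ R, ap α x ∈ R) :
    ∃ β : MulAut R, PA F T p R β ∧ ∀ x ∈ R, ap β x = ap α x := by
  obtain ⟨β, b1, b2, b3⟩ := exists_res_aut hR a.mor.le a.mor.mem_autGroup h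
  exact ⟨β, ⟨(mem_autGroup (hR.trans a.mor.le)).1 b1, a.cop.coprime_dvd_left b3, fun x hx => b2 x hx ▸ a.md x (hR hx)⟩, b2⟩

theorem PA.maps {α : MulAut P} (a : PA F T p P α) (hR : R ≤ P) (h : P ⊓ T ≤ R) : ∀ x ∈ R, ap α x ∈ R :=
  fun x hx => by simpa using mmul hx (h ⟨mmul (minv (hR hx)) (ap_mem α (hR hx)), a.md x (hR hx)⟩)

theorem defect_cent {k : Ω → Ω} (hf : Mor F P f) (hk : Mor F Q k) (l1 : U ≤ P) (l2 : U ≤ Q) (e : ∀ x ∈ U, k x = f x)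
    (hU : ∀ x ∈ U, f x ∈ U) {x : Ω} (h1 : x ∈ P) (h2 : x ∈ Q) (hn : x ∈ NN(U)) : (k x)⁻¹ * f x ∈ CI(S, U) := by
  have := finite_of_le (l1.trans hf.le)
  refine ⟨mmul (minv (hk.mem h2)) (hf.mem h1), fun y hy => ?_⟩
  obtain ⟨u, hu, rfl⟩ := ((hf.restrict l1).iso_self hU).surj hy
  have e1 := hk.map_conj h2 (l2 hu)
  rw [e _ (conj_mem_of_mem_normalizer hn hu), hf.map_conj h1 (l1 hu), e u hu] at e1
  calc f u * ((k x)⁻¹ * f x) = (k x)⁻¹ * (k x * f u * (k x)⁻¹) * f x := by group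
    _ = _ := by rw [← e1]; group

/-- extension of an automorphism along a commutator condition, inside a normalizer system -/
theorem ns_extend (hF : Sat F p) (hT : F.StronglyClosed T) (fn : F.IsFullyNormalized U) {L : FusionSystem NI(S, U)}
    (hL : F.IsNormalizerSystem U L) (hc : CI(T, U) ≤ U) (hY : L.IsFullyNormalized Y) (cY : F.IsCentric Y) (l : U ≤ Y)
    {β : MulAut Y} (b1 : Mor F Y (ap β)) (b2 : ∀ x ∈ Y, x⁻¹ * ap β x ∈ T) (b3 : ∀ x ∈ U, ap β x ∈ U)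
    (hR : R ≤ NI(S, U) ⊓ NN(Y))
    (h : ∀ x ∈ R, ∃ y ∈ NI(S, U) ⊓ NN(Y), x⁻¹ * y ∈ T ∧ ∀ u ∈ U, ap β (x * u * x⁻¹) = y * ap β u * y⁻¹) :
    ∃ g, Mor F (Y ⊔ R) g ∧ ∀ x ∈ Y, g x = ap β x := by
  have := finite_of_le fn.1
  have sL := hF.ns fn hL
  have lS := b1.le
  have nT := SC.norm hT
  have iU := (b1.restrict l).iso_self b3
  have bL : β ∈ L.autGroup _ := (ns_mor hL b1 le_rfl l hY.1 iU.im_eq).mem_autGroup
  refine Iso.extend (iso_ap lS b1.mem_autGroup) (hF.rc_centric cY) (fun x hx => ⟨(hR hx).1.1, (hR hx).2⟩) fun x hx => ?_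
  obtain ⟨y, ⟨y1, n2⟩, y2, y3⟩ := h x hx
  have n1 := (hR hx).2
  have kL : β * cj _ x * β⁻¹ * (cj _ y)⁻¹ ∈ L.autGroup Y :=
    mmul (mconj bL (cj_mem_autGroup L hY.1 (hR hx).1)) (minv (cj_mem_autGroup L hY.1 y1))
  have md : β * cj _ x * β⁻¹ * (cj _ y)⁻¹ ∈ modA Y T := by
    have c := cj_mem_autGroup F lS (hR hx).1.1
    have := mmul (mmul (mem_modA.2 b2) (conj_mem_of_mem_normalizer (modA_norm hT lS c) (minv (mem_modA.2 b2))))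
      (conj_mem_of_mem_normalizer (modA_norm hT lS c) (minv (cj_mem_modA (lS.trans nT) y2 (mmul (minv n1) n2))))
    rw [cj_mul (minv n1) n2, cj_inv n1] at this
    convert this using 1; group
  have fx : ∀ z ∈ U, ap (β * cj _ x * β⁻¹ * (cj _ y)⁻¹) z = z := fun z hz => by
    obtain ⟨u, hu, e⟩ := iU.surj (inv_conj_mem_of_mem_normalizer y1.2 hz)
    rw [ap_mul, ap_mul, ap_mul, ← cj_inv n2, ap_cj (minv n2) (l hz), inv_inv, ← e, ap_inv_ap, ap_cj n1 (l hu), y3 u hu, e]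
    group
  have m := ((mem_autGroup hY.1).1 kL).sub (ns_sub hL)
  have := Syl.opIn_le (have := aut_finite lS; sL.syl hY) (mem_opIn_of_sc sL.pg (Nm.sc (ns_nm hL fn.1)) hY.1 kL
    (fun z _ => fx z) fun z hz => hc ⟨mem_modA.1 md z hz, by
      simpa using (defect_cent m (mor_id F lS) l l (fun z hz => (fx z hz).symm) (fun z hz => (fx z hz).symm ▸ hz) hz hz
        (hY.1 hz).2).2⟩)
  obtain ⟨s, s1, s2⟩ := mem_autInducedBy.1 (mmul this (cj_mem_autInducedBy y1))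
  refine ⟨s, s1.1, fun z hz => ?_⟩
  rw [← s2 _ (ap_mem _ hz), inv_mul_cancel_right, ap_mul, ap_mul, ap_inv_ap, ap_cj n1 hz]

/-- local data -/
structure Rig (F : FusionSystem S) (T : Subgroup Ω) (p : ℕ) (U : Subgroup Ω)
    (K : Subgroup (MulAut ↥(U ⊔ CI(S, U)))) : Prop where
  sat : Sat F p
  sc : F.StronglyClosed T
  tc : TC F T U
  fn : F.IsFullyNormalized U
  k1 : ∀ κ ∈ K, Mor F (U ⊔ CI(S, U)) (ap κ) ∧ (∀ x ∈ U ⊔ CI(S, U), x⁻¹ * ap κ x ∈ T) ∧ ∀ x ∈ U, ap κ x ∈ U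
  k2 : ∀ l : MulAut ↥(U ⊔ CI(S, U)), Mor F (U ⊔ CI(S, U)) (ap l) → (∀ x ∈ U, ap l x ∈ U) → l ∈ NN(K)
  k3 : ∀ (W : Subgroup Ω) (β : MulAut W), U ⊔ CI(S, U) ≤ W → W ≤ NI(S, U) → Mor F W (ap β) → (orderOf β).Coprime p → InK K (ap β) →
    ∀ x ∈ W, x⁻¹ * ap β x ∈ T

variable {K : Subgroup (MulAut ↥(U ⊔ CI(S, U)))}

theorem Rig.ext (h : Rig F T p U K) (l1 : U ≤ P) (l2 : P ≤ NI(S, U)) {α : MulAut P} (a : PA F T p P α)
    (hα : ∃ κ ∈ K, ∀ x ∈ U, ap κ x = ap α x) : ∃ β : MulAut ↥(P ⊔ (U ⊔ CI(S, U))), PA F T p _ β ∧ InK K (ap β) ∧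
      (∀ x ∈ U, ap β x = ap α x) ∧ ∀ x ∈ P, (ap β x)⁻¹ * ap α x ∈ U ⊓ CC(U) := by
  have := finite_of_le h.fn.1
  obtain ⟨κ, c1, c2⟩ := hα
  obtain ⟨d1, d2, d3⟩ := h.k1 κ c1
  have aU : ∀ x ∈ U, ap α x ∈ U := fun x hx => c2 x hx ▸ d3 x hx
  obtain ⟨α₀, a0, e0⟩ := a.res l1 aU
  obtain ⟨β₀, b1, b3, b4, γ, c3, c4⟩ := exists_pprime_ext le_sup_left d1 (fun x => ap_mem κ)
    (fun x hx => (c2 x hx).trans (e0 x hx).symm) a0.cop
  have bK : β₀ ∈ K := (zpowers_le.2 (by rwa [ap_ext c3])) c4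
  obtain ⟨m1, b2, bU⟩ := h.k1 β₀ bK
  have lV := sup_cent_le h.fn.1
  obtain ⟨L, hL⟩ := exists_NS F h.fn.1
  have eU : ∀ x ∈ U, ap β₀ x = ap α x := fun x hx => (b4 x hx).trans (e0 x hx)
  obtain ⟨g, g1, g2⟩ := ns_extend h.sat h.sc h.fn hL (h.tc.self h.sc.1) (fn_of_normal lV sup_cent_norm)
    (centric_sup_cent (h.sat.fc h.fn)) le_sup_left m1 b2 bU (R := P) (le_inf l2 (l2.trans sup_cent_norm)) fun x hx =>
      ⟨ap α x, ⟨l2 (ap_mem α hx), sup_cent_norm (l2 (ap_mem α hx))⟩, a.md x hx, fun u hu => by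
        rw [eU _ (conj_mem_of_mem_normalizer (l2 hx).2 hu), eU u hu, a.mor.map_conj hx (l1 hu)]⟩
  rw [sup_comm] at g1
  have df : ∀ k : Ω → Ω, Mor F (P ⊔ (U ⊔ CI(S, U))) k → (∀ x ∈ U, k x = ap α x) → ∀ x ∈ P,
      (k x)⁻¹ * ap α x ∈ CI(S, U) := fun k k1 k2 x hx =>
    defect_cent a.mor k1 l1 (l1.trans le_sup_left) k2 aU hx (mem_sup_left hx) (l2 hx).2
  obtain ⟨β, c1, c2, c3, -⟩ := exists_pprime_ext le_sup_right g1 (maps_of_sup g1.homOn (fun x hx => by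
    have := mmul (mem_sup_left (ap_mem α hx)) (minv (mem_sup_right (mem_sup_right
      (df g g1 (fun x hx => (g2 x (mem_sup_left hx)).trans (eU x hx)) x hx))) : _ ∈ P ⊔ (U ⊔ CI(S, U)))
    simpa using this) fun x hx => g2 x hx ▸ mem_sup_right (ap_mem _ hx)) g2 b3
  have m2 := (mem_autGroup g1.le).1 c1
  have e2 : ∀ x ∈ U, ap β x = ap α x := fun x hx => (c3 x (mem_sup_left hx)).trans (eU x hx)
  have md := h.k3 _ β le_sup_right (sup_le l2 lV) m2 c2 ⟨β₀, bK, c3⟩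
  refine ⟨β, ⟨m2, c2, md⟩, ⟨β₀, bK, c3⟩, e2, fun x hx => ?_⟩
  have c := df _ m2 e2 x hx
  refine ⟨h.tc.self h.sc.1 ⟨?_, c.2⟩, c.2⟩
  have := mmul (minv (md x (mem_sup_left hx))) (a.md x hx)
  rwa [mul_inv_rev, inv_inv, mul_assoc, mul_inv_cancel_left] at this

theorem exists_ext_V (hr : F.IsReceptive U) (i : Iso F U U f) :
    ∃ l : MulAut ↥(U ⊔ CI(S, U)), Mor F (U ⊔ CI(S, U)) (ap l) ∧ ∀ x ∈ U, ap l x = f x := by
  obtain ⟨g, g1, g2⟩ := Iso.extend_C i hr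
  have := finite_of_le g1.le
  obtain ⟨l, l1, l2⟩ := (g1.iso_self (maps_sup_cent g1 (by rw [im_congr g2, i.im_eq]))).exists_aut
  exact ⟨l, (mem_autGroup g1.le).1 l1, fun x hx => (l2 x (mem_sup_left hx)).trans (g2 x hx)⟩

theorem Rig.conj (h : Rig F T p U K) (i : Iso F U U f) {a b : Ω → Ω} (ha : ∃ κ ∈ K, ∀ x ∈ U, ap κ x = a x)
    (e : ∀ x ∈ U, b (f x) = f (a x)) : ∃ κ ∈ K, ∀ x ∈ U, ap κ x = b x := by
  obtain ⟨l, l1, l2⟩ := exists_ext_V (h.sat.rc' h.fn) i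
  obtain ⟨κ, c1, c2⟩ := ha
  refine ⟨_, conj_mem_of_mem_normalizer (h.k2 l l1 fun x hx => l2 x hx ▸ i.mem hx) c1, fun y hy => ?_⟩
  obtain ⟨x, hx, rfl⟩ := i.surj hy
  rw [e x hx, ← l2 x hx, ap_mul, ap_mul, ap_inv_ap, l2 _ ((h.k1 κ c1).2.2 x hx), c2 x hx]

theorem Rig.rigid (h : Rig F T p U K) (l1 : U ≤ P) (l2 : P ≤ NI(S, U)) {α ξ : MulAut P} (a : PA F T p P α)
    (hα : ∃ κ ∈ K, ∀ x ∈ U, ap κ x = ap α x) (x1 : Mor F P (ap ξ))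
    (x2 : ∀ x ∈ U, ap ξ x = x) (x3 : ∀ x ∈ P, x⁻¹ * ap ξ x ∈ U ⊓ CC(U)) :
    α * ξ * α⁻¹ * ξ⁻¹ ∈ AS(U ⊓ CC(U), P) := by
  have := finite_of_le h.fn.1
  have hF := h.sat
  have aU : ∀ x ∈ U, ap α x ∈ U := fun x hx => let ⟨κ, c1, c2⟩ := hα; c2 x hx ▸ (h.k1 κ c1).2.2 x hx
  obtain ⟨L, hL⟩ := exists_NS F h.fn.1
  have sL := hF.ns h.fn hL
  obtain ⟨k, k1, -, s, s1, s2⟩ := sL.pel_conj l2 (ns_mor hL x1 le_rfl l1 l2 (im_eq_of_eq_self x2)).mem_autGroup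
    (pel_of_fix (hF.pg.to_le h.fn.1) (fun x _ => x2 x) fun x hx => (x3 x hx).1)
  have kU := SC.im_eq (Nm.sc (ns_nm hL h.fn.1)) k1 l1
  have k0 := k1.sub (ns_sub hL)
  have i := k0.iso
  have iU : Iso F U U k := ⟨k0.restrict l1, kU⟩
  obtain ⟨τ, hτ⟩ := exists_tr i
  have l3 : U ≤ im P k := kU ▸ im_mono l1
  obtain ⟨β, b1, -, b2, b3⟩ := h.ext l3 k1.im_le_S (a.tr h.sc i (hτ α)) (h.conj iU hα fun x hx => hτ α x (l1 hx))
  have sC : s ∈ CI(S, U) := ⟨s1.1.1, fun y hy => by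
    obtain ⟨x, hx, rfl⟩ := iU.surj hy
    have := s2 x (l1 hx)
    rw [x2 x hx] at this
    exact (mul_inv_eq_iff_eq_mul.1 this.symm).symm⟩
  have sW : s ∈ im P k ⊔ (U ⊔ CI(S, U)) := mem_sup_right (mem_sup_right sC)
  have bU : im U (ap β) = U := (b1.mor.restrict (l3.trans le_sup_left)).im_eq_self fun y hy => by
    obtain ⟨x, hx, rfl⟩ := iU.surj hy
    rw [b2 _ hy, hτ α x (l1 hx)]; exact iU.mem (aU x hx)
  have bC : ap β s ∈ CI(S, U) := by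
    have := mem_CI_of_mor b1.mor (l3.trans le_sup_left) sW sC.2
    rwa [bU] at this
  have zC : ap β s * s⁻¹ ∈ CC(U) := mmul bC.2 (minv sC.2)
  have zU : ap β s * s⁻¹ ∈ U := h.tc.self h.sc.1 ⟨by
    simpa [mul_assoc] using SC.conj h.sc sC.1 (b1.md s sW), zC⟩
  obtain ⟨z, z1, z2⟩ := iU.surj zU
  have z3 : z ∈ CC(U) := fun y hy => k0.inj (l1 (mmul hy z1)) (l1 (mmul z1 hy)) (by
    rw [k0.mul (l1 hy) (l1 z1), k0.mul (l1 z1) (l1 hy), z2]; exact zC _ (iU.mem hy))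
  refine mem_autInducedBy.2 ⟨z, ⟨z1, z3⟩, fun y hy => ?_⟩
  obtain ⟨x, hx, rfl⟩ : ∃ x ∈ P, ap ξ (ap α x) = y := ⟨ap α⁻¹ (ap ξ⁻¹ y), ap_mem _ (ap_mem _ hy), by
    rw [ap_ap_inv, ap_ap_inv]⟩
  rw [ap_mul, ap_inv_ap, ap_mul, ap_inv_ap, ap_mul]
  have ax := ap_mem α hx
  refine k0.inj (ap_mem α (ap_mem ξ hx)) (mconj (l1 z1) hy) ?_
  have ζ := x3 x hx
  have kx := i.mem hx
  have kζ := iU.mem ζ.1
  have w := b3 _ kx
  have e1 : k (ap ξ x) = k x * k (x⁻¹ * ap ξ x) := by rw [← k0.mul hx (l1 ζ.1)]; simp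
  have e2 := b1.mor.map_conj sW (mem_sup_left kx)
  rw [← s2 x hx, e1, b1.mor.mul (mem_sup_left kx) (mem_sup_left (l3 kζ))] at e2
  rw [k0.map_conj (l1 z1) hy, z2, s2 _ ax, ← hτ α _ (ap_mem ξ hx), e1, ← hτ α x hx,
    (homOn_ap _).mul kx (l3 kζ), ← b2 _ kζ]
  have c1 := w.2 _ (bU ▸ mem_im_of_mem (ap β) kζ)
  have c2 := bC.2 _ w.1
  generalize ap (τ α) (k x) = A at *
  generalize ap β (k x) = B at *
  generalize ap β (k (x⁻¹ * ap ξ x)) = C at *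
  generalize ap β s = D at *
  calc A * C = B * (B⁻¹ * A * C) := by group
    _ = B * C * (B⁻¹ * A) := by rw [← c1]; group
    _ = D * B * (D⁻¹ * (B⁻¹ * A) * D) * D⁻¹ := by rw [e2]; group
    _ = D * B * (D⁻¹ * (D * (B⁻¹ * A))) * D⁻¹ := by rw [← c2]; group
    _ = _ := by group

theorem Rig.uq (h : Rig F T p U K) (l1 : U ≤ P) (l2 : P ≤ NI(S, U)) {α γ : MulAut P} (a : PA F T p P α)
    (c : PA F T p P γ) (hγ : ∃ κ ∈ K, ∀ x ∈ U, ap κ x = ap γ x) (e : ∀ x ∈ U, ap γ x = ap α x) :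
    γ⁻¹ * α ∈ AS(U ⊓ CC(U), P) := by
  have := finite_of_le h.fn.1
  have := finite_of_le a.mor.le
  have cU : ∀ x ∈ U, ap γ x ∈ U := fun x hx => let ⟨κ, c1, c2⟩ := hγ; c2 x hx ▸ (h.k1 κ c1).2.2 x hx
  have x1 := (mem_autGroup a.mor.le).1 (mmul (minv c.mor.mem_autGroup) a.mor.mem_autGroup)
  have x2 : ∀ x ∈ U, ap (γ⁻¹ * α) x = x := fun x hx => by rw [ap_mul, ← e x hx, ap_inv_ap]
  have x3 : ∀ x ∈ P, x⁻¹ * ap (γ⁻¹ * α) x ∈ U ⊓ CC(U) := fun x hx => by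
    have c1 : x⁻¹ * ap (γ⁻¹ * α) x ∈ CC(U) := (defect_cent x1 (mor_id F x1.le) l1 l1 (fun z hz => (x2 z hz).symm)
      (fun z hz => (x2 z hz).symm ▸ hz) hx hx (l2 hx).2).2
    exact ⟨h.tc.self h.sc.1 ⟨mem_modA.1 (mmul (minv (mem_modA.2 c.md)) (mem_modA.2 a.md)) x hx, c1⟩, c1⟩
  exact mem_of_comm_mod (AS_Z_norm l1 cU) (AS_Z_norm l1 fun x hx => (x2 x hx).symm ▸ hx)
    (h.rigid l1 l2 c hγ x1 x2 x3) c.cop (by rw [mul_inv_cancel_left]; exact a.cop)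
    (pel_of_fix (h.sat.pg.to_le h.fn.1) (fun x _ => x2 x) fun x hx => (x3 x hx).1)

/-- every admissible automorphism extends, up to an inner automorphism -/
theorem Rig.ext' (h : Rig F T p U K) (l1 : U ≤ P) (l2 : P ≤ NI(S, U)) {α : MulAut P} (a : PA F T p P α)
    (hα : ∃ κ ∈ K, ∀ x ∈ U, ap κ x = ap α x) : ∃ β : MulAut ↥(P ⊔ (U ⊔ CI(S, U))), PA F T p _ β ∧ InK K (ap β) ∧
      ∃ z ∈ U, ∀ x ∈ P, ap α x = ap β (z * x * z⁻¹) := by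
  obtain ⟨β, b1, b0, b2, b3⟩ := h.ext l1 l2 a hα
  obtain ⟨γ, c1, c2⟩ := b1.res le_sup_left fun x hx => by
    simpa using mmul (ap_mem α hx) (minv (l1 (b3 x hx).1))
  have e : ∀ x ∈ U, ap γ x = ap α x := fun x hx => (c2 x (l1 hx)).trans (b2 x hx)
  obtain ⟨z, z1, z2⟩ := mem_autInducedBy.1 (h.uq l1 l2 a c1
    (hα.imp fun κ k => ⟨k.1, fun x hx => (k.2 x hx).trans (e x hx).symm⟩) e)
  exact ⟨β, b1, b0, z, z1.1, fun x hx => by rw [← c2 _ (mconj (l1 z1.1) hx), ← z2 x hx, ap_mul, ap_ap_inv]⟩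

theorem Rig.loc (h : Rig F T p U K) {A : ∀ P : Subgroup Ω, MulAut P → Prop}
    (h1 : ∀ (P : Subgroup Ω) (α : MulAut P) (β : MulAut ↥(P ⊔ (U ⊔ CI(S, U)))), U ≤ P → P ≤ NI(S, U) → PA F T p _ β → InK K (ap β) →
      (∀ x ∈ P, ap β x = ap α x) → A P α)
    (h2 : ∀ (P : Subgroup Ω) (α : MulAut P), U ≤ P → P ≤ NI(S, U) → A P α → (∀ x ∈ U, ap α x ∈ U) →
      PA F T p P α ∧ ∃ κ ∈ K, ∀ x ∈ U, ap κ x = ap α x) :
    ∃ M : FusionSystem NI(S, U), Loc p A U M := by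
  have := finite_of_le h.fn.1
  have hF := h.sat
  obtain ⟨L, hL⟩ := exists_NS F h.fn.1
  have sL := hF.ns h.fn hL
  have nL := ns_nm hL h.fn.1
  have lV := sup_cent_le h.fn.1
  have nK : L.autGroup (U ⊔ CI(S, U)) ≤ NN(K) := fun l hl =>
    have m := (mem_autGroup lV).1 hl
    h.k2 l (m.sub (ns_sub hL)) fun x hx => SC.mem (Nm.sc nL) m (mem_sup_left hx) hx
  have aL := autInducedBy_le L lV
  obtain ⟨M, hM⟩ := exists_KN L lV (AS(NI(S, U), _) ⊔ K) (NK_eq sup_cent_norm le_sup_left)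
  have sM := hM.sat_of_ge sL (fn_of_normal lV sup_cent_norm) le_sup_left
  refine ⟨M, sM, Nm.sub' nL sL.pg sM hM.sub (le_normalizerIn h.fn.1), fun P l1 l2 α a1 a2 => ?_,
    fun P l1 l2 α a1 a2 => ?_⟩
  · obtain ⟨g, g1, g2, g3⟩ := hM.ext ((mem_autGroup l2).1 a1)
    obtain ⟨β, b1, b2, b3, γ, c1, c2⟩ := exists_pprime_ext le_sup_left g1 (maps_of_sup g1.homOn
      (fun x hx => g2 x hx ▸ mem_sup_left (ap_mem α hx)) fun x hx => mem_sup_right (g3.mem hx)) g2 a2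
    obtain ⟨κ, k1, k2⟩ := mem_KR.1 ((zpowers_le.2 (mem_KR.2 (g3.congr fun x hx => (c1 x (mem_sup_right hx)).symm))) c2)
    obtain ⟨c, c3, κ₀, c4, rfl⟩ := (mem_sup_of_le_normalizer (aL.trans nK)).1 k1
    have k3 : c * κ₀ ∈ K := Pel.mem_of_mul' (pel_of_mem (isPGroup_autInducedBy sL.pg _) (minv c3))
      (nK (aL (minv c3))) (by rwa [inv_mul_cancel_left]) (b2.coprime_dvd_left (orderOf_dvd_of_ap le_sup_right k2))
    have m := ((mem_autGroup g1.le).1 b1).sub (ns_sub hL)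
    exact h1 P α β l1 l2 ⟨m, b2, h.k3 _ β le_sup_right g1.le m b2 ⟨_, k3, k2⟩⟩ ⟨_, k3, k2⟩ b3
  · obtain ⟨a3, a4⟩ := h2 P α l1 l2 a1 a2
    obtain ⟨β, b1, ⟨κ, k1, k2⟩, z, z1, z2⟩ := h.ext' l1 l2 a3 a4
    have m := ns_mor hL b1.mor le_rfl (l1.trans le_sup_left) (sup_le l2 lV) ((b1.mor.restrict
      (l1.trans le_sup_left)).im_eq_self fun y hy => k2 y (mem_sup_left hy) ▸ (h.k1 κ k1).2.2 y hy)
    exact (((mor_conj M l2 (l2 (l1 z1))).comp (hM.mor m le_sup_left le_sup_right l2 ⟨κ, mem_sup_right k1, k2⟩)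
      fun x hx => mconj (l1 z1) hx).congr fun x hx => (z2 x hx).symm).mem_autGroup

theorem Loc.transport (hT : F.StronglyClosed T) {A : ∀ P : Subgroup Ω, MulAut P → Prop}
    (hA : ∀ (P : Subgroup Ω) (α : MulAut P), A P α → PA F T p P α)
    (tr : ∀ (P Q : Subgroup Ω) (f : Ω → Ω) (α : MulAut P) (β : MulAut Q), Iso F P Q f → (∀ x ∈ P, ap β (f x) = f (ap α x)) → A P α → A Q β) {φ : Ω → Ω} (hU : U ≤ S)
    (f1 : Mor F NI(S, U) φ) (l2 : NI(T, im U φ) ≤ im NI(S, U) φ) {M : FusionSystem NI(S, im U φ)}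
    (hM : Loc p A (im U φ) M) : ∃ M : FusionSystem NI(S, U), Loc p A U M := by
  have lU := le_normalizerIn hU
  have iU := Mor.iso' f1 lU
  have l1 : im NI(S, U) φ ≤ NI(S, im U φ) := im_le.2 fun x hx => mem_NI_of_mor f1 lU hx hx.2
  obtain ⟨M', s1, s2⟩ := Sat.exists_ppi l1 hM.sat (hyp_le fun P hP α a1 a2 x hx => by
    obtain ⟨β, b1, b2⟩ := hM.ext hP a1 a2
    exact l2 ⟨b2 x hx ▸ (hA _ _ b1).md x (mem_sup_left hx), (hP (mmul (minv hx) (ap_mem α hx))).2⟩)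
  obtain ⟨ψ, j1, j2, j3⟩ := (Iso.hiso f1.iso).symm
  have := finite_of_le (l1.trans normalizerIn_le)
  obtain ⟨M'', k⟩ := exists_push M' j1
  obtain ⟨φ', k', -, k3⟩ := k.symm
  replace k' := k'.congr (k := φ) fun x hx => j1.eq (k'.mem x hx) (mem_im_of_mem φ hx) (by rw [k3 x hx, j2 x hx])
  refine ⟨M'', k.toFSurj.sat s1, (k'.nm_iff lU).1 (Nm.sub' hM.nm hM.sat.pg s1 s2.sub (im_mono lU)),
    fun P l3 l4 α a1 a2 => ?_, fun P l3 l4 α a1 a2 => ?_⟩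
  all_goals
    have i := Mor.iso' f1 l4
    obtain ⟨τ, hτ⟩ := exists_tr i
  · obtain ⟨φ'', i1, i2, -⟩ := i.symm
    refine tr _ _ _ _ _ i1 (fun y hy => ?_) (hM.adm _ (im_mono l3) ((im_mono l4).trans l1) (τ α)
      (autGroup_mono s2.sub (im_mono l4) ((k'.aut_iff hτ l4 rfl).2 a1)) (by rwa [MulEquiv.orderOf_eq]))
    obtain ⟨x, hx, rfl⟩ := i.surj hy
    rw [hτ α x hx, i2 x hx, i2 _ (ap_mem α hx)]
  · have a := tr _ _ _ _ _ i (hτ α) a1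
    refine (k'.aut_iff hτ l4 rfl).1 (s2.aut _ (im_mono l4) _ (hM.mem _ (im_mono l3) ((im_mono l4).trans l1) _ a
      fun y hy => ?_) (hA _ _ a).cop)
    obtain ⟨x, hx, rfl⟩ := iU.surj hy
    rw [hτ α x (l3 hx)]; exact iU.mem (a2 x hx)

end CfsgFS
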