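import Cfsg.Agent.FS.Res3
import Cfsg.Agent.H1.Super

/-! Automorphism groups stabilizing chains with factors of order `p`. -/

set_option autoImplicit false
set_option linter.unusedSectionVars false

namespace CfsgFS

open Subgroup Cfsg CfsgH9
open scoped commutatorElement

universe u

variable {X : Type*} [Group X] {p : ℕ} {A B : Subgroup X} {K : Subgroup (MulAut X)} {α β δ : MulAut X}

inductive PC (p : ℕ) (K : Subgroup (MulAut X)) : Subgroup X → Prop
  | bot : PC p K ⊥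
  | step {A B : Subgroup X} : PC p K A → A ≤ B → A.Normal → (∀ α ∈ K, ∀ x ∈ B, α x ∈ B) →
      Nat.card B ≤ Nat.card A * p → PC p K B

theorem PC.inv (h : PC p K B) : ∀ α ∈ K, ∀ x ∈ B, α x ∈ B := by
  cases h with
  | bot => exact fun α _ x hx => by rw [mem_bot.1 hx, map_one]; exact one_mem _
  | step _ _ _ h _ => exact h

def AutOK (p : ℕ) (K : Subgroup (MulAut X)) : Prop :=
  ∀ H ≤ K, (Nat.card H).Coprime p → IsMulCommutative H ∧ ∀ h ∈ H, h ^ (p - 1) = 1

theorem AutOK.mono {K' : Subgroup (MulAut X)} (h : AutOK p K) (l : K' ≤ K) : AutOK p K' := fun H k => h H (k.trans l)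

theorem AutOK.congr {Y : Type*} [Group Y] (h : AutOK p (⊤ : Subgroup (MulAut X))) (e : X ≃* Y) :
    AutOK p (⊤ : Subgroup (MulAut Y)) := fun H _ c => by
  let τ := (MulAut.congr e).symm
  obtain ⟨h1, h2⟩ := h (H.map τ.toMonoidHom) le_top (by rwa [card_map_of_injective τ.injective])
  exact ⟨CfsgH2.isMulCommutative_of_forall fun a ha b hb => τ.injective (by
    rw [map_mul, map_mul]; exact CfsgH2.mul_comm_of_isMulCommutative h1 ⟨a, ha, rfl⟩ ⟨b, hb, rfl⟩),
    fun a ha => τ.injective (by rw [map_pow, map_one]; exact h2 _ ⟨a, ha, rfl⟩)⟩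

variable [Finite X] [hp : Fact p.Prime]

theorem exists_qpow (hX : IsPGroup p X) [A.Normal] (l : A ≤ B) (c : Nat.card B ≤ Nat.card A * p)
    (h1 : ∀ x ∈ A, α x ∈ A) (h2 : ∀ x ∈ B, α x ∈ B) :
    (∀ y ∈ B, (y : X ⧸ A) ^ p = 1) ∧ ∃ m : ℤ, ∀ y ∈ B, (α y : X ⧸ A) = (y : X ⧸ A) ^ m := by
  let q := QuotientGroup.mk' A
  have c' : Nat.card (B.map q) ≤ p := by
    rw [← relIndex_ker, QuotientGroup.ker_mk']; exact relIndex_le_of_card l c
  have pg : IsPGroup p (B.map q) := (hX.to_quotient A).to_subgroup _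
  haveI := CfsgH2.isCyclic_of_card_le_prime pg c'
  refine ⟨fun y hy => ?_, ?_⟩
  · obtain ⟨k, hk⟩ := pg.exists_card_eq
    have : k ≤ 1 := (Nat.pow_le_pow_iff_right hp.out.one_lt).1 (by rwa [← hk, pow_one])
    obtain ⟨d, hd⟩ : p ^ k ∣ p ^ 1 := pow_dvd_pow p this
    have e := congrArg Subtype.val (pow_card_eq_one' (x := (⟨y, y, hy, rfl⟩ : B.map q)))
    rw [pow_one] at hd
    rw [hd, pow_mul, ← hk]
    exact (congrArg (· ^ d) e).trans (one_pow d)
  · obtain ⟨m, hm⟩ := MonoidHom.map_cyclic (((QuotientGroup.map A A α.toMonoidHom h1).comp (B.map q).subtype).codRestrict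
      (B.map q) (by rintro ⟨_, y, hy, rfl⟩; exact ⟨α y, h2 y hy, rfl⟩))
    exact ⟨m, fun y hy => congrArg Subtype.val (hm ⟨y, y, hy, rfl⟩)⟩

theorem fix_aut (hX : IsPGroup p X) (ho : (orderOf δ).Coprime p) {x : X} (h : δ (x⁻¹ * δ x) = x⁻¹ * δ x) : δ x = x := by
  have key : ∀ n : ℕ, (δ ^ n) x = x * (x⁻¹ * δ x) ^ n := fun n => by
    induction n with
    | zero => simp
    | succ n ih => rw [pow_succ', MulAut.mul_apply, ih, map_mul, map_pow, h, pow_succ', ← mul_assoc, mul_inv_cancel_left]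
  have := key (orderOf δ)
  rw [pow_orderOf_eq_one, MulAut.one_apply, left_eq_mul] at this
  obtain ⟨k, hk⟩ := hX (x⁻¹ * δ x)
  exact (inv_mul_eq_one.1 (orderOf_eq_one_iff.1 (Nat.eq_one_of_dvd_coprimes (ho.pow_right k)
    (orderOf_dvd_of_pow_eq_one this) (orderOf_dvd_of_pow_eq_one hk)))).symm

theorem PC.fix (hX : IsPGroup p X) (h : PC p K B) (hα : α ∈ K) (hβ : β ∈ K) (hδ : δ = α * β * α⁻¹ * β⁻¹ ∨ δ = α ^ (p - 1))
    (ho : (orderOf δ).Coprime p) : ∀ x ∈ B, δ x = x := by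
  induction h with
  | bot => exact fun x hx => by rw [mem_bot.1 hx, map_one]
  | @step A B h l n i c ih =>
    refine fun x hx => fix_aut hX ho (ih _ (QuotientGroup.eq.1 ?_))
    obtain ⟨e, m, hm⟩ := exists_qpow hX l c (h.inv α hα) (i α hα)
    rcases hδ with rfl | rfl
    · obtain ⟨-, k, hk⟩ := exists_qpow hX l c (h.inv β hβ) (i β hβ)
      have y1 := i _ (minv hα) _ (i _ (minv hβ) x hx)
      have : ((β (α (α⁻¹ (β⁻¹ x))) : X) : X ⧸ A) = (α (β (α⁻¹ (β⁻¹ x))) : X) := by
        rw [hk _ (i α hα _ y1), hm _ y1, hm _ (i β hβ _ y1), hk _ y1, ← zpow_mul, ← zpow_mul, mul_comm]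
      simpa using this
    · have key : ∀ n : ℕ, (((α ^ n) x : X) : X ⧸ A) = (x : X ⧸ A) ^ m ^ n := fun n => by
        induction n with
        | zero => simp
        | succ n ih => rw [pow_succ', MulAut.mul_apply, hm _ (i _ (pow_mem hα n) x hx), ih, ← zpow_mul, pow_succ]
      have od : (orderOf (x : X ⧸ A) : ℤ) ∣ p := Int.natCast_dvd_natCast.2 (orderOf_dvd_of_pow_eq_one (e x hx))
      by_cases d : (p : ℤ) ∣ m
      · have : α x ∈ A := (QuotientGroup.eq_one_iff _).1 ((hm x hx).trans (orderOf_dvd_iff_zpow_eq_one.1 (od.trans d)))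
        rw [key, (QuotientGroup.eq_one_iff x).2 (by simpa using h.inv _ (minv hα) _ this), one_zpow]
      · rw [key, ← zpow_one (x : X ⧸ A), ← zpow_mul, zpow_eq_zpow_iff_modEq, one_mul]
        exact (Int.ModEq.pow_card_sub_one_eq_one hp.out (((Nat.prime_iff_prime_int.1 hp.out).coprime_iff_not_dvd.2
          d).symm)).symm.of_dvd od

theorem PC.autOK (hX : IsPGroup p X) (h : PC p K B)
    (hB : ∀ δ : MulAut X, (orderOf δ).Coprime p → (∀ x ∈ B, δ x = x) → δ = 1) : AutOK p K := fun H l c => by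
  have o : ∀ δ ∈ H, (orderOf δ).Coprime p := fun δ hδ => c.coprime_dvd_left (orderOf_dvd_natCard _ hδ)
  refine ⟨CfsgH2.isMulCommutative_of_forall fun a ha b hb => ?_, fun a ha =>
    hB _ (o _ (pow_mem ha _)) (h.fix hX (l ha) (l ha) (.inr rfl) (o _ (pow_mem ha _)))⟩
  have m := mmul (mconj ha hb) (minv hb)
  exact (commutatorElement_eq_one_iff_commute.1 (hB _ (o _ m) (h.fix hX (l ha) (l hb) (.inl rfl) (o _ m)))).eq

theorem aut_omega (hX : IsPGroup p X) (h : p ≠ 2 ∨ IsMulCommutative X) (ho : (orderOf δ).Coprime p)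
    (k : ∀ x, x ^ p = 1 → δ x = x) : δ = 1 := by
  haveI : Finite (X ⋊[MonoidHom.id (MulAut X)] MulAut X) := Finite.of_equiv _ SemidirectProduct.equivProd.symm
  let ι : X →* X ⋊[MonoidHom.id (MulAut X)] MulAut X := SemidirectProduct.inl
  have hi : Function.Injective ι := SemidirectProduct.inl_injective
  have e : ∀ x, SemidirectProduct.inr δ * ι x * (SemidirectProduct.inr δ)⁻¹ = ι (δ x) := fun x => by
    rw [← map_inv]; exact (SemidirectProduct.inl_aut (φ := MonoidHom.id _) δ x).symm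
  have := ctl_omega (p := p) (R := ι.range) (hX.of_surjective _ ι.rangeRestrict_surjective)
    (by rw [SemidirectProduct.range_inl_eq_ker_rightHom]; infer_instance) (h.imp_right fun c => by
      rintro _ ⟨x, rfl⟩ _ ⟨y, rfl⟩; rw [← map_mul, ← map_mul, c.is_comm.comm]) (SemidirectProduct.inr δ)
    (by rwa [orderOf_injective _ SemidirectProduct.inr_injective]) (tq_bot.2 (le_centralizer_iff.1
      (CfsgH2.omegaOne_le_iff.2 ?_) (mem_zpowers _)))
  · exact MulEquiv.ext fun x => hi (by rw [← e, ← this _ ⟨x, rfl⟩, mul_inv_cancel_right]; rfl)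
  · rintro _ ⟨x, rfl⟩ hx
    have := e x
    rw [k x (hi (by rw [map_pow, hx, map_one])), mul_inv_eq_iff_eq_mul] at this
    exact cent_zpowers_iff.2 this.symm

theorem PC.autOK' (hX : IsPGroup p X) (h : PC p K B) (c : p ≠ 2 ∨ IsMulCommutative X) (hB : ∀ x, x ^ p = 1 → x ∈ B) :
    AutOK p K := h.autOK hX fun _ o k => aut_omega hX c o fun x hx => k x (hB x hx)

theorem zmod_root {a k : ℕ} {u : Multiplicative (ZMod (p ^ a))} (h : (u ^ p ^ k) ^ p = 1) (h1 : a = k + 1 → u ^ p ^ k = 1) :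
    ∃ y, u ^ p ^ k = y ^ p ^ (k + 1) := by
  rcases lt_trichotomy a (k + 1) with l | l | l
  · refine ⟨1, by
      obtain ⟨d, hd⟩ : p ^ a ∣ p ^ k := pow_dvd_pow p (by omega)
      rw [hd, pow_mul, one_pow, show u ^ p ^ a = 1 by simpa using pow_card_eq_one' (x := u), one_pow]⟩
  · exact ⟨1, by rw [h1 l, one_pow]⟩
  · generalize u ^ p ^ k = w at h
    obtain ⟨n, hn⟩ := ZMod.natCast_zmod_surjective w.toAdd
    have : ((p * n : ℕ) : ZMod (p ^ a)) = 0 := by
      have := congrArg Multiplicative.toAdd h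
      rwa [toAdd_pow, ← hn, nsmul_eq_mul, ← Nat.cast_mul] at this
    obtain ⟨d, hd⟩ := Nat.dvd_of_mul_dvd_mul_left hp.out.pos ((pow_succ' p (k + 1) ▸ pow_dvd_pow p l).trans
      ((ZMod.natCast_eq_zero_iff _ _).1 this))
    exact ⟨.ofAdd d, Multiplicative.toAdd.injective (by rw [← hn, hd, toAdd_pow, toAdd_ofAdd, nsmul_eq_mul, Nat.cast_mul])⟩

theorem autOK_pi {ι : Type*} [Finite ι] {a : ι → ℕ} (ha : Function.Injective a) :
    AutOK p (⊤ : Subgroup (MulAut (∀ i, Multiplicative (ZMod (p ^ a i))))) := by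
  classical
  let V : ℕ → Subgroup (∀ i, Multiplicative (ZMod (p ^ a i))) := fun k => (powMonoidHom (p ^ k)).range ⊓ (powMonoidHom p).ker
  haveI := Fintype.ofFinite ι
  have pg : IsPGroup p (∀ i, Multiplicative (ZMod (p ^ a i))) := .of_card (n := ∑ i, a i) (by
    simp [Nat.card_pi, Finset.prod_pow_eq_pow_sum])
  have key : ∀ k, ∀ v ∈ V k, (∀ i, a i = k + 1 → v i = 1) → v ∈ V (k + 1) := by
    rintro k _ ⟨⟨u, rfl⟩, h⟩ h1
    choose y hy using fun i => zmod_root (u := u i) (congrFun h i) (h1 i)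
    exact ⟨⟨y, funext fun i => (hy i).symm⟩, h⟩
  have st : ∀ k, PC p ⊤ (V (k + 1)) → PC p ⊤ (V k) := fun k h => by
    have l : V (k + 1) ≤ V k := by
      rintro _ ⟨⟨u, rfl⟩, h⟩
      exact ⟨⟨u ^ p, by simp only [powMonoidHom_apply]; rw [← pow_mul, pow_succ']⟩, h⟩
    refine h.step l inferInstance (by
      rintro α - _ ⟨⟨u, rfl⟩, h⟩
      exact ⟨⟨α u, (map_pow α u _).symm⟩, (map_pow α _ p).symm.trans ((congrArg α h).trans (map_one α))⟩) ?_
    by_cases e : ∃ i, a i = k + 1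
    · obtain ⟨i, hi⟩ := e
      let f := (Pi.evalMonoidHom (fun i => Multiplicative (ZMod (p ^ a i))) i).comp (V k).subtype
      rw [← card_mul_index f.ker, index_ker, ← CfsgH1.card_subgroupOf_of_le l]
      refine Nat.mul_le_mul (card_le_of_le fun v hv => key k v v.2 fun j hj => ?_)
        (CfsgH2.card_le_prime_of_cyclic_of_exponent inferInstance ?_)
      · obtain rfl := ha (hj.trans hi.symm)
        exact hv
      · rintro _ ⟨v, rfl⟩
        exact congrFun v.2.2 i
    · exact (card_le_of_le fun v hv => key k v hv fun i hi => absurd ⟨i, hi⟩ e).trans (Nat.le_mul_of_pos_right _ hp.out.pos)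
  obtain ⟨N, hN⟩ := pg.exists_card_eq
  have all : ∀ n k, k + n = N → PC p ⊤ (V k) := fun n => by
    induction n with
    | zero =>
      rintro k rfl
      have : V k = ⊥ := le_bot_iff.1 (by rintro _ ⟨⟨u, rfl⟩, -⟩; exact (hN ▸ pow_card_eq_one' : u ^ p ^ (k + 0) = 1))
      exact this ▸ PC.bot
    | succ n ih => exact fun k hk => st k (ih _ (by omega))
  exact (all N 0 (zero_add N)).autOK' pg (.inr inferInstance) fun x hx => ⟨⟨x, by simp⟩, hx⟩

theorem not_autOK {Z H : Type*} [CommGroup Z] [Group H] [Finite Z] [Finite H] [Nontrivial Z] (hZ : IsPGroup p Z) :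
    ¬ AutOK p (⊤ : Subgroup (MulAut ((Z × Z) × H))) := fun h => by
  obtain ⟨g, hg⟩ := exists_ne (1 : Z)
  by_cases p2 : p = 2
  · subst p2
    let ρ : MulAut ((Z × Z) × H) :=
      { toFun := fun x => ((x.1.2⁻¹, x.1.1 * x.1.2⁻¹), x.2)
        invFun := fun x => ((x.1.1⁻¹ * x.1.2, x.1.1⁻¹), x.2)
        left_inv := fun x => by simp
        right_inv := fun x => by simp [mul_comm]
        map_mul' := fun x y => by ext <;> simp [mul_comm, mul_left_comm, mul_assoc] }
    have : ρ ^ 3 = 1 := MulEquiv.ext fun x => by ext <;> simp [pow_succ, ρ, mul_comm]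
    have := (h (zpowers ρ) le_top (by
      rw [Nat.card_zpowers]; exact Nat.Coprime.coprime_dvd_left (orderOf_dvd_of_pow_eq_one this) (by decide))).2 ρ (mem_zpowers ρ)
    have := congrArg (fun α : MulAut ((Z × Z) × H) => (α ((g, 1), 1)).1.2) this
    exact hg (by simpa [ρ] using this)
  · let σ : MulAut ((Z × Z) × H) := MulEquiv.prodCongr MulEquiv.prodComm (MulEquiv.refl H)
    let τ : MulAut ((Z × Z) × H) := MulEquiv.prodCongr (MulEquiv.prodCongr (MulEquiv.inv Z) (MulEquiv.refl Z)) (MulEquiv.refl H)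
    have nc : σ * τ ≠ τ * σ := fun e => by
      have e1 : g⁻¹ = g := congrArg (fun α : MulAut ((Z × Z) × H) => (α ((g, 1), 1)).1.2) e
      obtain ⟨k, hk⟩ := hZ g
      exact hg (orderOf_eq_one_iff.1 (Nat.eq_one_of_dvd_coprimes (((Nat.coprime_primes Nat.prime_two hp.out).2 (Ne.symm p2)).pow_right k)
        (orderOf_dvd_of_pow_eq_one (by rw [sq]; nth_rewrite 1 [← e1]; exact inv_mul_cancel g)) (orderOf_dvd_of_pow_eq_one hk)))
    have i := CfsgH2.idx2_invol (x := σ) (y := τ) (CfsgH2.orderOf_two_of rfl fun e => nc (by rw [e]; simp))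
      (CfsgH2.orderOf_two_of (MulEquiv.ext fun x => Prod.ext (Prod.ext (inv_inv _) rfl) rfl) fun e => nc (by rw [e]; simp))
      fun e => nc (by rw [e])
    have o : (σ * τ) ^ 4 = 1 := MulEquiv.ext fun x => Prod.ext (Prod.ext (inv_inv _) (inv_inv _)) rfl
    refine nc (CfsgH2.mul_comm_of_isMulCommutative (h _ le_top ?_).1 i.b_mem (subset_closure (by simp)))
    rw [i.card]
    exact Nat.Coprime.coprime_dvd_left (Nat.mul_dvd_mul_left 2 (orderOf_dvd_of_pow_eq_one o))
      (((Nat.coprime_primes Nat.prime_two hp.out).2 (Ne.symm p2)).pow_left 3)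

theorem autOK_iff (hX : IsPGroup p X) (hc : IsMulCommutative X) : AutOK p (⊤ : Subgroup (MulAut X)) ↔
    ¬ ∃ (n : ℕ) (H : Type) (_ : CommGroup H), 0 < n ∧
      Nonempty (X ≃* (Multiplicative (ZMod (p ^ n)) × Multiplicative (ZMod (p ^ n))) × H) := by
  classical
  refine ⟨fun h ⟨n, H, _, hn, ⟨e⟩⟩ => ?_, fun h => ?_⟩
  · haveI : Finite H := Finite.of_surjective (fun x => (e x).2) fun y => ⟨e.symm (1, y), by simp⟩
    haveI : Fact (1 < p ^ n) := ⟨Nat.one_lt_pow hn.ne' hp.out.one_lt⟩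
    exact not_autOK (.of_card (n := n) (by simp)) (h.congr e)
  letI : CommGroup X := { (inferInstance : Group X) with mul_comm := hc.is_comm.comm }
  obtain ⟨ι, _, n, h1, ⟨e⟩⟩ := CommGroup.equiv_prod_multiplicative_zmod_of_finite X
  have : ∀ i, ∃ a, n i = p ^ a := fun i => by
    haveI : NeZero (n i) := ⟨by have := h1 i; omega⟩
    simpa using ((hX.of_equiv e).of_surjective (Pi.evalMonoidHom (fun i => Multiplicative (ZMod (n i))) i)
      (Function.surjective_eval i)).exists_card_eq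
  choose a ha using this
  obtain rfl : n = fun i => p ^ a i := funext ha
  refine (autOK_pi fun i j hij => by_contra fun ne => h ⟨a i, ∀ k : {k // k ≠ i ∧ k ≠ j}, Multiplicative (ZMod (p ^ a k)),
    inferInstance, Nat.pos_of_ne_zero fun z => by simpa [z] using h1 i, ⟨e.trans ?_⟩⟩).congr e.symm
  let c : Multiplicative (ZMod (p ^ a j)) ≃* Multiplicative (ZMod (p ^ a i)) :=
    AddEquiv.toMultiplicative (ZMod.ringEquivCongr (by rw [hij])).toAddEquiv
  refine MulEquiv.ofBijective (MonoidHom.mk' (fun v => ((v i, c (v j)), fun k => v k)) fun v w => by ext <;> simp) ⟨fun v w e => ?_, ?_⟩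
  · funext k
    by_cases h1 : k = i
    · subst h1; exact congrArg (·.1.1) e
    by_cases h2 : k = j
    · subst h2; exact c.injective (congrArg (·.1.2) e)
    exact congrArg (·.2 ⟨k, h1, h2⟩) e
  · rintro ⟨⟨x, y⟩, z⟩
    refine ⟨fun k => if h1 : k = i then h1 ▸ x else if h2 : k = j then h2 ▸ c.symm y else z ⟨k, h1, h2⟩, ?_⟩
    refine Prod.ext (Prod.ext ?_ ?_) (funext fun k => ?_)
    · simp
    · simp [Ne.symm ne]
    · simp [k.2.1, k.2.2]

theorem autOK_meta (hX : IsPGroup p X) (hp2 : p ≠ 2) (hm : IsMetacyclic X) (hc : ¬ IsMulCommutative X) :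
    AutOK p (⊤ : Subgroup (MulAut X)) := by
  obtain ⟨N, _, h1, h2⟩ := id hm
  have l : commutator X ≤ N := by
    haveI := h2.isMulCommutative
    exact Normal.quotient_commutative_iff_commutator_le.1 inferInstance
  have cy := CfsgH2.isCyclic_of_le' h1 l
  have n0 : omegaOne p (commutator X) ≠ ⊥ := by
    obtain ⟨x, a, b, c, -⟩ := CfsgH2.exists_central_of_ne_bot (hX.to_subgroup ⊤) (le_top : commutator X ≤ ⊤)
      (le_norm inferInstance) fun e => hc (CfsgH2.commutator_eq_bot_iff'.1 e)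
    exact fun e => b (mem_bot.1 (e ▸ CfsgH2.mem_omegaOne a c))
  have i : ∀ U : Subgroup X, U.Characteristic → ∀ α ∈ (⊤ : Subgroup (MulAut X)), ∀ x ∈ omegaOne p U, α x ∈ omegaOne p U :=
    fun U hU α _ x hx => by
    have := CfsgH2.map_omegaOne_le (p := p) U α.toMonoidHom ⟨x, hx, rfl⟩
    rwa [characteristic_iff_map_eq.1 hU α] at this
  refine ((PC.bot.step bot_le inferInstance (i (commutator X) inferInstance) ?_).step (CfsgH2.omegaOne_mono le_top)
    (omega_normal inferInstance) (i ⊤ inferInstance) ?_).autOK' hX (.inl hp2) fun x hx => CfsgH2.mem_omegaOne trivial hx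
  · simpa using CfsgH2.card_omegaOne_le_of_isCyclic cy
  · have := CfsgH2.mul_card_le_of_lt ((hX.to_subgroup _)) (bot_lt_iff_ne_bot.2 n0)
    rw [card_bot, one_mul] at this
    exact (CfsgH2.card_omegaOne_le_of_metacyclic hp2 (hX.to_subgroup ⊤) (CfsgH2.isMetacyclic_top_iff.2 hm)).trans
      (sq p ▸ Nat.mul_le_mul_right _ this)

theorem autOK_cyclic (hX : IsPGroup p X) (hc : IsCyclic X) : AutOK p (⊤ : Subgroup (MulAut X)) := by
  refine (PC.bot.step (B := omegaOne p ⊤) bot_le inferInstance (fun α _ x hx => CfsgH2.omegaOne_mono le_top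
    (CfsgH2.map_omegaOne_le (p := p) ⊤ α.toMonoidHom ⟨x, hx, rfl⟩)) ?_).autOK' hX (.inr hc.isMulCommutative)
    fun x hx => CfsgH2.mem_omegaOne trivial hx
  simpa using CfsgH2.card_omegaOne_le_of_isCyclic (isCyclic_of_surjective topEquiv.symm topEquiv.symm.surjective)

end CfsgFS
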