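import Cfsg.Agent.FS.SSol1

/-! Groups with dihedral, semidihedral and quaternion Sylow 2-subgroups of every order and nontrivial fusion. -/

set_option autoImplicit false
set_option linter.unusedSectionVars false

namespace CfsgFS

open Subgroup Cfsg CfsgH9
open CfsgH2 (Idx2)

universe u

theorem idx2_equiv {G G' : Type*} [Group G] [Group G'] [Finite G] [Finite G'] {S : Subgroup G} {S' : Subgroup G'}
    {a b : G} {a' b' : G'} {k m : ℤ} (h : Idx2 S a b k m) (h' : Idx2 S' a' b' k m) (ho : orderOf a = orderOf a') :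
    Nonempty (S ≃* S') := by
  have i : Idx2 (closure {((a, a') : G × G'), (b, b')}) (a, a') (b, b') k m := CfsgH2.idx2_closure
    (Prod.ext h.conj h'.conj) (Prod.ext h.sq h'.sq) fun ⟨n, e⟩ => h.notMem ⟨n, congrArg Prod.fst e⟩
  have c := i.card
  rw [Prod.orderOf_mk, ← ho, Nat.lcm_self] at c
  have l : closure {((a, a') : G × G'), (b, b')} ≤ S.prod S' := i.le_iff.2 ⟨⟨h.a_mem, h'.a_mem⟩, h.b_mem, h'.b_mem⟩
  refine ⟨(MulEquiv.ofBijective (((MonoidHom.fst G G').comp (Subgroup.subtype _)).codRestrict S fun x => (l x.2).1)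
    ((Nat.bijective_iff_surjective_and_card _).2 ⟨fun y => ?_, by rw [c, h.card]⟩)).symm.trans
    (MulEquiv.ofBijective (((MonoidHom.snd G G').comp (Subgroup.subtype _)).codRestrict S' fun x => (l x.2).2)
    ((Nat.bijective_iff_surjective_and_card _).2 ⟨fun y => ?_, by rw [c, h'.card, ho]⟩))⟩
  · obtain ⟨n, e | e⟩ := (h.mem y).1 y.2
    · exact ⟨⟨_, i.pow_mem n⟩, Subtype.ext e.symm⟩
    · exact ⟨⟨_, i.pow_mul_mem n⟩, Subtype.ext e.symm⟩
  · obtain ⟨n, e | e⟩ := (h'.mem y).1 y.2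
    · exact ⟨⟨_, i.pow_mem n⟩, Subtype.ext e.symm⟩
    · exact ⟨⟨_, i.pow_mul_mem n⟩, Subtype.ext e.symm⟩

theorem sq_eq_one_iff_of_ne_zero' {K : Type*} [Field K] {a : K} (h : a ^ 2 = 1) : a = 1 ∨ a = -1 :=
  mul_self_eq_one_iff.1 (by rw [← sq, h])

theorem conj_of_sq {q : ℕ} [Fact q.Prime] (hq : q % 4 = 3) {V : Type*} [AddCommGroup V] [Module (ZMod q) V]
    (hV : Module.finrank (ZMod q) V = 2) {u v : Module.End (ZMod q) V} (hu : u * u = -1) (hv : v * v = -1) :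
    ∃ g : (Module.End (ZMod q) V)ˣ, g * u = v * g := by
  haveI : Nontrivial V := Module.nontrivial_of_finrank_pos (R := ZMod q) (by omega)
  obtain ⟨w, hw⟩ := exists_ne (0 : V)
  have li : ∀ u : Module.End (ZMod q) V, u * u = -1 → LinearIndependent (ZMod q) ![w, u w] := fun u hu => by
    refine LinearIndependent.pair_iff.2 fun s t e => ?_
    have e1 := congrArg u e
    rw [map_add, map_smul, map_smul, ← Module.End.mul_apply, hu, map_zero] at e1
    have e2 : (s ^ 2 + t ^ 2) • w = 0 := by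
      have : (s ^ 2 + t ^ 2) • w = s • (s • w + t • u w) - t • (s • u w + t • (-1 : Module.End (ZMod q) V) w) := by
        simp only [LinearMap.neg_apply, Module.End.one_apply]; module
      rw [this, e, e1]; simp
    have e3 : s ^ 2 = -t ^ 2 := eq_neg_of_add_eq_zero_left ((smul_eq_zero.1 e2).resolve_right hw)
    have : t = 0 := by_contra fun k => ZMod.mod_four_ne_three_of_sq_eq_neg_sq' k e3 hq
    subst this
    exact ⟨by simpa using e3, rfl⟩
  let b1 := basisOfLinearIndependentOfCardEqFinrank (li u hu) (by simp [hV])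
  let b2 := basisOfLinearIndependentOfCardEqFinrank (li v hv) (by simp [hV])
  let e := b1.equiv b2 (Equiv.refl _)
  have e0 : e w = w := by simpa [b1, b2] using b1.equiv_apply 0 b2 (Equiv.refl _)
  have e1 : e (u w) = v w := by simpa [b1, b2] using b1.equiv_apply 1 b2 (Equiv.refl _)
  refine ⟨⟨e, e.symm, by ext; simp, by ext; simp⟩, b1.ext fun i => ?_⟩
  fin_cases i
  · simp [b1, e0, e1]
  · simp only [b1, Fin.mk_one, coe_basisOfLinearIndependentOfCardEqFinrank, Matrix.cons_val_one, Matrix.cons_val_zero,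
      Module.End.mul_apply, LinearEquiv.coe_coe, e1]
    rw [← Module.End.mul_apply, ← Module.End.mul_apply, hu, hv]; simp [e0]

structure SDEx (r : ℕ) {G : Type*} [Group G] (x y g : G) (H : Subgroup G) : Prop where
  ox : orderOf x = 2 ^ (r + 3)
  idx : Idx2 (closure {x, y}) x y (2 ^ (r + 2) - 1) 0
  syl : Syl 2 (closure {x, y}) ⊤
  cen : x ^ 2 ^ (r + 2) ∈ center G
  conj : g * x ^ 2 ^ (r + 1) * g⁻¹ = x * y
  nH : H.Normal
  gH : g ∈ H
  xH : x ∉ H
  x2H : x ^ 2 ∈ H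

theorem exists_sdex (r : ℕ) : ∃ (G : Type) (_ : Group G) (_ : Finite G) (x y g : G) (H : Subgroup G), SDEx r x y g H := by
  classical
  obtain ⟨m, hm⟩ : ∃ m, 2 ^ (r + 1) = 2 * m := ⟨2 ^ r, pow_succ' 2 r⟩
  have m0 : 0 < m := by have := Nat.two_pow_pos (r + 1); omega
  have hm2 : 2 ^ (r + 2) = 4 * m := by rw [pow_succ, hm]; ring
  have hm3 : 2 ^ (r + 3) = 8 * m := by rw [pow_succ, hm2]; ring
  obtain ⟨q, -, hq, hq1⟩ := Nat.forall_exists_prime_gt_and_modEq 0 (q := 2 ^ (r + 3)) (a := 4 * m - 1) (by positivity)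
    (Nat.Coprime.pow_right _ (Nat.coprime_two_right.2 ⟨2 * m - 1, by omega⟩))
  haveI := Fact.mk hq
  obtain ⟨t, ht⟩ : ∃ t, q + 1 = 4 * m * (2 * t + 1) := ⟨q / (8 * m), by
    have := Nat.mod_add_div q (8 * m)
    rw [hm3, Nat.ModEq, Nat.mod_eq_of_lt (by omega : 4 * m - 1 < 8 * m)] at hq1
    rw [hq1] at this
    have e : 4 * m * (2 * (q / (8 * m)) + 1) = 8 * m * (q / (8 * m)) + 4 * m := by ring
    omega⟩
  obtain ⟨s, hs⟩ : ∃ s, q = 4 * s + 3 := ⟨m * (2 * t + 1) - 1, by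
    have : 0 < m * (2 * t + 1) := by positivity
    rw [mul_assoc] at ht; omega⟩
  let K := GaloisField q 2
  haveI := Fintype.ofFinite K
  have cK : Nat.card K = q ^ 2 := GaloisField.card q 2 two_ne_zero
  have fK : Module.finrank (ZMod q) K = 2 := GaloisField.finrank q two_ne_zero
  have e1 : q ^ 2 - 1 = (q + 1) * (q - 1) := by simpa using Nat.sq_sub_sq q 1
  have e2 : q - 1 = 2 * (2 * s + 1) := by omega
  obtain ⟨γ, hγ⟩ := IsCyclic.exists_ofOrder_eq_natCard (α := Kˣ)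
  rw [Nat.card_units, cK, e1, e2, ht, show 4 * m * (2 * t + 1) * (2 * (2 * s + 1)) = 8 * m * ((2 * t + 1) * (2 * s + 1)) by ring]
    at hγ
  obtain ⟨ξ, hξ⟩ : ∃ ξ : Kˣ, orderOf ξ = 8 * m := ⟨γ ^ ((2 * t + 1) * (2 * s + 1)), by
    rw [orderOf_pow_of_dvd (by positivity) (hγ ▸ dvd_mul_left _ _), hγ, Nat.mul_div_cancel _ (by positivity)]⟩
  let L : Kˣ →* (Module.End (ZMod q) K)ˣ := Units.map (Algebra.lmul (ZMod q) K).toMonoidHom
  have hL : Function.Injective L := Units.map_injective (Algebra.lmul_injective)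
  let φ : Module.End (ZMod q) K := (FiniteField.frobeniusAlgHom (ZMod q) K).toLinearMap
  have hφ : ∀ z, φ z = z ^ q := fun z => by simp [φ]
  have φ2 : φ * φ = 1 := LinearMap.ext fun z => by
    rw [Module.End.mul_apply, hφ, hφ, ← pow_mul, ← sq, ← cK, Nat.card_eq_fintype_card, FiniteField.pow_card]; rfl
  let y : (Module.End (ZMod q) K)ˣ := ⟨φ, φ, φ2, φ2⟩
  have cy : ∀ u, y * L u * y⁻¹ = L (u ^ q) := fun u => mul_inv_eq_iff_eq_mul.2 (Units.ext (LinearMap.ext fun z => by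
    change φ (u * z) = ((u ^ q : Kˣ) : K) * φ z
    rw [hφ, hφ, mul_pow, Units.val_pow_eq_pow_val]))
  have o8 : ξ ^ (8 * m) = 1 := hξ ▸ pow_orderOf_eq_one ξ
  have n4 : ξ ^ (4 * m) = -1 := by
    have : (ξ ^ (4 * m)) ^ 2 = 1 := by rw [← pow_mul, ← o8]; congr 1; ring
    refine Units.ext ((sq_eq_one_iff_of_ne_zero' (congrArg Units.val this)).resolve_left fun k => ?_)
    have := Nat.le_of_dvd (by omega) (hξ ▸ orderOf_dvd_of_pow_eq_one (Units.ext k : ξ ^ (4 * m) = 1))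
    omega
  have q1 : ξ ^ (q + 1) = ξ ^ (4 * m) := by
    rw [ht, show 4 * m * (2 * t + 1) = 8 * m * t + 4 * m by ring, pow_add, pow_mul, o8, one_pow, one_mul]
  have ox : orderOf (L ξ) = 8 * m := by rw [orderOf_injective L hL, hξ]
  have cx : y * L ξ * y⁻¹ = L ξ ^ (2 ^ (r + 2) - 1 : ℤ) := by
    rw [cy, ← map_zpow, show (2 : ℤ) ^ (r + 2) = (4 * m : ℕ) by exact_mod_cast hm2, zpow_sub, zpow_natCast, ← q1, pow_succ]
    simp
  have idx : Idx2 (closure {L ξ, y}) (L ξ) y (2 ^ (r + 2) - 1) 0 := CfsgH2.idx2_closure cx (Units.ext φ2) fun ⟨i, e⟩ => by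
    have : L ξ ^ (1 : ℤ) = L ξ ^ (2 ^ (r + 2) - 1 : ℤ) := by rw [← cx, ← e]; simp only []; group
    rw [CfsgH2.zpow_eq_zpow_iff_dvd, ox, show (2 : ℤ) ^ (r + 2) = (4 * m : ℕ) by exact_mod_cast hm2] at this
    have := Int.le_of_dvd (by push_cast; omega) ((dvd_neg.2 this))
    push_cast at this; omega
  have Lm : (L (-1) : Module.End (ZMod q) K) = -1 := LinearMap.ext fun z => by change ((-1 : Kˣ) : K) * z = -z; simp
  obtain ⟨g, hg⟩ := conj_of_sq (by omega) fK (u := L (ξ ^ (2 * m))) (v := (L ξ * y : _ˣ))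
    (by rw [← Units.val_mul, ← map_mul, ← pow_add, ← Lm, ← n4]; congr 3; ring)
    (by rw [← Units.val_mul, show L ξ * y * (L ξ * y) = L ξ * (y * L ξ * y⁻¹) * (y * y) by group, cy,
      show y * y = 1 from Units.ext φ2, mul_one, ← map_mul, ← pow_succ', q1, n4, Lm])
  have hg' : g * L ξ ^ (2 * m) * g⁻¹ = L ξ * y := mul_inv_eq_iff_eq_mul.2 (Units.ext (by rw [← map_pow]; exact hg))
  let χ : (Module.End (ZMod q) K)ˣ →* (ZMod q)ˣ := (powMonoidHom (2 * s + 1)).comp (Units.map LinearMap.det)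
  have χL : ∀ u, χ (L u) = 1 ↔ u ^ ((q + 1) * (2 * s + 1)) = 1 := fun u => by
    have : algebraMap (ZMod q) K (χ (L u)) = (u ^ ((q + 1) * (2 * s + 1)) : Kˣ) := by
      change algebraMap (ZMod q) K (Algebra.norm (ZMod q) (u : K) ^ (2 * s + 1)) = _
      rw [map_pow, FiniteField.algebraMap_norm_eq_pow, cK, Nat.card_zmod, e1, Nat.mul_div_cancel _ (by omega), ← pow_mul,
        Units.val_pow_eq_pow_val]
    rw [Units.ext_iff, Units.ext_iff, ← this, Units.val_one, Units.val_one, ← map_one (algebraMap (ZMod q) K),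
      (algebraMap (ZMod q) K).injective.eq_iff]
  have χ2 : ∀ g, χ g = 1 ∨ χ g = -1 := fun g => by
    have : χ g ^ 2 = 1 := by
      change (Units.map LinearMap.det g ^ (2 * s + 1)) ^ 2 = 1
      rw [← pow_mul, mul_comm, ← e2, ZMod.units_pow_card_sub_one_eq_one]
    rcases sq_eq_one_iff_of_ne_zero' (by rw [← Units.val_pow_eq_pow_val, this, Units.val_one] : (χ g : ZMod q) ^ 2 = 1) with k | k
    · exact .inl (Units.ext k)
    · exact .inr (Units.ext k)
  have xH : χ (L ξ) ≠ 1 := fun k => by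
    rw [χL, pow_mul, q1, n4, Odd.neg_one_pow ⟨s, rfl⟩, ← n4] at k
    have := Nat.le_of_dvd (by omega) (hξ ▸ orderOf_dvd_of_pow_eq_one k)
    omega
  have cG : Nat.card (Module.End (ZMod q) K)ˣ = 16 * m * (q * (2 * s + 1) * ((2 * t + 1) * (2 * s + 1))) := by
    rw [Nat.card_congr (Units.mapEquiv (LinearMap.toMatrixAlgEquiv (Module.finBasisOfFinrankEq (ZMod q) K fK)).toMulEquiv).toEquiv]
    change Nat.card (GL (Fin 2) (ZMod q)) = _
    rw [Matrix.card_GL_field, Fin.prod_univ_two, ZMod.card, Fin.val_zero, Fin.val_one, pow_zero, pow_one, e1,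
      show q ^ 2 - q = q * (q - 1) by rw [Nat.mul_sub_one, sq], e2, ht]
    ring
  haveI : Finite (Module.End (ZMod q) K)ˣ := Nat.finite_of_card_ne_zero (by rw [cG]; have := hq.pos; positivity)
  have cT := idx.card
  rw [ox] at cT
  have syl : Syl 2 (closure {L ξ, y}) ⊤ := ⟨le_top, .of_card (n := r + 4) (by rw [cT, pow_succ' 2 (r + 3), hm3]), by
    have := card_mul_index (closure {L ξ, y})
    rw [cT, cG, ← mul_assoc 2 8 m] at this
    rw [relIndex_top_right, Nat.eq_of_mul_eq_mul_left (by omega) this, ← even_iff_two_dvd, Nat.not_even_iff_odd]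
    exact (Odd.mul ⟨2 * s + 1, by omega⟩ ⟨s, rfl⟩).mul (Odd.mul ⟨t, rfl⟩ ⟨s, rfl⟩)⟩
  obtain ⟨g', g1, g2⟩ : ∃ g', g' * L ξ ^ (2 * m) * g'⁻¹ = L ξ * y ∧ χ g' = 1 := by
    rcases χ2 g with k | k
    · exact ⟨g, hg', k⟩
    · exact ⟨g * L ξ, by rw [← hg']; group, by rw [map_mul, k, (χ2 _).resolve_left xH]; simp⟩
  refine ⟨_, inferInstance, inferInstance, L ξ, y, g', χ.ker, by rw [ox, hm3], idx, syl, mem_center_iff.2 fun z => ?_,
    hm ▸ g1, inferInstance, g2, xH, ?_⟩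
  · rw [hm2, ← map_pow, n4]
    exact Units.ext (by rw [Units.val_mul, Units.val_mul, Lm]; ext; simp)
  · rw [MonoidHom.mem_ker, map_pow, (χ2 _).resolve_left xH, neg_one_sq]

/-- A Sylow subgroup with fusion not controlled by itself. -/
def BadSyl (X : Type*) [Group X] : Prop := ∃ (G : Type) (_ : Group G) (_ : Finite G) (T H : Subgroup G) (a g : G),
  Syl 2 T H ∧ a ∈ T ∧ g ∈ H ∧ g * a * g⁻¹ ∈ T ∧ (∀ t ∈ T, g * a * g⁻¹ ≠ t * a * t⁻¹) ∧ Nonempty (X ≃* T)

theorem idx2_bad {G : Type*} [Group G] [Finite G] {T : Subgroup G} {a b c t : G} {k m : ℤ} (h : Idx2 T a b k m)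
    (hc : c ∈ zpowers a) (ht : t ∈ T) : b ≠ t * c * t⁻¹ := fun e =>
  h.notMem (e ▸ CfsgH2.conj_mem_of_mem_normalizer (h.le_normalizer ht) hc)

theorem bad_qd {X : Type*} [Group X] [Finite X] (h : IsQuasiDihedral X) : BadSyl X := by
  obtain ⟨n, hn, c, a, b, oa, ob, e⟩ := h
  obtain ⟨r, rfl⟩ : ∃ r, n = r + 3 := ⟨n - 3, by omega⟩
  obtain ⟨G, _, _, x, y, g, H, s⟩ := exists_sdex r
  have e' : b * a * b⁻¹ = a ^ (2 ^ (r + 2) - 1 : ℤ) := by
    rw [e, ← zpow_natCast, Nat.cast_sub (Nat.one_le_two_pow)]; simp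
  have i : Idx2 (closure {a, b}) a b (2 ^ (r + 2) - 1) 0 := CfsgH2.idx2_closure e'
    (by simpa using CfsgH2.mul_self_of_orderOf_two ob) fun ⟨i, k⟩ => by
      have : a ^ (1 : ℤ) = a ^ (2 ^ (r + 2) - 1 : ℤ) := by rw [← e', ← k]; simp only []; group
      rw [CfsgH2.zpow_eq_zpow_iff_dvd, oa] at this
      have h1 : (4 : ℤ) ≤ 2 ^ (r + 2) := by have := pow_pos (two_pos (α := ℤ)) r; rw [pow_add]; omega
      have := Int.le_of_dvd (by omega) (dvd_neg.2 this)
      push_cast at this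
      rw [pow_succ _ (r + 2)] at this; omega
  have t : closure {a, b} = ⊤ := eq_top_of_card_eq _ (by rw [i.card, oa, c, pow_succ' 2 (r + 3)])
  obtain ⟨f⟩ := idx2_equiv i s.idx (oa.trans s.ox.symm)
  have j := s.idx.shift 1
  rw [zpow_one] at j
  exact ⟨G, inferInstance, inferInstance, _, ⊤, x ^ 2 ^ (r + 1), g, s.syl, pow_mem j.a_mem _, trivial, s.conj ▸ j.b_mem,
    fun t ht => s.conj ▸ idx2_bad j ⟨(2 ^ (r + 1) : ℕ), zpow_natCast _ _⟩ ht,
    ⟨(topEquiv.symm.trans (MulEquiv.subgroupCongr t.symm)).trans f⟩⟩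

theorem bad_quat {X : Type*} [Group X] {r : ℕ} (e : X ≃* QuaternionGroup (2 ^ (r + 1))) : BadSyl X := by
  obtain ⟨G, _, _, x, y, g, H, s⟩ := exists_sdex r
  haveI := s.nH
  have i := (s.idx.sub 2 1 (m' := (2 ^ (r + 1) : ℕ)) (by congr 1; push_cast; ring)).congr (k' := -1) (by
    rw [← zpow_mul, ← zpow_mul, CfsgH2.zpow_eq_zpow_iff_dvd, s.ox]; exact ⟨1, by push_cast; ring⟩) rfl
  have o2 : orderOf (x ^ (2 : ℤ)) = 2 * 2 ^ (r + 1) := by
    rw [zpow_ofNat, orderOf_pow_of_dvd two_ne_zero (s.ox ▸ dvd_pow_self 2 (by omega)), s.ox, pow_succ' 2 (r + 2),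
      Nat.mul_div_cancel_left _ two_pos, pow_succ']
  rw [zpow_one] at i
  obtain ⟨f⟩ := i.quaternion o2
  have m : x ^ 2 ^ (r + 1) ∈ zpowers (x ^ (2 : ℤ)) := ⟨(2 ^ r : ℕ), by
    simp only []; rw [zpow_ofNat, zpow_natCast, ← pow_mul, pow_succ']⟩
  have xy : x * y ∈ H := s.conj ▸ mconj s.gH (by rw [pow_succ', pow_mul]; exact pow_mem s.x2H _)
  have l1 : closure {x ^ (2 : ℤ), x * y} ≤ closure {x, y} ⊓ H := i.le_iff.2
    ⟨⟨zpow_mem s.idx.a_mem _, by rw [zpow_ofNat]; exact s.x2H⟩, mmul s.idx.a_mem s.idx.b_mem, xy⟩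
  have e1 := (CfsgH2.eq_or_eq_of_relIndex_prime (p := 2) (CfsgH2.relIndex_eq_of_card (l1.trans inf_le_left) (by
    rw [i.card, s.idx.card, o2, s.ox]; ring)) l1 inf_le_left).resolve_right fun k => s.xH (k.ge s.idx.a_mem).2
  have sy := s.syl.inf_normal' (N := H) (le_norm s.nH) le_top
  rw [e1] at sy
  exact ⟨G, inferInstance, inferInstance, _, H, x ^ 2 ^ (r + 1), g, sy, i.zpowers_le m, s.gH, s.conj ▸ i.b_mem,
    fun t ht => s.conj ▸ idx2_bad i m ht, ⟨e.trans f.symm⟩⟩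

theorem bad_dih {X : Type*} [Group X] {r : ℕ} (e : X ≃* DihedralGroup (2 ^ (r + 2))) : BadSyl X := by
  obtain ⟨G, _, _, x, y, g, H, s⟩ := exists_sdex r
  haveI : (zpowers (x ^ 2 ^ (r + 2))).Normal := normal_of_le ((le_centralizer_iff.1 ((zpowers_le.2 s.cen).trans
    (center_le_centralizer _))).trans (centralizer_le_normalizer _))
  let f := QuotientGroup.mk' (zpowers (x ^ 2 ^ (r + 2)))
  have l : zpowers (x ^ 2 ^ (r + 2)) ≤ zpowers x := zpowers_le.2 (pow_mem (mem_zpowers x) _)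
  have o1 : f x ^ 2 ^ (r + 2) = 1 := by rw [← map_pow]; exact (QuotientGroup.eq_one_iff _).2 (mem_zpowers _)
  have i := (s.idx.map f fun ⟨n, k⟩ => s.idx.notMem (by
    simp only [← map_zpow] at k
    simpa using mmul (⟨n, rfl⟩ : x ^ n ∈ zpowers x) (l (QuotientGroup.eq.1 k)))).congr (k' := -1) (by
      rw [zpow_sub, show (2 : ℤ) ^ (r + 2) = (2 ^ (r + 2) : ℕ) by simp, zpow_natCast, o1]; simp) rfl
  have o : orderOf (f x) = 2 ^ (r + 2) := orderOf_eq_prime_pow (fun k => by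
    rw [← map_pow] at k
    obtain ⟨n, hn⟩ := (QuotientGroup.eq_one_iff _).1 k
    simp only [] at hn
    rw [← zpow_natCast, ← zpow_natCast, ← zpow_mul, CfsgH2.zpow_eq_zpow_iff_dvd, s.ox] at hn
    have : (2 : ℤ) ^ (r + 1) * 2 ∣ 2 ^ (r + 1) * (2 * n - 1) := by
      refine (Dvd.intro 2 ?_).trans (hn.trans (dvd_of_eq ?_)) <;> (push_cast; ring)
    have := (mul_dvd_mul_iff_left (by positivity)).1 this
    omega) o1
  obtain ⟨d⟩ := i.dihedral o
  have sy := s.syl.map f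
  rw [map_top_of_surjective _ (QuotientGroup.mk'_surjective _)] at sy
  have c : f g * f x ^ 2 ^ (r + 1) * (f g)⁻¹ = f x * f y := by rw [← map_pow, ← map_inv, ← map_mul, ← map_mul, s.conj, map_mul]
  have j := i.shift 1
  rw [zpow_one] at j
  exact ⟨_, inferInstance, inferInstance, _, ⊤, f x ^ 2 ^ (r + 1), f g, sy, pow_mem j.a_mem _, trivial, c ▸ j.b_mem,
    fun t ht => c ▸ idx2_bad j ⟨(2 ^ (r + 1) : ℕ), zpow_natCast _ _⟩ ht, ⟨e.trans d.symm⟩⟩

end CfsgFS
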