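import Cfsg.Agent.FS.SSol2

/-! Supersoluble fusion systems. -/

set_option autoImplicit false
set_option linter.unusedSectionVars false

namespace CfsgFS

open Subgroup Cfsg Cfsg.FusionSystem CfsgH9
open scoped commutatorElement

universe u

variable {Ω : Type u} [Group Ω] {S : Subgroup Ω} {F : FusionSystem S} {A B P R : Subgroup Ω} {p : ℕ} {x : Ω}

def SSF (F : FusionSystem S) : Prop :=
  ∃ (m : ℕ) (c : Fin (m + 1) → Subgroup Ω), c 0 = ⊥ ∧ c (Fin.last m) = S ∧ (∀ i : Fin (m + 1), F.StronglyClosed (c i)) ∧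
    ∀ i : Fin m, c i.castSucc ≤ c i.succ ∧ ∃ x ∈ S, c i.succ = c i.castSucc ⊔ zpowers x

inductive PCh (F : FusionSystem S) (p : ℕ) : Subgroup Ω → Prop
  | bot : PCh F p ⊥
  | step {A B : Subgroup Ω} : PCh F p A → F.StronglyClosed B → A ≤ B → Nat.card B ≤ Nat.card A * p → PCh F p B

theorem PCh.sc (h : PCh F p R) : F.StronglyClosed R := by
  cases h with
  | bot => exact sc_bot
  | step _ h _ _ => exact h

theorem exists_autsys' (S : Subgroup Ω) (A : Subgroup (MulAut S)) (h1 : Inn S ≤ A) :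
    ∃ E : FusionSystem S, ∀ P f, Mor E P f ↔ P ≤ S ∧ ∃ γ ∈ A, ∀ x ∈ P, f x = ap γ x := by
  refine ⟨ofPred S (fun P f => P ≤ S ∧ ∃ γ ∈ A, ∀ x ∈ P, f x = ap γ x) ?_ ?_ ?_ ?_ ?_ ?_, fun P f => mor_ofPred.trans
    ⟨fun h => h.2, fun h => ⟨?_, h⟩⟩⟩
  · rintro P f ⟨hP, γ, -, e⟩
    exact ⟨hP, fun x hx => e x hx ▸ ap_mem γ (hP hx)⟩
  · rintro P f ⟨-, γ, -, e⟩ x hx k
    exact ap_injective γ (by rw [← e x hx, k, (homOn_ap γ).one])
  · rintro P f g ⟨hP, γ, hγ, h⟩ e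
    exact ⟨hP, γ, hγ, fun x hx => (e x hx).symm.trans (h x hx)⟩
  · exact fun P s hP hs => ⟨hP, _, h1 (cj_mem_inn hs), fun x hx => (ap_cj (le_normalizer hs) (hP hx)).symm⟩
  · rintro P Q f g - - ⟨hP, γ, hγ, h⟩ ⟨-, δ, hδ, k⟩ e
    exact ⟨hP, δ * γ, mmul hδ hγ, fun x hx => by simp only [k _ (e x hx)]; rw [h x hx, ap_mul]⟩
  · rintro P f - ⟨hP, γ, hγ, h⟩
    exact ⟨ap γ⁻¹, ⟨im_le.2 fun x hx => h x hx ▸ ap_mem γ (hP hx), γ⁻¹, minv hγ, fun _ _ => rfl⟩,
      fun x hx => by rw [h x hx, ap_inv_ap]⟩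
  · obtain ⟨hP, γ, -, e⟩ := h
    exact fun x hx y hy => by rw [e _ (mmul hx hy), e x hx, e y hy, (homOn_ap γ).mul (hP hx) (hP hy)]

variable [Finite S] [hp : Fact p.Prime]

theorem exists_sys_of_coprime (hS : IsPGroup p S) (H : Subgroup (MulAut S)) (c : (Nat.card H).Coprime p) :
    ∃ E : FusionSystem S, Sat E p ∧ H ≤ E.autGroup S := by
  obtain ⟨E, h2⟩ := exists_autsys' S (Inn S ⊔ H) le_sup_left
  have h3 : ∀ P f, Mor E P f → ∃ g, Mor E S g ∧ ∀ x ∈ P, g x = f x := fun P f hf =>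
    let ⟨_, γ, hγ, e⟩ := (h2 P f).1 hf; ⟨_, (h2 _ _).2 ⟨le_rfl, γ, hγ, fun _ _ => rfl⟩, fun x hx => (e x hx).symm⟩
  haveI : (Inn S).Normal := ⟨fun _ h _ => inn_conj h⟩
  refine ⟨E, sat_of_top_ext hS (fun α hα k hk => ?_) h3, autsys_aut h2 ▸ le_sup_right⟩
  obtain ⟨i, hi, β, hβ, rfl⟩ := mem_sup_of_normal_left.1 (autsys_aut h2 ▸ hα)
  exact mem_of_pelt (c.coprime_dvd_left (orderOf_dvd_natCard _ hβ)) (mmul (mem_sup_left hi) (mem_sup_right (mem_zpowers β))) hk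

theorem PCh.cyc (hS : IsPGroup p S) (h : PCh F p A) (hB : F.StronglyClosed B) (e : B = A ⊔ zpowers x) : PCh F p B := by
  obtain ⟨R, ⟨r1, r2, r3⟩, hm⟩ := exists_max_card S {R | A ≤ R ∧ R ≤ B ∧ PCh F p R} (fun R h => h.2.1.trans hB.1)
    ⟨A, le_rfl, e ▸ le_sup_left, h⟩
  have xB : x ∈ B := e ▸ mem_sup_right (mem_zpowers x)
  by_cases k : x ∈ R
  · exact le_antisymm r2 (e ▸ sup_le r1 (zpowers_le.2 k)) ▸ r3
  obtain ⟨n, hn⟩ := pow_eq_one_of_isPGroup hS (hB.1 xB)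
  obtain ⟨j, j1, j2⟩ := CfsgH2.exists_pow_not_mem (p := p) k (k := n) (hn ▸ one_mem _)
  have nR := SC.norm r3.sc
  have uB := pow_mem xB (p ^ j)
  generalize x ^ p ^ j = u at j1 j2 uB
  have c := CfsgH2.card_sup_zpowers (nR (hB.1 uB)) j1 j2
  haveI := sc_normal (hB.1.trans nR)
  haveI := finite_of_le hB.1
  let q := QuotientGroup.mk' (R.subgroupOf B)
  have cy : IsCyclic (⊤ : Subgroup (B ⧸ R.subgroupOf B)) := CfsgH2.isCyclic_iff_zpowers.2 ⟨q ⟨x, xB⟩, top_le_iff.1 fun y _ => by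
    obtain ⟨⟨y, hy⟩, rfl⟩ := QuotientGroup.mk'_surjective _ y
    obtain ⟨a, ha, i, rfl⟩ := (CfsgH2.mem_sup_zpowers (nR (hB.1 xB))).1 (sup_le_sup_right r1 _ (e ▸ hy))
    refine ⟨i, ?_⟩
    simp only [← map_zpow]
    exact QuotientGroup.eq.2 (by simpa [mem_subgroupOf, mul_assoc] using
      CfsgH2.conj_mem_of_mem_normalizer (nR (minv (zpow_mem (hB.1 xB) i))) ha)⟩
  have pw : ∀ y (hy : y ∈ B), y ^ p ∈ R ↔ q ⟨y, hy⟩ ^ p = 1 := fun y hy => by
    rw [← map_pow]; exact (QuotientGroup.eq_one_iff (N := R.subgroupOf B) (⟨y, hy⟩ ^ p)).symm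
  have eΩ : zpowers (q ⟨u, uB⟩) = omegaOne p ⊤ := eq_of_le_of_card_ge (zpowers_le.2 (CfsgH2.mem_omegaOne trivial
    ((pw u uB).1 j2))) (by
      rw [Nat.card_zpowers, orderOf_eq_prime ((pw u uB).1 j2) fun z => j1 ((QuotientGroup.eq_one_iff (N := R.subgroupOf B) ⟨u, uB⟩).1 z)]
      exact CfsgH2.card_omegaOne_le_of_isCyclic cy)
  have l : R ⊔ zpowers u ≤ B := sup_le r2 (zpowers_le.2 uB)
  have key : ∀ y (hy : y ∈ B), y ∈ R ⊔ zpowers u ↔ y ^ p ∈ R := fun y hy => by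
    refine ⟨fun k => ?_, fun k => ?_⟩
    · obtain ⟨a, ha, i, rfl⟩ := (CfsgH2.mem_sup_zpowers (nR (hB.1 uB))).1 k
      rw [pw _ hy, show (⟨a * u ^ i, hy⟩ : B) = ⟨a, r2 ha⟩ * ⟨u, uB⟩ ^ i from rfl, map_mul, show q ⟨a, r2 ha⟩ = 1 from
        (QuotientGroup.eq_one_iff _).2 ha, one_mul, map_zpow, ← zpow_natCast, ← zpow_mul, mul_comm, zpow_mul, zpow_natCast,
        (pw u uB).1 j2, one_zpow]
    · obtain ⟨i, hi⟩ := eΩ.ge (CfsgH2.mem_omegaOne trivial ((pw y hy).1 k))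
      simp only [← map_zpow] at hi
      simpa using mmul (mem_sup_right (S := R) (zpow_mem_zpowers u i))
        (mem_sup_left (mem_subgroupOf.1 (QuotientGroup.eq.1 hi)))
  haveI := finite_of_le r2
  have := hm _ ⟨r1.trans le_sup_left, l, r3.step (sc_iff.2 ⟨l.trans hB.1, fun P f hf y hy k => (key _ (SC.mem hB hf hy (l k))).2
    (hf.pow hy p ▸ SC.mem r3.sc hf (pow_mem hy p) ((key y (l k)).1 k))⟩) le_sup_left c.le⟩
  exact absurd (Nat.le_of_mul_le_mul_left ((c ▸ this).trans (mul_one _).ge) Nat.card_pos) hp.out.one_lt.not_ge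

theorem sub_card (hA : A ≤ S) : Nat.card (A.subgroupOf S) = Nat.card A := CfsgH1.card_subgroupOf_of_le hA

theorem ssf_iff (hS : IsPGroup p S) : SSF F ↔ PCh F p S := by
  refine ⟨fun ⟨m, c, c0, c1, c2, c3⟩ => ?_, fun h => ?_⟩
  · suffices ∀ i, PCh F p (c i) from (congrArg (PCh F p) c1).mp (this _)
    intro i
    induction i using Fin.induction with
    | zero => rw [c0]; exact .bot
    | succ i ih => obtain ⟨-, x, -, e⟩ := c3 i; exact ih.cyc hS (c2 _) e
  suffices ∀ R, PCh F p R → ∃ (m : ℕ) (c : Fin (m + 1) → Subgroup Ω), c 0 = ⊥ ∧ c (Fin.last m) = R ∧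
      (∀ i : Fin (m + 1), F.StronglyClosed (c i)) ∧
      ∀ i : Fin m, c i.castSucc ≤ c i.succ ∧ ∃ x ∈ S, c i.succ = c i.castSucc ⊔ zpowers x from this S h
  intro R h
  induction h with
  | bot => exact ⟨0, fun _ => ⊥, rfl, rfl, fun _ => sc_bot, fun i => i.elim0⟩
  | @step A B _ h2 h3 h4 ih =>
    obtain ⟨n, C, c1, c2, c4, c5⟩ := ih
    refine ⟨n + 1, Fin.snoc C B, by rw [← c1]; rfl, by simp, fun i => ?_, fun i => ?_⟩
    · induction i using Fin.lastCases with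
      | last => simpa using h2
      | cast i => simpa using c4 i
    · induction i using Fin.lastCases with
      | last =>
        obtain ⟨y, -, e⟩ := CfsgH2.exists_sup_zpowers_eq (K := A.subgroupOf S) (hS.to_subgroup (B.subgroupOf S)) (comap_mono h3)
          (by rwa [sub_card h2.1, sub_card (h3.trans h2.1)])
        have := congrArg (Subgroup.map S.subtype) e
        rw [Subgroup.map_sup, map_subgroupOf_eq_of_le h2.1, map_subgroupOf_eq_of_le (h3.trans h2.1), MonoidHom.map_zpowers] at this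
        simpa [c2] using ⟨h3, y, y.2, this.symm⟩
      | cast i => rw [Fin.succ_castSucc, Fin.snoc_castSucc, Fin.snoc_castSucc]; exact c5 i

theorem PCh.nm (h : PCh F p S) (hF : Sat F p) : F.IsNormal S := by
  suffices ∀ R, PCh F p R → ∃ (n : ℕ) (C : ℕ → Subgroup Ω), C 0 = ⊥ ∧ C n = R ∧ (∀ i, F.StronglyClosed (C i)) ∧
      ∀ i < n, ⁅S, C (i + 1)⁆ ≤ C i by
    obtain ⟨n, C, c0, c1, c2, c3⟩ := this S h
    exact hF.nm_of_chain C n c0 c1 (fun i _ => c2 i) c3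
  intro R h
  induction h with
  | bot => exact ⟨0, fun _ => ⊥, rfl, rfl, fun _ => sc_bot, fun i hi => absurd hi (Nat.not_lt_zero i)⟩
  | @step A B h1 h2 h3 h4 ih =>
    obtain ⟨n, C, c1, c2, c4, c5⟩ := ih
    refine ⟨n + 1, fun i => if i ≤ n then C i else B, by simp [c1], by simp, fun i => ?_, fun i hi => ?_⟩
    · dsimp only; split_ifs; exacts [c4 i, h2]
    rcases (Nat.lt_succ_iff.1 hi).eq_or_lt with rfl | l
    · simp only [le_refl, if_true, Nat.add_one_le_iff, lt_irrefl, if_false, c2]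
      have := CfsgH2.commutator_le_of_card_succ (hF.pg.to_subgroup ⊤) le_top (le_norm (sc_normal (SC.norm h2)))
        (le_norm (sc_normal (SC.norm h1.sc))) (comap_mono h3) (by rwa [sub_card h2.1, sub_card h1.sc.1])
      rw [commutator_comm]
      exact commutator_le.2 fun b hb s hs => this (commutator_mem_commutator (g₁ := ⟨b, h2.1 hb⟩) hb (mem_top ⟨s, hs⟩))
    · simp only [l.le, if_true, Nat.add_one_le_iff, l]; exact c5 i l

theorem PCh.pc (h : PCh F p R) : PC p (F.autGroup S) (R.subgroupOf S) := by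
  induction h with
  | bot => rw [bot_subgroupOf]; exact .bot
  | step h1 h2 h3 h4 ih =>
    exact ih.step (comap_mono h3) (sc_normal (SC.norm h1.sc)) (fun α hα x hx => mem_subgroupOf.2
      (ap_coe α x ▸ SC.mem h2 ((mem_autGroup le_rfl).1 hα) x.2 hx)) (by rwa [sub_card h2.1, sub_card h1.sc.1])

theorem Sat.ssf_iff (hF : Sat F p) : SSF F ↔ F.IsNormal S ∧ AutOK p (F.autGroup S) := by
  rw [CfsgFS.ssf_iff hF.pg]
  refine ⟨fun h => ⟨h.nm hF, h.pc.autOK hF.pg fun δ _ k => MulEquiv.ext fun x => k x (mem_subgroupOf.2 x.2)⟩, fun ⟨h1, h2⟩ => ?_⟩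
  obtain ⟨G, _, _, θ, π, l⟩ := hF.exists_loc fn_top
  have eN : NI(S, S) = S := inf_eq_left.2 le_normalizer
  have sy := l.syl
  rw [eN] at sy
  obtain ⟨T, hT⟩ := sy.toSylowTop
  haveI := l.nr
  haveI : (T : Subgroup G).Normal := hT ▸ l.nr
  obtain ⟨K, k1, k2, k3⟩ := CfsgH1.exists_compl_sylow T
  rw [hT] at k1 k2
  obtain ⟨a1, a2⟩ := h2 (K.map ((F.autGroup S).subtype.comp π)) (by rintro _ ⟨g, -, rfl⟩; exact (π g).2)
    (k3.coprime_dvd_left (card_map_dvd _ _))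
  have b1 : ⁅K, K⁆ ≤ CC(im S θ) := commutator_le.2 fun a ha b hb => l.pi_eq_one.1 (by
    rw [map_commutatorElement]
    exact commutatorElement_eq_one_iff_commute.2 (Subtype.ext (CfsgH2.mul_comm_of_isMulCommutative a1 ⟨a, ha, rfl⟩ ⟨b, hb, rfl⟩)))
  have ss : CfsgH1.SS G := CfsgH1.ss_of_abelian_action sy.pg k1 ?_ b1 fun a ha => l.pi_eq_one.1 (by
    rw [map_pow]; exact Subtype.ext (a2 _ ⟨a, ha, rfl⟩))
  · obtain ⟨R, r, hm⟩ := exists_max_card S {R | PCh F p R} (fun R h => h.sc.1) ⟨⊥, .bot⟩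
    replace r : PCh F p R := r
    have rS : R ≤ S := r.sc.1
    by_contra k
    haveI : (im R θ).Normal := l.normal rS fun α hα x hx => SC.mem r.sc ((mem_autGroup le_rfl).1 hα) (rS hx) hx
    obtain ⟨M, m1, m2, m3, m4⟩ := ss.exists_le (N := im R θ) (B := im S θ) (lt_of_le_of_ne (im_mono rS) fun e =>
      k ((l.isoR.im_inj rS le_rfl).1 e ▸ r))
    have iM : im (pre S θ M) θ = M := im_pre l.isoR.hom m3
    obtain ⟨n, hn⟩ := (sy.pg.to_le m3).index ((im R θ).subgroupOf M)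
    change (im R θ).relIndex M = _ at hn
    have c : Nat.card (pre S θ M) = Nat.card R * p := by
      rw [← l.card (pre_le.trans l.leN), iM, ← CfsgH2.card_mul_relIndex m2, l.card (rS.trans l.leN), hn,
        (hn ▸ m4 : (p ^ n).Prime).eq_one_of_pow, pow_one]
    haveI := finite_of_le rS
    have := hm _ (r.step (sc_iff.2 ⟨pre_le, fun P f hf x hx k => by
      obtain ⟨α, hα, e⟩ := Nm.ext_aut h1 hf
      exact e x hx (pre_le k) ▸ l.inv_of_normal pre_le (iM.symm ▸ m1) hα k⟩) (le_pre rS m2) c.le)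
    exact absurd (Nat.le_of_mul_le_mul_left ((c ▸ this).trans (mul_one _).ge) Nat.card_pos) hp.out.one_lt.not_ge
  · have : commutator G ≤ im S θ := by
      rw [_root_.commutator, ← k1]
      refine CfsgH2.commutator_sup_le (le_norm inferInstance) (le_norm inferInstance) (commutator_le_left _ _) ?_
      rw [commutator_comm]
      exact CfsgH2.commutator_sup_le (le_norm inferInstance) (le_norm inferInstance) (commutator_le_left _ _)
        (b1.trans (l.cent centralizerIn_le))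
    haveI := Normal.quotient_commutative_iff_commutator_le.2 this
    letI : CommGroup (G ⧸ im S θ) := { (inferInstance : Group _) with mul_comm := mul_comm' }
    exact CfsgH1.ss_of_nilpotent

theorem sst_iff (hS : IsPGroup p S) : (∀ F : FusionSystem S, F.IsSaturated p → SSF F) ↔
    (∀ F : FusionSystem S, F.IsSaturated p → F.IsNormal S) ∧ AutOK p (⊤ : Subgroup (MulAut S)) := by
  refine ⟨fun h => ⟨fun F hF => ((Sat.mk hS hF).ssf_iff.1 (h F hF)).1, fun H _ c => ?_⟩,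
    fun h F hF => (Sat.mk hS hF).ssf_iff.2 ⟨h.1 F hF, h.2.mono le_top⟩⟩
  obtain ⟨E, e1, e2⟩ := exists_sys_of_coprime hS H c
  exact (e1.ssf_iff.1 (h E e1.2)).2 H e2 c

theorem sst_comm (hS : IsPGroup p S) (hab : IsMulCommutative S) : (∀ F : FusionSystem S, F.IsSaturated p → SSF F) ↔
    AutOK p (⊤ : Subgroup (MulAut S)) :=
  (sst_iff hS).trans (and_iff_right fun _ hF => (Sat.mk hS hF).nm_of_comm sc_top
    (CfsgH2.isMulCommutative_iff_le_centralizer.1 hab))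

theorem Sat.triv_of_autOK (hF : Sat F 2) (h1 : F.IsNormal S) (h2 : AutOK 2 (F.autGroup S)) : Triv F :=
  hF.triv_of_centric h1 centric_top (isPGroup_of_coprime fun α hα o => by
    simpa using (h2 (zpowers α) (zpowers_le.2 hα) (by rwa [Nat.card_zpowers])).2 α (mem_zpowers α))

theorem triv_of_distinct {n : ℕ} {a : Fin n → ℕ} (ha : Function.Injective a)
    (e : S ≃* Multiplicative ((i : Fin n) → ZMod (2 ^ a i))) (hF : F.IsSaturated 2) : Triv F := by
  have hS : IsPGroup 2 S := .of_card (n := ∑ i, a i) (by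
    simp [Nat.card_congr e.toEquiv, Nat.card_pi, Finset.prod_pow_eq_pow_sum])
  exact (Sat.mk hS hF).triv_of_autOK ((Sat.mk hS hF).nm_of_comm sc_top fun x hx y hy => congrArg Subtype.val
    (e.injective (a₁ := ⟨y, hy⟩ * ⟨x, hx⟩) (a₂ := ⟨x, hx⟩ * ⟨y, hy⟩) (by rw [map_mul, map_mul, mul_comm])))
    (((autOK_pi ha).congr (e.trans (MulEquiv.piMultiplicative _)).symm).mono le_top)

theorem BadSyl.not_sst (h : BadSyl S) : ¬ ∀ F : FusionSystem S, F.IsSaturated 2 → SSF F := fun k => by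
  obtain ⟨G, _, _, T, H, a, g, s, a1, g1, a2, a3, ⟨e⟩⟩ := h
  obtain ⟨E, i⟩ := exists_push (fusionSystemOfSubgroup H T s.le) (hiso_of_equiv e.symm)
  have sE := i.toFSurj.sat ((isGF_sub s.le).sat s)
  obtain ⟨θ, j, -⟩ := i.symm
  have := triv_iff'.1 (j.inner (triv_iff'.2 (sE.triv_of_autOK (sE.ssf_iff.1 (k E sE.2)).1 (sE.ssf_iff.1 (k E sE.2)).2)))
  obtain ⟨t, t1, t2⟩ := this _ _ ((isGF_sub s.le).mor g1 (zpowers_le.2 a1) (by
    rintro _ ⟨i, rfl⟩; simp only [← conj_zpow]; exact zpow_mem a2 i))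
  exact a3 t t1 (t2 a (mem_zpowers a))

theorem not_autOK' {n : ℕ} (hn : 0 < n) (e : S ≃* Multiplicative (ZMod (p ^ n)) × Multiplicative (ZMod (p ^ n))) :
    ¬ AutOK p (⊤ : Subgroup (MulAut S)) := fun h => by
  haveI : Fact (1 < p ^ n) := ⟨Nat.one_lt_pow hn.ne' hp.out.one_lt⟩
  exact not_autOK (H := PUnit.{1}) (.of_card (n := n) (by simp)) (h.congr (e.trans MulEquiv.prodUnique.symm))

theorem sst_meta (hS : IsPGroup p S) (hm : IsMetacyclic S) : (∀ F : FusionSystem S, F.IsSaturated p → SSF F) ↔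
    ¬ ((∃ n : ℕ, 0 < n ∧ Nonempty (S ≃* Multiplicative (ZMod (p ^ n)) × Multiplicative (ZMod (p ^ n)))) ∨
      (p = 2 ∧ ((∃ n : ℕ, 2 ≤ n ∧ Nonempty (S ≃* DihedralGroup n)) ∨ IsQuasiDihedral S ∨
        (∃ n : ℕ, 2 ≤ n ∧ Nonempty (S ≃* QuaternionGroup n))))) := by
  obtain ⟨N, hN⟩ := hS.exists_card_eq
  refine ⟨fun h => ?_, fun h => ?_⟩
  · rintro (⟨n, hn, ⟨e⟩⟩ | ⟨rfl, ⟨n, hn, ⟨e⟩⟩ | k | ⟨n, hn, ⟨e⟩⟩⟩)
    · exact not_autOK' hn e ((sst_iff hS).1 h).2
    · obtain ⟨j, -, rfl⟩ := (Nat.dvd_prime_pow Nat.prime_two).1 (show n ∣ 2 ^ N from Dvd.intro_left 2 (by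
        rw [← hN, Nat.card_congr e.toEquiv, DihedralGroup.nat_card]))
      rcases j with _ | _ | j
      · omega
      · obtain ⟨f⟩ : Nonempty (DihedralGroup 2 ≃* Multiplicative (ZMod 2 × ZMod 2)) := IsKleinFour.nonempty_mulEquiv
        exact not_autOK' (n := 1) one_pos (e.trans (f.trans (MulEquiv.prodMultiplicative _ _))) ((sst_iff hS).1 h).2
      · exact (bad_dih e).not_sst h
    · exact (bad_qd k).not_sst h
    · haveI : NeZero n := ⟨by omega⟩
      obtain ⟨j, -, rfl⟩ := (Nat.dvd_prime_pow Nat.prime_two).1 (show n ∣ 2 ^ N from Dvd.intro_left 4 (by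
        rw [← hN, Nat.card_congr e.toEquiv, Nat.card_eq_fintype_card, QuaternionGroup.card]))
      rcases j with _ | j
      · omega
      · exact (bad_quat e).not_sst h
  by_cases cy : IsCyclic S
  · exact (sst_comm hS cy.isMulCommutative).2 (autOK_cyclic hS cy)
  rw [not_or] at h
  by_cases p2 : p = 2
  · subst p2
    simp only [true_and, not_or] at h
    intro F hF
    replace hF := Sat.mk hS hF
    have t : Triv F := by
      obtain ⟨G, _, _, θ, π, w⟩ := hF.exists_loc fn_top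
      obtain ⟨e, -⟩ := w.isoR.exists_equiv
      refine hF.triv_of_centric (hF.nm_of_meta2 sc_top hm (fun ⟨m, ⟨f⟩⟩ => ?_) (fun ⟨m, ⟨f⟩⟩ => ?_) h.2.2.1) centric_top
        (w.pg_aut fun g g1 => by_contra fun g2 => ?_)
      · rcases m with _ | _ | m
        · exact (Infinite.of_injective _ f.symm.injective).not_finite inferInstance
        · exact cy (isCyclic_of_prime_card (p := 2) (by rw [Nat.card_congr f.toEquiv, DihedralGroup.nat_card]))
        · exact h.2.1 ⟨_, by omega, ⟨f⟩⟩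
      · rcases m with _ | _ | m
        · exact (Infinite.of_injective (fun i : ℤ => f.symm (QuaternionGroup.a i)) fun i j e =>
            QuaternionGroup.a.inj (f.symm.injective e)).not_finite inferInstance
        · exact cy (@isCyclic_of_surjective _ _ _ _ _ QuaternionGroup.quaternionGroup_one_isCyclic _ _ f.symm f.symm.surjective)
        · exact h.2.2.2 ⟨_, by omega, ⟨f⟩⟩
      rcases CfsgH2.meta_odd (HomOn.pg w.isoR.hom hF.pg) (w.isoR.meta hm)
        ⟨g, le_norm (B := ⊤) w.nr trivial, Nat.coprime_two_right.1 g1, g2⟩ with ⟨x, y, r, k⟩ | ⟨x, y, k, ox⟩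
      · rcases r with _ | r
        · exact g2 (by rw [card_eq_one.1 k.card]; rintro _ rfl; simp)
        · exact h.1 ⟨r + 1, r.succ_pos, ⟨e.trans (k.equiv.some.trans (MulEquiv.prodMultiplicative _ _))⟩⟩
      · exact h.2.2.2 ⟨2, le_rfl, ⟨e.trans (k.quaternion ox).some⟩⟩
    refine hF.ssf_iff.2 ⟨t.nm le_rfl le_normalizer, fun H l c => ?_⟩
    obtain rfl : H = ⊥ := le_bot_iff.1 fun α hα => eq_one_of_coprime (t.pg hS le_rfl) (l hα)
      (c.coprime_dvd_left (orderOf_dvd_natCard _ hα))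
    exact ⟨inferInstance, fun α hα => by rw [mem_bot.1 hα, one_pow]⟩
  refine (sst_iff hS).2 ⟨fun F hF => (Sat.mk hS hF).nm_of_meta p2 sc_top hm, ?_⟩
  by_cases ab : IsMulCommutative S
  swap
  · exact autOK_meta hS p2 hm ab
  refine (autOK_iff hS ab).2 fun ⟨n, H, _, hn, ⟨e⟩⟩ => h.1 ⟨n, hn, ?_⟩
  by_cases nt : Nontrivial H
  swap
  · haveI := not_nontrivial_iff_subsingleton.1 nt
    haveI : Unique H := uniqueOfSubsingleton 1
    exact ⟨e.trans MulEquiv.prodUnique⟩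
  exfalso
  haveI : Fact (1 < p ^ n) := ⟨Nat.one_lt_pow hn.ne' hp.out.one_lt⟩
  haveI : Finite H := Finite.of_surjective (fun x => (e x).2) fun y => ⟨e.symm (1, y), by simp⟩
  have ex : ∀ (Z : Type) [Group Z] [Finite Z] [Nontrivial Z], IsPGroup p Z → ∃ z : Z, orderOf z = p := fun Z _ _ _ k =>
    exists_prime_orderOf_dvd_card' p (k.card_eq_or_dvd.resolve_left Finite.one_lt_card.ne')
  obtain ⟨a, ha⟩ := ex (Multiplicative (ZMod (p ^ n))) (.of_card (n := n) (by simp))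
  obtain ⟨b, hb⟩ := ex H ((hS.of_equiv e).of_surjective (MonoidHom.snd _ _) Prod.snd_surjective)
  have c := CfsgH2.card_omegaOne_le_of_metacyclic p2 (hS.to_subgroup ⊤) (CfsgH2.isMetacyclic_top_iff.2 hm)
  have l : (((zpowers a).prod (zpowers a)).prod (zpowers b)).map e.symm.toMonoidHom ≤ omegaOne p ⊤ := by
    rintro _ ⟨x, ⟨⟨h1, h2⟩, h3⟩, rfl⟩
    refine CfsgH2.mem_omegaOne trivial ?_
    rw [← map_pow, show x ^ p = 1 from Prod.ext (Prod.ext (orderOf_dvd_iff_pow_eq_one.1 ((orderOf_dvd_of_mem_zpowers h1).trans ha.dvd))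
      (orderOf_dvd_iff_pow_eq_one.1 ((orderOf_dvd_of_mem_zpowers h2).trans ha.dvd)))
      (orderOf_dvd_iff_pow_eq_one.1 ((orderOf_dvd_of_mem_zpowers h3).trans hb.dvd)), map_one]
  have := (card_le_of_le l).trans c
  rw [card_map_of_injective e.symm.injective, Nat.card_congr (prodEquiv _ _).toEquiv, Nat.card_prod,
    Nat.card_congr (prodEquiv _ _).toEquiv, Nat.card_prod, Nat.card_zpowers, Nat.card_zpowers, ha, hb, ← sq, ← pow_succ] at this
  have := (Nat.pow_le_pow_iff_right hp.out.one_lt).1 this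
  omega

end CfsgFS
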